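import Mathlib
import Cfsg.Agent.UThreeOdd.Act

/-!
# The hypotheses of the local analysis: `C_G(t) = GU₂(q)/Z₀`, one class of involutions, known index

`C = C_G(t)`, `q = p ^ n` odd. In `GU₂(q)` for the form with Gram matrix `antidiag(1, 1)`:
* `X` = image of the matrices `[1, b; 0, 1]`, `b ^ q = -b`; order `q`;
* `H` = image of the diagonal matrices `diag(a, a ^ -q)`; cyclic of order `(q - 1) m`;
* `Z` = image of the scalars = centre of `C`, cyclic of order `m = (q + 1) / z₀`, `z₀ = |Z₀|` odd;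
* `w` = image of `antidiag(1, 1)`;
* `φ` = `SL₂(K) → C`, `|K| = q`, `[a, b; c, d] ↦ [a, b e; c / e, d]`, `e ^ q = -e ≠ 0`.
-/

set_option autoImplicit false

namespace Cfsg.Agent.Classification.IdU.Defs

/-- The structure of `C = C_G(t)` and the global data. -/
structure LocHyp {G : Type*} [Group G] (t : G) (p n m : ℕ) (X H Z : Subgroup G) (w : G) :
    Prop where
  prime_p : p.Prime
  odd_p : Odd p
  n_pos : 1 ≤ n
  m_spec : ∃ z₀, Odd z₀ ∧ z₀ * m = p ^ n + 1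
  t_ne : t ≠ 1
  t_sq : t * t = 1
  X_t : ∀ x ∈ X, x * t = t * x
  H_t : ∀ h ∈ H, h * t = t * h
  Z_H : Z ≤ H
  t_Z : t ∈ Z
  X_comm : ∀ x ∈ X, ∀ y ∈ X, x * y = y * x
  card_X : Nat.card X = p ^ n
  card_Z : Nat.card Z = m
  card_H : Nat.card H = (p ^ n - 1) * m
  H_cyc : IsCyclic H
  Z_central : ∀ z ∈ Z, ∀ c, c * t = t * c → c * z = z * c
  H_norm : ∀ h ∈ H, ∀ x ∈ X, h * x * h⁻¹ ∈ X
  cent_X : ∀ x ∈ X, x ≠ 1 → ∀ c, c * t = t * c → c * x = x * c → ∃ v ∈ X, ∃ z ∈ Z, c = v * z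
  norm_X : ∀ c, c * t = t * c → (∀ x ∈ X, c * x * c⁻¹ ∈ X) → ∃ v ∈ X, ∃ h ∈ H, c = v * h
  w_t : w * t = t * w
  w_sq : w * w = 1
  w_H : ∀ h ∈ H, w * h * w ∈ H
  w_fix : ∀ h ∈ H, w * h * w = h → h ∈ Z
  /-- an element of `w X w` normalising `X` is trivial -/
  w_X : ∀ v ∈ X, (∀ x ∈ X, (w * v * w) * x * (w * v * w)⁻¹ ∈ X) → v = 1
  /-- `t` lies in the group generated by `X` and `w X w` -/
  gen_t : t ∈ Subgroup.closure ({x | x ∈ X} ∪ {g | ∃ x ∈ X, g = w * x * w})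
  card_C : Nat.card (Subgroup.centralizer ({t} : Set G)) =
    (p ^ n + 1) * (p ^ n * ((p ^ n - 1) * m))
  one_class : ∀ s, s * s = 1 → s ≠ 1 → ∃ g, g * t * g⁻¹ = s
  card_G : Nat.card G = p ^ (2 * n) * (p ^ (2 * n) - p ^ n + 1) *
    Nat.card (Subgroup.centralizer ({t} : Set G))

open Cfsg.Agent.UThreeOdd.Act in
/-- The subgroup `SL₂(q)` of `C`. -/
structure SLHyp {G K : Type*} [Group G] [Field K] (t : G) (p n m : ℕ) (X H Z : Subgroup G) (w : G)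
    (φ : Matrix.SpecialLinearGroup (Fin 2) K →* G) : Prop extends LocHyp t p n m X H Z w where
  card_K : Nat.card K = p ^ n
  inj : Function.Injective φ
  phi_U : ∀ z, φ (UU z) ∈ X
  exists_U : ∀ x ∈ X, ∃ z, x = φ (UU z)
  phi_neg : φ (-1) = t
  phi_D : ∀ l : Kˣ, φ (DD l) ∈ H
  phi_N : ∃ h ∈ H, φ (NN K) = w * h

end Cfsg.Agent.Classification.IdU.Defs
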