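import Mathlib
import Cfsg.Agent.Classification.IdU.Defs
import Cfsg.Agent.Classification.InvCent.InstGU

/-!
# The instance of `SLHyp` for `C_G(t) = GU₂(q)/Z₀`

In the basis `(1, κ), (1, -κ)` of isotropic vectors of `F²`: the torus `T'` of `InstGU` is the diagonal
torus `H`, the root group is the group `X` of upper unipotent matrices, `w = diag(1, -1)` swaps the
two lines.
-/

set_option autoImplicit false
set_option linter.unusedSectionVars false

open Matrix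

namespace Cfsg.Agent.Classification.IdU.Inst

open Cfsg.Agent.Classification.InvCent Cfsg.Agent.Classification.InvCent.GLTwo
  Cfsg.Agent.Classification.InvCent.GUTwo Cfsg.Agent.Classification.InvCent.InstGU
  Cfsg.Agent.Classification.IdU.Defs Cfsg.Agent.UThreeOdd.Act

section Mat

variable {F : Type*} [Field F] [Fintype F] {q : ℕ} {σ : F →+* F} {κ : Fˣ}

/-- The field of fixed points of `σ`. -/
abbrev KK (σ : F →+* F) : Subfield F := RingHom.eqLocusField σ (RingHom.id F)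

theorem sig_KK (x : KK σ) : σ (x : F) = x := x.2

theorem card_KK (P : Par F q σ κ) {δ : Fˣ} (hδ : σ δ = -(δ : F)) : Nat.card (KK σ) = q := by
  rw [← P.card_skew]
  have hd : (δ : F) ≠ 0 := δ.ne_zero
  refine Nat.card_congr ⟨fun x => ⟨δ * x, ?_⟩, fun y => ⟨(δ : F)⁻¹ * y, ?_⟩, fun x => ?_, fun y => ?_⟩
  · rw [map_mul, hδ, sig_KK, neg_mul]
  · change σ ((δ : F)⁻¹ * y) = (δ : F)⁻¹ * y
    rw [map_mul, map_inv₀, hδ, y.2, inv_neg, neg_mul_neg]
  · apply Subtype.ext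
    change (δ : F)⁻¹ * (δ * (x : F)) = x
    rw [inv_mul_cancel_left₀ hd]
  · apply Subtype.ext
    change (δ : F) * ((δ : F)⁻¹ * y) = y
    rw [mul_inv_cancel_left₀ hd]

/-- The inclusion of `SL₂(K)` in `GL₂(F)`. -/
noncomputable def io (σ : F →+* F) : SpecialLinearGroup (Fin 2) (KK σ) →* GL (Fin 2) F :=
  SpecialLinearGroup.toGL.comp (SpecialLinearGroup.map (KK σ).subtype)

theorem io_apply (A : SpecialLinearGroup (Fin 2) (KK σ)) (i j : Fin 2) :
    (io σ A).1 i j = (A.1 i j : F) := rfl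

theorem io_injective : Function.Injective (io σ) := by
  intro A B h
  apply Subtype.ext
  ext i j
  have h1 := congrArg (fun g : GL (Fin 2) F => g.1 i j) h
  exact h1

theorem det_io (A : SpecialLinearGroup (Fin 2) (KK σ)) :
    GeneralLinearGroup.det (io σ A) = 1 := by
  ext
  rw [GeneralLinearGroup.val_det_apply, det_fin_two]
  simp only [io_apply, Units.val_one]
  have h := A.2
  rw [det_fin_two] at h
  have h2 := congrArg (fun x : KK σ => (x : F)) h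
  simpa using h2

/-- The matrix with columns `δ (1, κ)` and `(1, -κ)`. -/
noncomputable def MM (h2 : (2 : F) ≠ 0) (κ δ : Fˣ) : GL (Fin 2) F :=
  mk2 δ 1 (δ * κ) (-κ) (by
    have hk : (κ : F) ≠ 0 := κ.ne_zero
    have hd : (δ : F) ≠ 0 := δ.ne_zero
    have : (δ : F) * -κ - 1 * (δ * κ) = -(2 * (δ * κ)) := by ring
    rw [this]
    exact neg_ne_zero.mpr (mul_ne_zero h2 (mul_ne_zero hd hk)))

section

variable (h2 : (2 : F) ≠ 0) (κ δ : Fˣ)

@[simp] theorem MM00 : (MM h2 κ δ).1 0 0 = δ := rfl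
@[simp] theorem MM01 : (MM h2 κ δ).1 0 1 = 1 := rfl
@[simp] theorem MM10 : (MM h2 κ δ).1 1 0 = δ * κ := rfl
@[simp] theorem MM11 : (MM h2 κ δ).1 1 1 = -κ := rfl

end

/-- The embedding of `SL₂(K)` in `GL₂(F)`. -/
noncomputable def fG (P : Par F q σ κ) (δ : Fˣ) : SpecialLinearGroup (Fin 2) (KK σ) →* GL (Fin 2) F :=
  (MulAut.conj (MM P.two_ne_zero κ δ)).toMonoidHom.comp (io σ)

theorem fG_apply (P : Par F q σ κ) (δ : Fˣ) (A : SpecialLinearGroup (Fin 2) (KK σ)) :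
    fG P δ A = MM P.two_ne_zero κ δ * io σ A * (MM P.two_ne_zero κ δ)⁻¹ := rfl

theorem fG_injective (P : Par F q σ κ) (δ : Fˣ) : Function.Injective (fG P δ) := by
  intro A B h
  exact io_injective ((MulAut.conj (MM P.two_ne_zero κ δ)).injective h)

theorem det_fG (P : Par F q σ κ) (δ : Fˣ) (A : SpecialLinearGroup (Fin 2) (KK σ)) :
    GeneralLinearGroup.det (fG P δ A) = 1 := by
  rw [fG_apply, map_mul, map_mul, map_inv, det_io, mul_one, mul_inv_cancel]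

theorem fG_eq (P : Par F q σ κ) (δ : Fˣ) (A : SpecialLinearGroup (Fin 2) (KK σ))
    {g : GL (Fin 2) F} (h00 : g.1 0 0 = (A.1 0 0 + A.1 1 1 + δ * A.1 0 1 + (δ : F)⁻¹ * A.1 1 0) / 2)
    (h01 : g.1 0 1 = (A.1 0 0 - A.1 1 1 - δ * A.1 0 1 + (δ : F)⁻¹ * A.1 1 0) / 2 * (κ : F)⁻¹)
    (h10 : g.1 1 0 = (A.1 0 0 - A.1 1 1 + δ * A.1 0 1 - (δ : F)⁻¹ * A.1 1 0) / 2 * κ)
    (h11 : g.1 1 1 = (A.1 0 0 + A.1 1 1 - δ * A.1 0 1 - (δ : F)⁻¹ * A.1 1 0) / 2) :
    fG P δ A = g := by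
  rw [fG_apply, mul_inv_eq_iff_eq_mul]
  have h2 := P.two_ne_zero
  have hk : (κ : F) ≠ 0 := κ.ne_zero
  have hd : (δ : F) ≠ 0 := δ.ne_zero
  apply ext2
  · rw [m00, m00, h00, h01, MM00, MM01, MM10]
    simp only [io_apply]
    field_simp
    ring
  · rw [m01, m01, h00, h01, MM00, MM01, MM11]
    simp only [io_apply]
    field_simp
    ring
  · rw [m10, m10, h10, h11, MM00, MM10, MM11]
    simp only [io_apply]
    field_simp
    ring
  · rw [m11, m11, h10, h11, MM01, MM10, MM11]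
    simp only [io_apply]
    field_simp
    ring

/-- The explicit matrix. -/
theorem exists_fG (P : Par F q σ κ) (δ : Fˣ) (A : SpecialLinearGroup (Fin 2) (KK σ)) :
    (fG P δ A).1 0 0 = (A.1 0 0 + A.1 1 1 + δ * A.1 0 1 + (δ : F)⁻¹ * A.1 1 0) / 2 ∧
    (fG P δ A).1 0 1 = (A.1 0 0 - A.1 1 1 - δ * A.1 0 1 + (δ : F)⁻¹ * A.1 1 0) / 2 * (κ : F)⁻¹ ∧
    (fG P δ A).1 1 0 = (A.1 0 0 - A.1 1 1 + δ * A.1 0 1 - (δ : F)⁻¹ * A.1 1 0) / 2 * κ ∧
    (fG P δ A).1 1 1 = (A.1 0 0 + A.1 1 1 - δ * A.1 0 1 - (δ : F)⁻¹ * A.1 1 0) / 2 := by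
  have hA := A.2
  rw [det_fin_two] at hA
  have hA' : (A.1 0 0 : F) * A.1 1 1 - A.1 0 1 * A.1 1 0 = 1 := by
    have h2 := congrArg (fun x : KK σ => (x : F)) hA
    simpa using h2
  have h2 := P.two_ne_zero
  have hk : (κ : F) ≠ 0 := κ.ne_zero
  have hd : (δ : F) ≠ 0 := δ.ne_zero
  have hdet : (((A.1 0 0 : F) + A.1 1 1 + δ * A.1 0 1 + (δ : F)⁻¹ * A.1 1 0) / 2) *
      (((A.1 0 0 : F) + A.1 1 1 - δ * A.1 0 1 - (δ : F)⁻¹ * A.1 1 0) / 2) -
      (((A.1 0 0 : F) - A.1 1 1 - δ * A.1 0 1 + (δ : F)⁻¹ * A.1 1 0) / 2 * (κ : F)⁻¹) *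
      (((A.1 0 0 : F) - A.1 1 1 + δ * A.1 0 1 - (δ : F)⁻¹ * A.1 1 0) / 2 * κ) = 1 := by
    rw [← hA']
    field_simp
    ring
  have hne := ne_of_eq_of_ne hdet (one_ne_zero (α := F))
  have h := fG_eq P δ A (g := mk2 _ _ _ _ hne) rfl rfl rfl rfl
  rw [h]
  exact ⟨rfl, rfl, rfl, rfl⟩

theorem fG_mem (P : Par F q σ κ) {δ : Fˣ} (hδ : σ δ = -(δ : F))
    (A : SpecialLinearGroup (Fin 2) (KK σ)) : fG P δ A ∈ Cfsg.GU 2 F q := by
  obtain ⟨h00, h01, h10, h11⟩ := exists_fG P δ A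
  have hA := A.2
  rw [det_fin_two] at hA
  have hA' : (A.1 0 0 : F) * A.1 1 1 - A.1 0 1 * A.1 1 0 = 1 := by
    have h2 := congrArg (fun x : KK σ => (x : F)) hA
    simpa using h2
  have h2 := P.two_ne_zero
  have hk : (κ : F) ≠ 0 := κ.ne_zero
  have hd : (δ : F) ≠ 0 := δ.ne_zero
  have hsk := P.sig_kap
  rw [P.mem_iff, h00, h01, h10, h11]
  simp only [map_mul, map_div₀, map_add, map_sub, map_inv₀, hsk, map_ofNat, hδ, sig_KK]
  refine ⟨?_, ?_, ?_⟩
  · field_simp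
    linear_combination 4 * (δ : F) ^ 2 * hA'
  · field_simp
    linear_combination 4 * (δ : F) ^ 2 * hA'
  · field_simp
    ring

/-- The embedding of `SL₂(K)` in `GU₂(q)`. -/
noncomputable def fU (P : Par F q σ κ) {δ : Fˣ} (hδ : σ δ = -(δ : F)) :
    SpecialLinearGroup (Fin 2) (KK σ) →* Cfsg.GU 2 F q :=
  (fG P δ).codRestrict (Cfsg.GU 2 F q) (fG_mem P hδ)

theorem fU_val (P : Par F q σ κ) {δ : Fˣ} (hδ : σ δ = -(δ : F))
    (A : SpecialLinearGroup (Fin 2) (KK σ)) : (fU P hδ A : GL (Fin 2) F) = fG P δ A := rfl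

theorem fU_injective (P : Par F q σ κ) {δ : Fˣ} (hδ : σ δ = -(δ : F)) :
    Function.Injective (fU P hδ) := fun _ _ h => fG_injective P δ (congrArg Subtype.val h)

theorem dt_fU (P : Par F q σ κ) {δ : Fˣ} (hδ : σ δ = -(δ : F))
    (A : SpecialLinearGroup (Fin 2) (KK σ)) : dt F q (fU P hδ A) = 1 := by
  rw [dt_apply, fU_val, det_fG]

theorem fG_UU (P : Par F q σ κ) (δ : Fˣ) (z : KK σ) :
    fG P δ (UU z) = uq κ (δ * z / 2) := by
  have h2 := P.two_ne_zero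
  apply fG_eq
  · simp [UU]
    field_simp
    ring
  · simp [UU]
    field_simp
  · simp [UU]
  · simp [UU]
    field_simp
    ring

theorem fG_DD (P : Par F q σ κ) (δ : Fˣ) (l : (KK σ)ˣ) :
    fG P δ (DD l) = tq P.two_ne_zero κ (Units.map (KK σ).subtype l) (Units.map (KK σ).subtype l)⁻¹ := by
  apply fG_eq
  · simp [DD]
  · simp [DD]
  · simp [DD]
  · simp [DD]

theorem fG_neg (P : Par F q σ κ) (δ : Fˣ) : fG P δ (-1) = dg (-1) (-1) := by
  have h2 := P.two_ne_zero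
  apply fG_eq
  · simp
    field_simp
    norm_num
  · simp
  · simp
  · simp
    field_simp
    norm_num

theorem sg_fG_NN (P : Par F q σ κ) (δ : Fˣ) : sg * fG P δ (NN (KK σ)) ∈ Tns (dk κ) := by
  obtain ⟨h00, h01, h10, h11⟩ := exists_fG P δ (NN (KK σ))
  have hk : (κ : F) ≠ 0 := κ.ne_zero
  have hd : (δ : F) ≠ 0 := δ.ne_zero
  rw [mem_Tns]
  rw [m00, m01, m10, m11, h00, h01, h10, h11]
  simp [NN, dk]
  constructor
  · ring
  · field_simp
    ring

end Mat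

section Grp

variable {F : Type*} [Field F] [Fintype F] {q : ℕ} {σ : F →+* F} {κ : Fˣ} {C : Type*} [Group C]
  {ψ : Cfsg.GU 2 F q →* C}

/-- The embedding of `SL₂(K)` in `C`. -/
noncomputable def fC (S : Setup q σ κ ψ) {δ : Fˣ} (hδ : σ δ = -(δ : F)) :
    SpecialLinearGroup (Fin 2) (KK σ) →* C := ψ.comp (fU S.par hδ)

theorem fC_apply (S : Setup q σ κ ψ) {δ : Fˣ} (hδ : σ δ = -(δ : F))
    (A : SpecialLinearGroup (Fin 2) (KK σ)) : fC S hδ A = ψ (fU S.par hδ A) := rfl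

theorem fC_injective (S : Setup q σ κ ψ) {δ : Fˣ} (hδ : σ δ = -(δ : F)) :
    Function.Injective (fC S hδ) := by
  rw [injective_iff_map_eq_one]
  intro A h
  have h1 := S.eq_one_of_det h (dt_fU S.par hδ A)
  exact (injective_iff_map_eq_one _).mp (fU_injective S.par hδ) A h1

theorem fC_UU (S : Setup q σ κ ψ) {δ : Fˣ} (hδ : σ δ = -(δ : F)) (z : KK σ) :
    fC S hδ (UU z) ∈ gU σ κ ψ := by
  have h : σ (δ * z / 2) = -(δ * z / 2) := by
    rw [map_div₀, map_mul, hδ, sig_KK, map_ofNat, neg_mul, neg_div]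
  refine ⟨uqU S.par ⟨_, h⟩, uqU_mem S.par _, ?_⟩
  rw [fC_apply]
  congr 1
  exact Subtype.ext (fG_UU S.par δ z).symm

theorem exists_fC_UU (S : Setup q σ κ ψ) {δ : Fˣ} (hδ : σ δ = -(δ : F)) {x : C}
    (hx : x ∈ gU σ κ ψ) : ∃ z, x = fC S hδ (UU z) := by
  obtain ⟨g, hg, rfl⟩ := hx
  obtain ⟨μ, rfl⟩ := exists_uqU S.par hg
  have hd : (δ : F) ≠ 0 := δ.ne_zero
  have h2 := S.two_ne_zero
  have hz : σ (2 * (δ : F)⁻¹ * μ.1) = 2 * (δ : F)⁻¹ * μ.1 := by
    rw [map_mul, map_mul, map_inv₀, hδ, μ.2, map_ofNat, inv_neg]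
    ring
  refine ⟨⟨_, hz⟩, ?_⟩
  rw [fC_apply]
  congr 1
  apply Subtype.ext
  rw [fU_val, fG_UU]
  change uq κ μ.1 = _
  congr 1
  field_simp

theorem fC_neg (S : Setup q σ κ ψ) {δ : Fˣ} (hδ : σ δ = -(δ : F)) :
    fC S hδ (-1) = gt S.par ψ := by
  rw [fC_apply, gt]
  congr 1
  exact Subtype.ext (fG_neg S.par δ)

theorem fC_DD (S : Setup q σ κ ψ) {δ : Fˣ} (hδ : σ δ = -(δ : F)) (l : (KK σ)ˣ) :
    fC S hδ (DD l) ∈ gT' κ ψ := by
  rw [fC_apply, S.mem_gT', mem_TH', fU_val, fG_DD]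
  exact tq_mem _ _ _ _

theorem fC_NN (S : Setup q σ κ ψ) {δ : Fˣ} (hδ : σ δ = -(δ : F)) :
    ∃ h ∈ gT' κ ψ, fC S hδ (NN (KK σ)) = ψ (sgU S.par) * h := by
  refine ⟨ψ (sgU S.par * fU S.par hδ (NN (KK σ))), ?_, ?_⟩
  · rw [S.mem_gT', mem_TH']
    exact sg_fG_NN S.par δ
  · rw [map_mul, ← mul_assoc, ← map_mul, sgU_mul, map_one, one_mul, fC_apply]

/-- The normaliser of the root group. -/
theorem norm_X (S : Setup q σ κ ψ) {c : C}
    (hc : ∀ x ∈ gU σ κ ψ, c * x * c⁻¹ ∈ gU σ κ ψ) :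
    ∃ v ∈ gU σ κ ψ, ∃ h ∈ gT' κ ψ, c = v * h := by
  obtain ⟨δ, hδ⟩ := S.par.exists_skew
  have h0 : ∀ μ : {μ : F // σ μ = -μ}, ψ (uqU S.par μ) ≠ 1 → μ.1 ≠ 0 := by
    intro μ h1 h0
    apply h1
    have : uqU S.par μ = 1 := Subtype.ext (by
      change uq κ μ.1 = 1
      rw [h0, uq_zero])
    rw [this, map_one]
  set x : C := ψ (uqU S.par ⟨(δ : F), hδ⟩) with hx
  have hx1 : x ≠ 1 := by
    intro h
    have h1 := S.eq_one_of_det h (dt_uqU S.par _)
    have h2 : uq κ (δ : F) = uq κ 0 := by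
      rw [uq_zero]
      exact congrArg Subtype.val h1
    exact δ.ne_zero (uq_injective κ h2)
  have hxU : x ∈ gU σ κ ψ := ⟨_, uqU_mem S.par _, rfl⟩
  obtain ⟨g, hg, hgx⟩ := hc x hxU
  obtain ⟨ν, rfl⟩ := exists_uqU S.par hg
  have hν0 : ν.1 ≠ 0 := by
    apply h0
    rw [hgx]
    intro h
    apply hx1
    rw [mul_inv_eq_one] at h
    exact mul_left_cancel (h.trans (mul_one c).symm)
  obtain ⟨a, ha⟩ := S.par.exists_conj_uq hδ ν.2 δ.ne_zero hν0
  set τ : C := ψ (tpU S.par a) with hτ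
  have hτT : τ ∈ gT' κ ψ := ⟨_, tpU_mem S.par a, rfl⟩
  have hτx : τ * x * τ⁻¹ = c * x * c⁻¹ := by
    rw [← hgx, hτ, hx, S.conj_eq]
    congr 1
    exact Subtype.ext ha
  have hcomm : τ⁻¹ * c * x = x * (τ⁻¹ * c) := by
    have h1 : τ * x * τ⁻¹ * c = c * x := by
      rw [hτx, inv_mul_cancel_right]
    calc τ⁻¹ * c * x = τ⁻¹ * (τ * x * τ⁻¹ * c) := by rw [h1, mul_assoc]
      _ = x * (τ⁻¹ * c) := by group
  obtain ⟨z, hz, v, hv, hzv⟩ := S.cHyp.cent_U x hxU hx1 _ hcomm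
  have hzT : z ∈ gT' κ ψ := S.cHyp.Z_le_T' hz
  have h2 : τ * z ∈ gT' κ ψ := mul_mem hτT hzT
  refine ⟨τ * z * v * (τ * z)⁻¹, S.norm_U _ h2 v hv, τ * z, h2, ?_⟩
  rw [inv_mul_cancel_right, mul_assoc, ← hzv, mul_inv_cancel_left]

end Grp

/-! ### Consequences for `SL₂` -/

section SL

variable {K G : Type*} [Field K] [Group G]

/-- The lower unipotent matrices. -/
def LL (z : K) : SpecialLinearGroup (Fin 2) K := ⟨!![1, 0; -z, 1], by simp⟩

theorem NN_UU_inv (z : K) : NN K * UU z * (NN K)⁻¹ = LL z := by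
  rw [mul_inv_eq_iff_eq_mul]
  apply Subtype.ext
  change !![0, 1; -1, 0] * !![1, z; 0, 1] = !![1, 0; -z, 1] * !![0, 1; -1, 0]
  ext i j
  fin_cases i <;> fin_cases j <;> simp [Matrix.mul_apply, Fin.sum_univ_two]

theorem NN_eq : NN K = UU 1 * (NN K * UU 1 * (NN K)⁻¹) * UU 1 := by
  rw [NN_UU_inv]
  apply Subtype.ext
  change !![0, 1; -1, 0] = !![1, 1; 0, 1] * !![1, 0; -1, 1] * !![1, 1; 0, 1]
  ext i j
  fin_cases i <;> fin_cases j <;> simp [Matrix.mul_apply, Fin.sum_univ_two]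

/-- A lower unipotent matrix normalising the upper unipotent matrices is trivial. -/
theorem eq_zero_of_norm {z y : K}
    (h : NN K * UU z * (NN K)⁻¹ * UU 1 = UU y * (NN K * UU z * (NN K)⁻¹)) : z = 0 := by
  rw [NN_UU_inv] at h
  have h1 := congrArg (fun A : SpecialLinearGroup (Fin 2) K => A.1 1 1) h
  change (!![1, 0; -z, 1] * !![1, 1; 0, 1] : Matrix (Fin 2) (Fin 2) K) 1 1 =
    (!![1, y; 0, 1] * !![1, 0; -z, 1] : Matrix (Fin 2) (Fin 2) K) 1 1 at h1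
  simp [Matrix.mul_apply, Fin.sum_univ_two] at h1
  exact h1

variable {X H : Subgroup G} {w : G} {φ : SpecialLinearGroup (Fin 2) K →* G}

theorem w_conj (hw : w * w = 1) (hN : ∃ h ∈ H, φ (NN K) = w * h) (hHX : ∀ h ∈ H, ∀ x ∈ X, h * x * h⁻¹ ∈ X)
    (hX : ∀ x ∈ X, ∃ z, x = φ (UU z)) {v : G} (hv : v ∈ X) :
    ∃ z, w * v * w = φ (NN K * UU z * (NN K)⁻¹) ∧ (z = 0 → v = 1) := by
  obtain ⟨h, hh, hN⟩ := hN
  obtain ⟨z, hz⟩ := hX (h⁻¹ * v * h) (by simpa using hHX h⁻¹ (inv_mem hh) v hv)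
  refine ⟨z, ?_, ?_⟩
  · rw [map_mul, map_mul, map_inv, ← hz, hN, _root_.mul_inv_rev]
    have hw' : w⁻¹ = w := inv_eq_of_mul_eq_one_left hw
    rw [hw']
    group
  · rintro rfl
    have h1 : UU (0 : K) = 1 := by
      apply Subtype.ext
      ext i j
      fin_cases i <;> fin_cases j <;> simp [UU]
    rw [h1, map_one] at hz
    calc v = h * (h⁻¹ * v * h) * h⁻¹ := by group
      _ = 1 := by rw [hz, mul_one, mul_inv_cancel]

theorem w_X (hinj : Function.Injective φ) (hU : ∀ z, φ (UU z) ∈ X)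
    (hw : w * w = 1) (hN : ∃ h ∈ H, φ (NN K) = w * h) (hHX : ∀ h ∈ H, ∀ x ∈ X, h * x * h⁻¹ ∈ X)
    (hX : ∀ x ∈ X, ∃ z, x = φ (UU z)) {v : G} (hv : v ∈ X)
    (hvn : ∀ x ∈ X, (w * v * w) * x * (w * v * w)⁻¹ ∈ X) : v = 1 := by
  obtain ⟨z, hz, hz0⟩ := w_conj hw hN hHX hX hv
  apply hz0
  obtain ⟨y, hy⟩ := hX _ (hvn (φ (UU 1)) (hU 1))
  rw [hz, mul_inv_eq_iff_eq_mul, ← map_mul, ← map_mul] at hy
  exact eq_zero_of_norm (hinj hy)

theorem gen_t {t : G} (ht : φ (-1) = t) (hU : ∀ z, φ (UU z) ∈ X)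
    (hw : w * w = 1) (hN : ∃ h ∈ H, φ (NN K) = w * h) (hHX : ∀ h ∈ H, ∀ x ∈ X, h * x * h⁻¹ ∈ X) :
    t ∈ Subgroup.closure ({x | x ∈ X} ∪ {g | ∃ x ∈ X, g = w * x * w}) := by
  set D := Subgroup.closure ({x | x ∈ X} ∪ {g | ∃ x ∈ X, g = w * x * w}) with hD
  have h1 : φ (UU 1) ∈ D := Subgroup.subset_closure (Or.inl (hU 1))
  have h2 : φ (NN K * UU 1 * (NN K)⁻¹) ∈ D := by
    obtain ⟨h, hh, hN'⟩ := hN
    have h3 : h * φ (UU 1) * h⁻¹ ∈ X := hHX h hh _ (hU 1)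
    have h4 : φ (NN K * UU 1 * (NN K)⁻¹) = w * (h * φ (UU 1) * h⁻¹) * w := by
      have hw' : w⁻¹ = w := inv_eq_of_mul_eq_one_left hw
      rw [map_mul, map_mul, map_inv, hN', _root_.mul_inv_rev, hw']
      group
    rw [h4]
    exact Subgroup.subset_closure (Or.inr ⟨_, h3, rfl⟩)
  have h3 : φ (NN K) ∈ D := by
    rw [NN_eq, map_mul, map_mul]
    exact mul_mem (mul_mem h1 h2) h1
  rw [← ht, ← NN_mul_NN, map_mul]
  exact mul_mem h3 h3

end SL

section Main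

variable {F : Type*} [Field F] [Fintype F] {q : ℕ} {G : Type*} [Group G] {t : G}

theorem mem_C {c : G} (h : c * t = t * c) : c ∈ Subgroup.centralizer ({t} : Set G) :=
  Subgroup.mem_centralizer_singleton_iff.mpr h

theorem C_mem (c : Subgroup.centralizer ({t} : Set G)) : (c : G) * t = t * c :=
  Subgroup.mem_centralizer_singleton_iff.mp c.2

theorem card_map_C (L : Subgroup (Subgroup.centralizer ({t} : Set G))) :
    Nat.card (L.map (Subgroup.centralizer ({t} : Set G)).subtype) = Nat.card L :=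
  Nat.card_congr (L.equivMapOfInjective _ (Subgroup.subtype_injective _)).symm.toEquiv

/-- **The instance.** -/
theorem exists_SLHyp (hq : Odd q) (hF : Fintype.card F = q ^ 2)
    (Z₀ : Subgroup (Cfsg.GU 2 F q)) [Z₀.Normal] (hZc : Z₀ ≤ Subgroup.center (Cfsg.GU 2 F q))
    (hZo : Odd (Nat.card Z₀)) (ht : orderOf t = 2)
    (hC : Nonempty (Subgroup.centralizer ({t} : Set G) ≃* (Cfsg.GU 2 F q ⧸ Z₀)))
    (hone : ∀ s : G, s * s = 1 → s ≠ 1 → ∃ g, g * t * g⁻¹ = s)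
    (hG : Nat.card G = q ^ 2 * (q ^ 2 - q + 1) * Nat.card (Subgroup.centralizer ({t} : Set G))) :
    ∃ (σ : F →+* F) (p n m : ℕ) (X H Z : Subgroup G) (w : G)
      (φ : SpecialLinearGroup (Fin 2) (KK σ) →* G),
      q = p ^ n ∧ Nat.card (KK σ) = q ∧ SLHyp t p n m X H Z w φ := by
  obtain ⟨e⟩ := hC
  obtain ⟨σ, κ, ψ, S, -, -⟩ := exists_setup hq hF Z₀ hZc hZo e
  obtain ⟨δ, hδ⟩ := S.par.exists_skew
  have htC : t ∈ Subgroup.centralizer ({t} : Set G) := mem_C rfl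
  have hte : (⟨t, htC⟩ : Subgroup.centralizer ({t} : Set G)) = gt S.par ψ := by
    refine S.eq_neg_one (by rw [← ht, ← Subgroup.orderOf_coe]) ?_
    rintro ⟨c, hc⟩
    exact Subtype.ext (Subgroup.mem_centralizer_singleton_iff.mp hc)
  have hte' : ((gt S.par ψ : Subgroup.centralizer ({t} : Set G)) : G) = t := by rw [← hte]
  have hc := S.cHyp
  obtain ⟨p, n, hp, hn, hqp⟩ := InstGU.exists_prime_pow hF hc.one_lt_q
  set J := (Subgroup.centralizer ({t} : Set G)).subtype with hJ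
  have hJa : ∀ c, J c = (c : G) := fun c => rfl
  have hJi : Function.Injective J := Subgroup.subtype_injective _
  have htt : t * t = 1 := by rw [← sq, ← ht, pow_orderOf_eq_one]
  have hww : ((ψ (sgU S.par) : Subgroup.centralizer ({t} : Set G)) : G) * ψ (sgU S.par) = 1 := by
    rw [← Subgroup.coe_mul, hc.s'_sq, Subgroup.coe_one]
  have hK := card_KK S.par hδ
  have HX : ∀ h ∈ (gT' κ ψ).map J, ∀ x ∈ (gU σ κ ψ).map J, h * x * h⁻¹ ∈ (gU σ κ ψ).map J := by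
    rintro _ ⟨h, hh, rfl⟩ _ ⟨x, hx, rfl⟩
    rw [← map_mul, ← map_inv, ← map_mul]
    exact Subgroup.mem_map_of_mem J (S.norm_U h hh x hx)
  have hU : ∀ z, (J.comp (fC S hδ)) (UU z) ∈ (gU σ κ ψ).map J := fun z =>
    Subgroup.mem_map_of_mem J (fC_UU S hδ z)
  have hXU : ∀ x ∈ (gU σ κ ψ).map J, ∃ z, x = (J.comp (fC S hδ)) (UU z) := by
    rintro _ ⟨x, hx, rfl⟩
    obtain ⟨z, rfl⟩ := exists_fC_UU S hδ hx
    exact ⟨z, rfl⟩
  have hN : ∃ h ∈ (gT' κ ψ).map J, (J.comp (fC S hδ)) (NN (KK σ)) = J (ψ (sgU S.par)) * h := by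
    obtain ⟨h, hh, hN⟩ := fC_NN S hδ
    exact ⟨J h, Subgroup.mem_map_of_mem J hh, by rw [MonoidHom.comp_apply, hN, map_mul]⟩
  have hinj : Function.Injective (J.comp (fC S hδ)) := hJi.comp (fC_injective S hδ)
  have hneg : (J.comp (fC S hδ)) (-1) = t := by
    rw [MonoidHom.comp_apply, fC_neg, hJa, hte']
  obtain ⟨m, hm⟩ : ∃ m, m = Nat.card (gZ ψ) := ⟨_, rfl⟩
  refine ⟨σ, p, n, m, (gU σ κ ψ).map J, (gT' κ ψ).map J, (gZ ψ).map J,
    J (ψ (sgU S.par)), J.comp (fC S hδ), hqp, hK, ?_⟩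
  exact
    { prime_p := hp
      odd_p := by
        have h := S.par.odd
        rw [hqp] at h
        exact (Nat.odd_pow_iff (by omega)).mp h
      n_pos := hn
      m_spec := ⟨Nat.card ψ.ker, S.odd_ker, by rw [hm, S.card_gZ, hqp]⟩
      t_ne := by
        rintro rfl
        rw [orderOf_one] at ht
        omega
      t_sq := htt
      X_t := by
        rintro _ ⟨x, hx, rfl⟩
        exact C_mem x
      H_t := by
        rintro _ ⟨x, hx, rfl⟩
        exact C_mem x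
      Z_H := Subgroup.map_mono hc.Z_le_T'
      t_Z := ⟨_, hc.t_mem, hte'⟩
      X_comm := by
        rintro _ ⟨x, hx, rfl⟩ _ ⟨y, hy, rfl⟩
        rw [← map_mul, hc.U_comm x hx y hy, map_mul]
      card_X := by rw [card_map_C, hc.card_U, hqp]
      card_Z := (card_map_C _).trans hm.symm
      card_H := by rw [card_map_C, S.card_gT', ← hm, hqp, mul_comm]
      H_cyc := by
        have := hc.T'_cyclic
        exact isCyclic_of_surjective (J.subgroupMap (gT' κ ψ)) (J.subgroupMap_surjective (gT' κ ψ))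
      Z_central := by
        rintro _ ⟨z, hz, rfl⟩ c hct
        exact congrArg Subtype.val (hc.Z_central z hz ⟨c, mem_C hct⟩)
      H_norm := HX
      cent_X := by
        rintro _ ⟨x, hx, rfl⟩ hx1 c hct hcx
        have hx1' : x ≠ 1 := by
          rintro rfl
          exact hx1 (map_one J)
        obtain ⟨z, hz, v, hv, h⟩ := hc.cent_U x hx hx1' ⟨c, mem_C hct⟩ (Subtype.ext hcx)
        refine ⟨J v, Subgroup.mem_map_of_mem J hv, J z, Subgroup.mem_map_of_mem J hz, ?_⟩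
        rw [← map_mul, hc.Z_central z hz v, ← h]
        rfl
      norm_X := by
        intro c hct h
        obtain ⟨v, hv, y, hy, h'⟩ := norm_X S (c := ⟨c, mem_C hct⟩) (by
          intro x hx
          obtain ⟨x', hx', hxx⟩ := h (J x) (Subgroup.mem_map_of_mem J hx)
          have : x' = ⟨c, mem_C hct⟩ * x * (⟨c, mem_C hct⟩)⁻¹ := Subtype.ext hxx
          rw [← this]
          exact hx')
        refine ⟨J v, Subgroup.mem_map_of_mem J hv, J y, Subgroup.mem_map_of_mem J hy, ?_⟩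
        rw [← map_mul, ← h']
        rfl
      w_t := C_mem _
      w_sq := hww
      w_H := by
        rintro _ ⟨h, hh, rfl⟩
        have h1 := hc.s'_conj h hh
        have h2 : (ψ (sgU S.par))⁻¹ = ψ (sgU S.par) := inv_eq_of_mul_eq_one_left hc.s'_sq
        rw [h2] at h1
        rw [← map_mul, ← map_mul]
        exact Subgroup.mem_map_of_mem J h1
      w_fix := by
        rintro _ ⟨h, hh, rfl⟩ h1
        rw [← map_mul, ← map_mul] at h1
        have h2 := hJi h1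
        refine Subgroup.mem_map_of_mem J ?_
        by_contra h3
        apply hc.s'_notMem
        apply hc.cent_T' h hh h3
        calc ψ (sgU S.par) * h = ψ (sgU S.par) * h * (ψ (sgU S.par) * ψ (sgU S.par)) := by
              rw [hc.s'_sq, mul_one]
          _ = h * ψ (sgU S.par) := by rw [← mul_assoc, h2]
      w_X := fun v hv hvn => w_X hinj hU hww hN HX hXU hv hvn
      gen_t := gen_t hneg hU hww hN HX
      card_C := by
        rw [hc.card_C, ← hm, hqp]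
        have h1 : 1 ≤ p ^ n := Nat.one_le_pow _ _ hp.pos
        obtain ⟨r, hr⟩ := Nat.exists_eq_add_of_le h1
        have h2 : (p ^ n) ^ 2 - 1 = (p ^ n + 1) * (p ^ n - 1) := by
          rw [hr]
          have : (1 + r) ^ 2 - 1 = r * (r + 2) := by
            rw [show (1 + r) ^ 2 = r * (r + 2) + 1 by ring]
            omega
          rw [this, Nat.add_sub_cancel_left]
          ring
        rw [h2]
        ring
      one_class := hone
      card_G := by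
        rw [hG, hqp, ← pow_mul, mul_comm n 2]
      card_K := by rw [hK, hqp]
      inj := hinj
      phi_U := hU
      exists_U := hXU
      phi_neg := hneg
      phi_D := fun l => Subgroup.mem_map_of_mem J (fC_DD S hδ l)
      phi_N := hN }

end Main

end Cfsg.Agent.Classification.IdU.Inst
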