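import Mathlib
import Cfsg.Agent.CharactersDeep.QuatSylow

/-!
# General lemmas for the local analysis of groups with an involution centralizer `GU₂(q)/Z`

Sylow 2-subgroups seen in the centralizer of an involution, groups with cyclic Sylow 2-subgroups,
an involution acting on elements of odd order, free actions.
-/

set_option autoImplicit false

namespace Cfsg.Agent.Classification.IdU.Gen

variable {G : Type*} [Group G]

/-- In a cyclic group there is at most one involution. -/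
theorem eq_of_sq_of_isCyclic (S : Subgroup G) (hc : IsCyclic S) {x y : G} (hx : x ∈ S) (hy : y ∈ S)
    (hx2 : x * x = 1) (hy2 : y * y = 1) (hx1 : x ≠ 1) (hy1 : y ≠ 1) : x = y := by
  obtain ⟨g, hg⟩ := hc.exists_generator
  obtain ⟨a, ha⟩ := Subgroup.mem_zpowers_iff.mp (hg ⟨x, hx⟩)
  obtain ⟨b, hb⟩ := Subgroup.mem_zpowers_iff.mp (hg ⟨y, hy⟩)
  have ha' : (g : G) ^ a = x := by rw [← Subgroup.coe_zpow, ha]
  have hb' : (g : G) ^ b = y := by rw [← Subgroup.coe_zpow, hb]
  -- orderOf g divides 2a and 2b, not a, not b, so a - b is a multiple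
  set N : ℤ := (orderOf (g : G) : ℤ) with hN
  have h1 : N ∣ a + a := by
    rw [hN, orderOf_dvd_iff_zpow_eq_one, zpow_add, ha', hx2]
  have h2 : N ∣ b + b := by
    rw [hN, orderOf_dvd_iff_zpow_eq_one, zpow_add, hb', hy2]
  have h3 : ¬ N ∣ a := by
    rw [hN, orderOf_dvd_iff_zpow_eq_one, ha']; exact hx1
  have h4 : ¬ N ∣ b := by
    rw [hN, orderOf_dvd_iff_zpow_eq_one, hb']; exact hy1
  have h5 : N ∣ a - b := by
    obtain ⟨c, hc⟩ := h1
    obtain ⟨d, hd⟩ := h2
    have hco : ¬ (2 : ℤ) ∣ c := by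
      rintro ⟨e, rfl⟩
      exact h3 ⟨e, by linarith⟩
    have hdo : ¬ (2 : ℤ) ∣ d := by
      rintro ⟨e, rfl⟩
      exact h4 ⟨e, by linarith⟩
    obtain ⟨e, he⟩ : (2 : ℤ) ∣ c - d := by omega
    exact ⟨e, by
      have : 2 * (a - b) = 2 * (N * e) := by
        have : c = d + 2 * e := by linarith
        subst this
        linarith
      linarith⟩
  have h6 : (g : G) ^ (a - b) = 1 := by
    rw [← orderOf_dvd_iff_zpow_eq_one]; exact h5
  rw [zpow_sub, ha', hb'] at h6
  exact mul_inv_eq_one.mp h6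

/-- If `t ∈ S ≤ R`, `t` is the only involution of the `2`-group `S` and `S` has odd index in
`R ∩ C(t)`, then `S` has odd index in `R`. -/
theorem not_dvd_relIndex [Finite G] {t : G} (R S : Subgroup G)
    (hS : IsPGroup 2 S) (hSR : S ≤ R) (htS : t ∈ S) (ht1 : t ≠ 1) (ht2 : t * t = 1)
    (hu : ∀ s ∈ S, s * s = 1 → s ≠ 1 → s = t)
    (hR : ¬ 2 ∣ S.relIndex (R ⊓ Subgroup.centralizer {t})) : ¬ 2 ∣ S.relIndex R := by
  classical
  have : Fact (Nat.Prime 2) := ⟨Nat.prime_two⟩
  have hSC : S ≤ Subgroup.centralizer {t} := by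
    intro s hs
    rw [Subgroup.mem_centralizer_singleton_iff]
    -- `s * t * s⁻¹` is an involution of `S`
    have h1 : s * t * s⁻¹ = t := by
      apply hu _ (S.mul_mem (S.mul_mem hs htS) (S.inv_mem hs))
      · have : s * t * s⁻¹ * (s * t * s⁻¹) = s * (t * t) * s⁻¹ := by group
        rw [this, ht2]; group
      · intro h
        apply ht1
        have : t = s⁻¹ * (s * t * s⁻¹) * s := by group
        rw [this, h]; group
    have : s * t = (s * t * s⁻¹) * s := by group
    rw [this, h1]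
  -- a Sylow subgroup of `R` containing `S`
  have hS' : IsPGroup 2 (S.subgroupOf R) := hS.of_equiv (Subgroup.subgroupOfEquivOfLe hSR).symm
  obtain ⟨T, hT⟩ := hS'.exists_le_sylow
  by_cases hST : S.subgroupOf R = (T : Subgroup R)
  · have : S.relIndex R = (T : Subgroup R).index := by
      rw [Subgroup.relIndex, hST]
    rw [this]
    exact T.not_dvd_index
  · exfalso
    -- work in `T`
    have hTn : Group.IsNilpotent (T : Subgroup R) := T.isPGroup'.isNilpotent
    have hlt : (S.subgroupOf R).subgroupOf T < ⊤ := by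
      rw [lt_top_iff_ne_top]
      intro h
      apply hST
      apply le_antisymm hT
      exact Subgroup.subgroupOf_eq_top.mp h
    have hn := Group.normalizerCondition_of_isNilpotent (h := hTn) _ hlt
    obtain ⟨g, hg1, hg2⟩ := SetLike.exists_of_lt hn
    -- the subgroup generated by `S` and `g`
    have hgt : ((g : R) : G) ∈ Subgroup.normalizer (S : Set G) := by
      rw [Subgroup.mem_normalizer_iff]
      intro x
      have key := (Subgroup.mem_normalizer_iff.mp hg1)
      constructor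
      · intro hx
        have h1 := (key ⟨⟨x, hSR hx⟩, hT hx⟩).mp hx
        exact h1
      · intro hx
        have hxR : x ∈ R := by
          have : x = ((g : R) : G)⁻¹ * (((g : R) : G) * x * ((g : R) : G)⁻¹) * ((g : R) : G) := by group
          rw [this]
          exact R.mul_mem (R.mul_mem (R.inv_mem (g : R).2) (hSR hx)) (g : R).2
        have hxT : (⟨x, hxR⟩ : R) ∈ (T : Subgroup R) := by
          have h2 : (⟨((g : R) : G) * x * ((g : R) : G)⁻¹, hSR hx⟩ : R) ∈ (T : Subgroup R) := hT hx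
          have : (⟨x, hxR⟩ : R) = (g : R)⁻¹ * ⟨((g : R) : G) * x * ((g : R) : G)⁻¹, hSR hx⟩ * (g : R) := by
            ext
            simp only [Subgroup.coe_mul, Subgroup.coe_inv]
            group
          rw [this]
          exact (T : Subgroup R).mul_mem ((T : Subgroup R).mul_mem ((T : Subgroup R).inv_mem g.2) h2) g.2
        exact (key ⟨⟨x, hxR⟩, hxT⟩).mpr hx
    have hgS : ((g : R) : G) ∉ S := hg2
    -- `N := normalizer S ∩ T` centralises `t`
    let N : Subgroup G := ((T : Subgroup R).map R.subtype) ⊓ Subgroup.normalizer (S : Set G)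
    have hSN : S ≤ N := by
      intro s hs
      exact ⟨⟨⟨s, hSR hs⟩, hT hs, rfl⟩, Subgroup.le_normalizer hs⟩
    have hNR : N ≤ R ⊓ Subgroup.centralizer {t} := by
      rintro x ⟨⟨y, hy, rfl⟩, hx⟩
      refine ⟨y.2, ?_⟩
      apply Subgroup.mem_centralizer_singleton_iff.mpr
      have h1 : (R.subtype y) * t * (R.subtype y)⁻¹ = t := by
        apply hu _ ((Subgroup.mem_normalizer_iff.mp hx t).mp htS)
        · have : R.subtype y * t * (R.subtype y)⁻¹ * (R.subtype y * t * (R.subtype y)⁻¹) =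
            R.subtype y * (t * t) * (R.subtype y)⁻¹ := by group
          rw [this, ht2]; group
        · intro h
          apply ht1
          have : t = (R.subtype y)⁻¹ * (R.subtype y * t * (R.subtype y)⁻¹) * R.subtype y := by group
          rw [this, h]; group
      have : R.subtype y * t = (R.subtype y * t * (R.subtype y)⁻¹) * R.subtype y := by group
      rw [this, h1]
    have hgN : ((g : R) : G) ∈ N := ⟨⟨(g : R), g.2, rfl⟩, hgt⟩
    -- `N` is a 2-group
    have hN2 : IsPGroup 2 N := by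
      apply IsPGroup.to_le (K := (T : Subgroup R).map R.subtype) _ inf_le_left
      exact T.isPGroup'.map _
    -- index
    have h3 : S.relIndex N * N.relIndex (R ⊓ Subgroup.centralizer {t}) =
        S.relIndex (R ⊓ Subgroup.centralizer {t}) := Subgroup.relIndex_mul_relIndex _ _ _ hSN hNR
    have h4 : ¬ 2 ∣ S.relIndex N := fun h => hR (h3 ▸ h.mul_right _)
    have h5 : ∃ k, S.relIndex N = 2 ^ k := by
      have h6 : S.relIndex N ∣ Nat.card N := Subgroup.relIndex_dvd_card _ _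
      obtain ⟨k, hk⟩ := (IsPGroup.iff_card (p := 2)).mp hN2
      rw [hk] at h6
      obtain ⟨j, -, hj⟩ := (Nat.dvd_prime_pow Nat.prime_two).mp h6
      exact ⟨j, hj⟩
    obtain ⟨k, hk⟩ := h5
    have hk0 : k = 0 := by
      by_contra hk0
      exact h4 (hk ▸ dvd_pow_self 2 hk0)
    rw [hk0, pow_zero] at hk
    exact hgS (Subgroup.relIndex_eq_one.mp hk hgN)

/-- A group with a cyclic Sylow 2-subgroup: the elements of odd order form a subgroup. -/
theorem exists_odd_core [Finite G] (R S : Subgroup G) (hS : IsPGroup 2 S) (hSR : S ≤ R)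
    (hc : IsCyclic S) (hi : ¬ 2 ∣ S.relIndex R) :
    ∃ O : Subgroup G, O ≤ R ∧ Odd (Nat.card O) ∧ (∀ x ∈ R, x ∈ O ↔ Odd (orderOf x)) ∧
      (∀ x ∈ R, ∃ y ∈ O, ∃ s ∈ S, y * s = x) ∧ Nat.card R = Nat.card O * Nat.card S := by
  have : Fact (Nat.Prime 2) := ⟨Nat.prime_two⟩
  have hS' : IsPGroup 2 (S.subgroupOf R) := hS.of_equiv (Subgroup.subgroupOfEquivOfLe hSR).symm
  let T : Sylow 2 R := hS'.toSylow hi
  have hT : (T : Subgroup R) = S.subgroupOf R := rfl
  have hTc : IsCyclic (T : Subgroup R) := by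
    rw [hT]
    exact (Subgroup.subgroupOfEquivOfLe hSR).symm.isCyclic.mp hc
  obtain ⟨K, hK1, hK2, hK3⟩ := Cfsg.Agent.CharactersDeep.QuatSylow.exists_two_complement T hTc
  have hmem : ∀ x ∈ R, x ∈ K.map R.subtype ↔ Odd (orderOf x) := by
    intro x hx
    constructor
    · rintro ⟨y, hy, rfl⟩
      have := (hK3 y).mp hy
      rwa [← Subgroup.orderOf_coe] at this
    · intro h
      exact ⟨⟨x, hx⟩, (hK3 _).mpr (by rwa [Subgroup.orderOf_mk]), rfl⟩
  have hKn : K.Normal := by
    constructor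
    intro n hn g
    rw [hK3] at hn ⊢
    have : orderOf (g * n * g⁻¹) = orderOf n := by
      have := orderOf_injective (MulAut.conj g).toMonoidHom (MulAut.conj g).injective n
      simpa using this
    rwa [this]
  have hprod : ∀ x ∈ R, ∃ y ∈ K.map R.subtype, ∃ s ∈ S, y * s = x := by
    intro x hx
    have h1 : (⟨x, hx⟩ : R) ∈ K ⊔ (T : Subgroup R) := by rw [hK2]; trivial
    rw [Subgroup.mem_sup_of_normal_left] at h1
    obtain ⟨y, hy, s, hs, h⟩ := h1
    exact ⟨y, ⟨y, hy, rfl⟩, s, hs, congrArg Subtype.val h⟩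
  refine ⟨K.map R.subtype, Subgroup.map_subtype_le _, ?_, hmem, hprod, ?_⟩
  · rw [Nat.card_congr (K.equivMapOfInjective R.subtype R.subtype_injective).toEquiv.symm]
    exact hK1
  · have h0 : (Nat.card K).Coprime (Nat.card (T : Subgroup R)) := by
      obtain ⟨k, hk⟩ := (IsPGroup.iff_card (p := 2)).mp T.isPGroup'
      rw [hk]
      exact Nat.Coprime.pow_right _ (Nat.coprime_two_right.mpr hK1)
    have h1 : K.IsComplement' (T : Subgroup R) := by
      apply Subgroup.isComplement'_of_disjoint_and_mul_eq_univ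
        (Subgroup.disjoint_of_coprime_natCard h0)
      rw [Set.eq_univ_iff_forall]
      intro g
      have h1 : g ∈ K ⊔ (T : Subgroup R) := by rw [hK2]; trivial
      rw [Subgroup.mem_sup_of_normal_left] at h1
      obtain ⟨y, hy, s, hs, h⟩ := h1
      exact ⟨y, hy, s, hs, h⟩
    have h2 := h1.card_mul_card
    rw [← h2]
    congr 1
    · exact Nat.card_congr (K.equivMapOfInjective R.subtype R.subtype_injective).toEquiv
    · rw [hT]
      exact Nat.card_congr (Subgroup.subgroupOfEquivOfLe hSR).toEquiv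

/-- In a group `R` with cyclic Sylow 2-subgroup `S ∋ t` all involutions are conjugate to `t`. -/
theorem exists_conj [Finite G] {t : G} (R S : Subgroup G) (hS : IsPGroup 2 S) (hSR : S ≤ R)
    (hu : ∀ s ∈ S, s * s = 1 → s ≠ 1 → s = t) (hi : ¬ 2 ∣ S.relIndex R)
    {s : G} (hs : s ∈ R) (hs2 : s * s = 1) (hs1 : s ≠ 1) : ∃ r ∈ R, r * t * r⁻¹ = s := by
  have : Fact (Nat.Prime 2) := ⟨Nat.prime_two⟩
  have hS' : IsPGroup 2 (S.subgroupOf R) := hS.of_equiv (Subgroup.subgroupOfEquivOfLe hSR).symm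
  let T : Sylow 2 R := hS'.toSylow hi
  have hT : (T : Subgroup R) = S.subgroupOf R := rfl
  have h2 : IsPGroup 2 (Subgroup.zpowers (⟨s, hs⟩ : R)) := by
    apply IsPGroup.of_card (n := 1)
    rw [Nat.card_zpowers, pow_one, Subgroup.orderOf_mk]
    apply orderOf_eq_prime
    · rw [pow_two]; exact hs2
    · exact hs1
  obtain ⟨Q, hQ⟩ := h2.exists_le_sylow
  obtain ⟨g, hg⟩ := MulAction.exists_smul_eq R T Q
  have h3 : (⟨s, hs⟩ : R) ∈ (Q : Subgroup R) := hQ (Subgroup.mem_zpowers _)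
  rw [← hg, Sylow.coe_subgroup_smul, Subgroup.mem_pointwise_smul_iff_inv_smul_mem] at h3
  have h4 : (g : G)⁻¹ * s * (g : G) ∈ S := by
    have h5 : (MulAut.conj g)⁻¹ • (⟨s, hs⟩ : R) = g⁻¹ * ⟨s, hs⟩ * g := by
      rw [← map_inv, MulAut.smul_def, MulAut.conj_apply, inv_inv]
    rw [h5, hT] at h3
    exact h3
  have h6 : (g : G)⁻¹ * s * (g : G) = t := by
    apply hu _ h4
    · have : (g : G)⁻¹ * s * (g : G) * ((g : G)⁻¹ * s * (g : G)) = (g : G)⁻¹ * (s * s) * g := by group
      rw [this, hs2]; group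
    · intro h
      apply hs1
      have : s = g * ((g : G)⁻¹ * s * (g : G)) * (g : G)⁻¹ := by group
      rw [this, h]; group
  refine ⟨g, g.2, ?_⟩
  rw [← h6]
  group

/-- If `t` is an involution and `u⁻¹ (t u t)` has odd order, a suitable `v` in the group generated
by `u⁻¹ (t u t)` is inverted by `t` and `u v` is centralised by `t`. -/
theorem exists_decomp {t u : G} (ht : t * t = 1) (hodd : Odd (orderOf (u⁻¹ * (t * u * t)))) :
    ∃ v ∈ Subgroup.zpowers (u⁻¹ * (t * u * t)), t * (u * v) * t = u * v ∧ t * v * t = v⁻¹ := by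
  set y := u⁻¹ * (t * u * t) with hy
  obtain ⟨k, hk⟩ := hodd
  have hyt : t * y * t = y⁻¹ := by
    rw [hy]
    have : t * (u⁻¹ * (t * u * t)) * t = t * u⁻¹ * t * u * (t * t) := by group
    rw [this, ht, mul_one]
    have htinv : t⁻¹ = t := inv_eq_of_mul_eq_one_right ht
    simp only [_root_.mul_inv_rev, inv_inv, htinv]
    group
  have htinv : t⁻¹ = t := inv_eq_of_mul_eq_one_right ht
  have hpow : ∀ j : ℕ, t * y ^ j * t = (y ^ j)⁻¹ := by
    intro j
    have h1 : t * y ^ j * t = (t * y * t) ^ j := by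
      have : t * y * t = t * y * t⁻¹ := by rw [htinv]
      rw [this, conj_pow, htinv]
    rw [h1, hyt, inv_pow]
  refine ⟨y ^ (k + 1), Subgroup.npow_mem_zpowers _ _, ?_, hpow _⟩
  have h2 : y ^ (k + 1) * y ^ (k + 1) = y := by
    rw [← pow_add]
    have : k + 1 + (k + 1) = orderOf y + 1 := by omega
    rw [this, pow_succ, pow_orderOf_eq_one, one_mul]
  have h3 : t * (u * y ^ (k + 1)) * t = (t * u * t) * (t * y ^ (k + 1) * t) := by
    have : (t * u * t) * (t * y ^ (k + 1) * t) = t * u * (t * t) * y ^ (k + 1) * t := by group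
    rw [this, ht]; group
  have h4 : t * u * t = u * y := by rw [hy]; group
  rw [h3, hpow, h4]
  nth_rewrite 1 [← h2]
  group

/-- A free action: the order of the group divides the number of points. -/
theorem card_dvd_of_free {A Y : Type*} [Group A] [MulAction A Y]
    (h : ∀ (a : A) (y : Y), a • y = y → a = 1) : Nat.card A ∣ Nat.card Y := by
  have hst : ∀ y : Y, MulAction.stabilizer A y = ⊥ := by
    intro y
    rw [eq_bot_iff]
    intro a ha
    exact h a y ha
  rw [Nat.card_congr (MulAction.selfEquivOrbitsQuotientProd hst), Nat.card_prod]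
  exact dvd_mul_left _ _

/-- A group `A` of automorphisms of `V` (given by a homomorphism `f` and conjugation) without
non-trivial fixed points: `|A|` divides `|V| - 1`. -/
theorem card_dvd_sub_one [Finite G] {A : Type*} [Group A] (f : A →* G) (V : Subgroup G)
    (hn : ∀ a, ∀ v ∈ V, f a * v * (f a)⁻¹ ∈ V)
    (hf : ∀ a, a ≠ 1 → ∀ v ∈ V, f a * v * (f a)⁻¹ = v → v = 1) :
    Nat.card A ∣ Nat.card V - 1 := by
  let Y := {v : G // v ∈ V ∧ v ≠ 1}
  let _act : MulAction A Y :=
    { smul := fun a y => ⟨f a * y.1 * (f a)⁻¹, hn a _ y.2.1, fun h => y.2.2 (by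
        have : y.1 = (f a)⁻¹ * (f a * y.1 * (f a)⁻¹) * f a := by group
        rw [this, h]; group)⟩
      one_smul := fun y => by
        apply Subtype.ext
        change f 1 * y.1 * (f 1)⁻¹ = y.1
        rw [map_one]; group
      mul_smul := fun a b y => by
        apply Subtype.ext
        change f (a * b) * y.1 * (f (a * b))⁻¹ = f a * (f b * y.1 * (f b)⁻¹) * (f a)⁻¹
        rw [map_mul]; group }
  have h1 : Nat.card A ∣ Nat.card Y := by
    apply card_dvd_of_free
    intro a y hay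
    by_contra ha
    exact y.2.2 (hf a ha y.1 y.2.1 (congrArg Subtype.val hay))
  have h2 : Nat.card Y = Nat.card V - 1 := by
    have h3 : Nat.card Y + 1 = Nat.card V := by
      have h4 : Nat.card Y = ((V : Set G) \ {1}).ncard := by
        rw [← Nat.card_coe_set_eq]
        exact Nat.card_congr (Equiv.subtypeEquivRight (fun x => by simp))
      rw [h4, Set.ncard_sdiff_singleton_add_one V.one_mem (Set.toFinite _), ← Nat.card_coe_set_eq]
      rfl
    omega
  rwa [← h2]

/-- An element `h` of prime order `r ≠ p` acting non-trivially on an abelian `p`-group `V`, and a group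
`A` commuting with `h` and acting freely on `V \ {1}`: `r` and `|A|` divide `p ^ k - 1` for some
`k ≥ 1` with `p ^ k ≤ |V|`. -/
theorem exists_dvd [Finite G] {p r : ℕ} (hp : p.Prime) (hr : r.Prime) (hrp : r ≠ p) (V : Subgroup G)
    (hV : IsPGroup p V) (hcomm : ∀ x ∈ V, ∀ y ∈ V, x * y = y * x) {h : G} (hh : h ^ r = 1)
    (hhV : ∀ v ∈ V, h * v * h⁻¹ ∈ V) (hne : ∃ v ∈ V, h * v * h⁻¹ ≠ v)
    {A : Type*} [Group A] (f : A →* G) (hfV : ∀ a, ∀ v ∈ V, f a * v * (f a)⁻¹ ∈ V)
    (hfh : ∀ a, f a * h = h * f a)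
    (hfree : ∀ a, a ≠ 1 → ∀ v ∈ V, f a * v * (f a)⁻¹ = v → v = 1) :
    ∃ k, 1 ≤ k ∧ p ^ k ≤ Nat.card V ∧ r ∣ p ^ k - 1 ∧ Nat.card A ∣ p ^ k - 1 := by
  have : Fact p.Prime := ⟨hp⟩
  let W : Subgroup G :=
    { carrier := {w | ∃ v ∈ V, w = v⁻¹ * (h * v * h⁻¹)}
      one_mem' := ⟨1, V.one_mem, by group⟩
      mul_mem' := by
        rintro _ _ ⟨v, hv, rfl⟩ ⟨v', hv', rfl⟩
        refine ⟨v * v', V.mul_mem hv hv', ?_⟩
        have h1 : v'⁻¹ * (v⁻¹ * (h * v * h⁻¹)) = (v⁻¹ * (h * v * h⁻¹)) * v'⁻¹ :=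
          hcomm _ (V.inv_mem hv') _ (V.mul_mem (V.inv_mem hv) (hhV v hv))
        calc v⁻¹ * (h * v * h⁻¹) * (v'⁻¹ * (h * v' * h⁻¹))
            = ((v⁻¹ * (h * v * h⁻¹)) * v'⁻¹) * (h * v' * h⁻¹) := by group
          _ = (v'⁻¹ * (v⁻¹ * (h * v * h⁻¹))) * (h * v' * h⁻¹) := by rw [h1]
          _ = (v * v')⁻¹ * (h * (v * v') * h⁻¹) := by group
      inv_mem' := by
        rintro _ ⟨v, hv, rfl⟩
        refine ⟨v⁻¹, V.inv_mem hv, ?_⟩
        have h1 : v * (h * v⁻¹ * h⁻¹) = (h * v⁻¹ * h⁻¹) * v :=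
          hcomm _ hv _ (hhV _ (V.inv_mem hv))
        calc (v⁻¹ * (h * v * h⁻¹))⁻¹ = (h * v⁻¹ * h⁻¹) * v := by group
          _ = v⁻¹⁻¹ * (h * v⁻¹ * h⁻¹) := by rw [← h1, inv_inv] }
  have hWV : W ≤ V := by
    rintro _ ⟨v, hv, rfl⟩
    exact V.mul_mem (V.inv_mem hv) (hhV v hv)
  have hWp : IsPGroup p W := hV.to_le hWV
  obtain ⟨k, hk⟩ := IsPGroup.iff_card.mp hWp
  have hVr : ∀ v ∈ V, v ^ r = 1 → v = 1 := by
    intro v hv h1
    obtain ⟨j, hj⟩ := hV ⟨v, hv⟩
    have hj' : v ^ p ^ j = 1 := congrArg Subtype.val hj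
    have h2 : orderOf v ∣ r := orderOf_dvd_of_pow_eq_one h1
    have h3 : orderOf v ∣ p ^ j := orderOf_dvd_of_pow_eq_one hj'
    have h4 : (r).Coprime (p ^ j) := ((Nat.coprime_primes hr hp).mpr hrp).pow_right j
    have h5 : orderOf v = 1 := Nat.dvd_one.mp (h4 ▸ Nat.dvd_gcd h2 h3)
    exact orderOf_eq_one_iff.mp h5
  have hWf : ∀ w ∈ W, h * w * h⁻¹ = w → w = 1 := by
    rintro _ ⟨v, hv, rfl⟩ hw
    set w := v⁻¹ * (h * v * h⁻¹) with hwdef
    have hwV : w ∈ V := V.mul_mem (V.inv_mem hv) (hhV v hv)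
    apply hVr _ hwV
    -- `h ^ j v h ^ -j = v w ^ j`
    have h1 : ∀ j : ℕ, h ^ j * v * (h ^ j)⁻¹ = v * w ^ j := by
      intro j
      induction j with
      | zero => simp
      | succ j ih =>
        have h2 : h ^ (j + 1) * v * (h ^ (j + 1))⁻¹ = h * (h ^ j * v * (h ^ j)⁻¹) * h⁻¹ := by
          rw [pow_succ']; group
        rw [h2, ih]
        have h3 : h * (v * w ^ j) * h⁻¹ = (h * v * h⁻¹) * (h * w * h⁻¹) ^ j := by
          rw [conj_pow]; group
        rw [h3, hw]
        have h4 : h * v * h⁻¹ = v * w := by rw [hwdef]; group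
        rw [h4, pow_succ']
        group
    have h2 := h1 r
    rw [hh] at h2
    have h3 : v = v * w ^ r := by simpa using h2
    exact (left_eq_mul.mp h3)
  have hk1 : 1 ≤ k := by
    by_contra h0
    have h1 : k = 0 := by omega
    rw [h1, pow_zero] at hk
    obtain ⟨v, hv, hne⟩ := hne
    have h2 : W = ⊥ := Subgroup.card_eq_one.mp hk
    have h3 : v⁻¹ * (h * v * h⁻¹) ∈ W := ⟨v, hv, rfl⟩
    rw [h2, Subgroup.mem_bot] at h3
    exact hne (inv_mul_eq_one.mp h3).symm
  refine ⟨k, hk1, ?_, ?_, ?_⟩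
  · rw [← hk]
    exact Subgroup.card_le_of_le hWV
  · -- the group generated by `h`
    have hh1 : h ≠ 1 := by
      rintro rfl
      obtain ⟨v, hv, hne⟩ := hne
      exact hne (by group)
    have : Fact r.Prime := ⟨hr⟩
    have hord : orderOf h = r := orderOf_eq_prime hh hh1
    have h1 := card_dvd_sub_one (Subgroup.zpowers h).subtype W ?_ ?_
    · rw [Nat.card_zpowers, hord, hk] at h1
      exact h1
    · rintro ⟨a, ha⟩ _ ⟨v, hv, rfl⟩
      obtain ⟨j, rfl⟩ := Subgroup.mem_zpowers_iff.mp ha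
      change h ^ j * _ * (h ^ j)⁻¹ ∈ W
      have hj : ∀ v ∈ V, h ^ j * v * (h ^ j)⁻¹ ∈ V := by
        intro v hv
        have : (Subgroup.zpowers h) ≤ Subgroup.normalizer (V : Set G) := by
          rw [Subgroup.zpowers_le, Subgroup.mem_normalizer_iff]
          intro x
          refine ⟨hhV x, fun hx => ?_⟩
          have h2 : ∀ i : ℕ, h ^ i * (h * x * h⁻¹) * (h ^ i)⁻¹ ∈ V := by
            intro i
            induction i with
            | zero => simpa using hx
            | succ i ih =>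
              have := hhV _ ih
              have e : h ^ (i + 1) * (h * x * h⁻¹) * (h ^ (i + 1))⁻¹ =
                h * (h ^ i * (h * x * h⁻¹) * (h ^ i)⁻¹) * h⁻¹ := by rw [pow_succ']; group
              rw [e]; exact this
          have h3 := h2 (r - 1)
          have h4 : h ^ (r - 1) * h = 1 := by
            rw [← pow_succ, Nat.sub_add_cancel hr.one_le, hh]
          have h5 : h ^ (r - 1) * (h * x * h⁻¹) * (h ^ (r - 1))⁻¹ =
            (h ^ (r - 1) * h) * x * (h ^ (r - 1) * h)⁻¹ := by group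
          rw [h5, h4] at h3
          simpa using h3
        exact (Subgroup.mem_normalizer_iff.mp (this (Subgroup.zpow_mem_zpowers h j)) v).mp hv
      exact ⟨h ^ j * v * (h ^ j)⁻¹, hj v hv, by group⟩
    · rintro ⟨a, ha⟩ ha1 w hw haw
      -- `a` generates
      have ha1' : a ≠ 1 := fun h => ha1 (Subtype.ext h)
      have h2 : h ∈ Subgroup.zpowers a := by
        have h3 : Subgroup.zpowers a = Subgroup.zpowers h := by
          apply Subgroup.eq_of_le_of_card_ge
          · rw [Subgroup.zpowers_le]; exact ha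
          · rw [Nat.card_zpowers, Nat.card_zpowers, hord]
            have h4 : orderOf a ∣ r := by
              rw [← hord]; exact orderOf_dvd_of_mem_zpowers ha
            rcases (Nat.dvd_prime hr).mp h4 with h5 | h5
            · exact absurd (orderOf_eq_one_iff.mp h5) ha1'
            · rw [h5]
        rw [h3]; exact Subgroup.mem_zpowers h
      obtain ⟨j, hj⟩ := Subgroup.mem_zpowers_iff.mp h2
      apply hWf w hw
      have hc : a * w = w * a := by
        have : a * w * a⁻¹ = w := haw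
        exact mul_inv_eq_iff_eq_mul.mp this
      have hc2 : Commute w h := by
        rw [← hj]
        exact (Commute.zpow_right (show Commute w a from hc.symm) j)
      rw [← hc2.eq]
      group
  · have h1 := card_dvd_sub_one f W ?_ ?_
    · rwa [hk] at h1
    · rintro a _ ⟨v, hv, rfl⟩
      refine ⟨f a * v * (f a)⁻¹, hfV a v hv, ?_⟩
      have e1 : f a * h * (f a)⁻¹ = h := by rw [hfh]; group
      calc f a * (v⁻¹ * (h * v * h⁻¹)) * (f a)⁻¹
          = (f a * v * (f a)⁻¹)⁻¹ * ((f a * h * (f a)⁻¹) * (f a * v * (f a)⁻¹) *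
            (f a * h * (f a)⁻¹)⁻¹) := by group
        _ = _ := by rw [e1]
    · intro a ha w hw haw
      exact hfree a ha w (hWV hw) haw

/-- The Sylow `r`-subgroup of a cyclic subgroup. -/
theorem exists_sylow_of_isCyclic [Finite G] (K : Subgroup G) (hc : IsCyclic K) (r : ℕ)
    [hr : Fact r.Prime] :
    ∃ S : Subgroup G, S ≤ K ∧ IsPGroup r S ∧ ¬ r ∣ S.relIndex K ∧ IsCyclic S ∧
      ∀ x ∈ K, (∃ j, x ^ r ^ j = 1) → x ∈ S := by
  obtain ⟨T⟩ := (inferInstance : Nonempty (Sylow r K))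
  have hcm : ∀ x y : K, x * y = y * x := by
    let _ := hc.commGroup
    exact mul_comm
  have hn : (T : Subgroup K).Normal := by
    constructor
    intro x hx g
    rw [hcm g x, mul_assoc, mul_inv_cancel, mul_one]
    exact hx
  refine ⟨(T : Subgroup K).map K.subtype, Subgroup.map_subtype_le _, T.isPGroup'.map _, ?_, ?_, ?_⟩
  · have h1 : ((T : Subgroup K).map K.subtype).subgroupOf K = T :=
      Subgroup.comap_map_eq_self_of_injective K.subtype_injective _
    rw [Subgroup.relIndex, h1]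
    exact T.not_dvd_index
  · exact ((T : Subgroup K).equivMapOfInjective K.subtype K.subtype_injective).isCyclic.mp
      (Subgroup.isCyclic (T : Subgroup K))
  · rintro x hx ⟨j, hj⟩
    have h1 : IsPGroup r (Subgroup.zpowers (⟨x, hx⟩ : K)) := by
      have h2 : orderOf (⟨x, hx⟩ : K) ∣ r ^ j := by
        rw [Subgroup.orderOf_mk]
        exact orderOf_dvd_of_pow_eq_one hj
      obtain ⟨i, -, hi⟩ := (Nat.dvd_prime_pow hr.out).mp h2
      exact IsPGroup.of_card (n := i) (by rw [Nat.card_zpowers, hi])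
    obtain ⟨Q, hQ⟩ := h1.exists_le_sylow
    have : Q = T := by
      have := Sylow.unique_of_normal T hn
      exact Subsingleton.elim _ _
    rw [this] at hQ
    exact ⟨⟨x, hx⟩, hQ (Subgroup.mem_zpowers _), rfl⟩

/-! ### Number theory -/

theorem odd_div {p n k c : ℕ} (hp : Odd p) (hn : 1 ≤ n) (hc2 : ¬ 2 ^ (c + 1) ∣ p ^ (2 * n) - 1)
    (hc1 : 2 ^ c ∣ p ^ (2 * n) - 1) (hck : 2 ^ c ∣ p ^ k - 1) : Odd (2 * n / Nat.gcd (2 * n) k) := by
  set d := Nat.gcd (2 * n) k with hd
  have hd0 : 0 < d := Nat.gcd_pos_of_pos_left _ (by omega)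
  by_contra hodd
  rw [Nat.not_odd_iff_even] at hodd
  obtain ⟨e, he⟩ := hodd
  have h1 : 2 * n = 2 * d * e := by
    have := Nat.div_mul_cancel (Nat.gcd_dvd_left (2 * n) k)
    rw [← hd, he] at this
    rw [← this]; ring
  have h2 : 2 ^ c ∣ p ^ d - 1 := by
    rw [hd, ← Nat.pow_sub_one_gcd_pow_sub_one]
    exact Nat.dvd_gcd hc1 hck
  apply hc2
  have h3 : p ^ (2 * d) - 1 ∣ p ^ (2 * n) - 1 := by
    rw [h1]
    exact Nat.pow_sub_one_dvd_pow_sub_one p ⟨e, rfl⟩
  refine Dvd.dvd.trans ?_ h3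
  have h4 : p ^ (2 * d) - 1 = (p ^ d - 1) * (p ^ d + 1) := by
    rw [mul_comm 2 d, pow_mul, sq]
    have := Nat.sq_sub_sq (p ^ d) 1
    rw [one_pow, sq] at this
    rw [this, mul_comm]
  rw [h4, pow_succ]
  apply Nat.mul_dvd_mul h2
  have := hp.pow (n := d)
  exact (this.add_one).two_dvd

theorem two_mul_dvd_of_dvd {p n k c : ℕ} (hp : Odd p) (hn : 1 ≤ n)
    (hc2 : ¬ 2 ^ (c + 1) ∣ p ^ (2 * n) - 1)
    (hc1 : 2 ^ c ∣ p ^ (2 * n) - 1) (hck : 2 ^ c ∣ p ^ k - 1) (hnk : n ∣ k) : 2 * n ∣ k := by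
  have h1 := odd_div hp hn hc2 hc1 hck
  set d := Nat.gcd (2 * n) k with hd
  have hd0 : 0 < d := Nat.gcd_pos_of_pos_left _ (by omega)
  have h2 : n ∣ d := Nat.dvd_gcd (dvd_mul_left _ _) hnk
  obtain ⟨e, he⟩ := h2
  have h3 := Nat.div_mul_cancel (Nat.gcd_dvd_left (2 * n) k)
  rw [← hd, he] at h3
  set f := 2 * n / (n * e) with hf
  have h4 : f * e = 2 := by
    have : n * (f * e) = n * 2 := by linarith
    exact Nat.eq_of_mul_eq_mul_left hn this
  rw [he, ← hf] at h1
  have h5 : f ∣ 2 := ⟨e, h4.symm⟩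
  have h6 : f = 1 := by
    rcases (Nat.dvd_prime Nat.prime_two).mp h5 with h | h
    · exact h
    · rw [h] at h1; exact absurd h1 (by decide)
  rw [h6, one_mul] at h4
  have h7 : d = 2 * n := by rw [he, h4]; ring
  rw [← h7]
  exact Nat.gcd_dvd_right _ _

theorem two_mul_dvd_of_pow {p n k c a : ℕ} (hp : Odd p) (hn : n = 2 ^ a)
    (hc2 : ¬ 2 ^ (c + 1) ∣ p ^ (2 * n) - 1)
    (hc1 : 2 ^ c ∣ p ^ (2 * n) - 1) (hck : 2 ^ c ∣ p ^ k - 1) : 2 * n ∣ k := by
  have hn1 : 1 ≤ n := by rw [hn]; exact Nat.one_le_two_pow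
  have h1 := odd_div hp hn1 hc2 hc1 hck
  have h2 : 2 * n / Nat.gcd (2 * n) k ∣ 2 ^ (a + 1) := by
    have : 2 ^ (a + 1) = 2 * n := by rw [hn, pow_succ']
    rw [this]
    exact Nat.div_dvd_of_dvd (Nat.gcd_dvd_left _ _)
  obtain ⟨j, -, hj⟩ := (Nat.dvd_prime_pow Nat.prime_two).mp h2
  have hj0 : j = 0 := by
    by_contra h
    rw [hj] at h1
    exact (Nat.not_odd_iff_even.mpr (Even.pow_of_ne_zero (by decide) h)) h1
  rw [hj0, pow_zero] at hj
  have h3 := Nat.div_mul_cancel (Nat.gcd_dvd_left (2 * n) k)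
  rw [hj, one_mul] at h3
  rw [← h3]
  exact Nat.gcd_dvd_right _ _

end Cfsg.Agent.Classification.IdU.Gen
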