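import Mathlib
import Cfsg.Agent.Classification.IdU.Gen
import Cfsg.Agent.Classification.IdU.Defs
import Cfsg.Agent.Lib.ProductSet

/-!
# Local analysis, first consequences

`|C_G(X)| = ℓ q m`, `|N_G(X)| = ℓ q m (q - 1)`, `N(X) ∩ N(wXw) = H`, `ℓ ≤ q²`.
-/

set_option autoImplicit false

namespace Cfsg.Agent.Classification.IdU.Basic

open scoped Pointwise
open Cfsg.Agent.Classification.IdU.Defs Cfsg.Agent.Classification.IdU.Gen

variable {G : Type*} [Group G] {t w : G} {p n m : ℕ} {X H Z : Subgroup G}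

namespace LH

theorem fact (L : LocHyp t p n m X H Z w) : Fact p.Prime := ⟨L.prime_p⟩

theorem three_le_p (L : LocHyp t p n m X H Z w) : 3 ≤ p := by
  have h1 := L.prime_p.two_le
  have h2 := L.odd_p
  rcases h1.eq_or_lt with h | h
  · rw [← h] at h2; exact absurd h2 (by decide)
  · exact h

theorem three_le_q (L : LocHyp t p n m X H Z w) : 3 ≤ p ^ n := by
  calc 3 ≤ p := three_le_p L
    _ = p ^ 1 := (pow_one p).symm
    _ ≤ p ^ n := Nat.pow_le_pow_right L.prime_p.pos L.n_pos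

theorem odd_q (L : LocHyp t p n m X H Z w) : Odd (p ^ n) := L.odd_p.pow

theorem m_dvd (L : LocHyp t p n m X H Z w) : m ∣ p ^ n + 1 := by
  obtain ⟨z, -, hz⟩ := L.m_spec
  exact ⟨z, by rw [← hz, mul_comm]⟩

theorem m_pos (L : LocHyp t p n m X H Z w) : 0 < m :=
  Nat.pos_of_dvd_of_pos (m_dvd L) (by omega)

theorem two_dvd_m (L : LocHyp t p n m X H Z w) : 2 ∣ m := by
  obtain ⟨z, hz, h⟩ := L.m_spec
  have h1 : 2 ∣ z * m := by rw [h]; exact ((odd_q L).add_one).two_dvd
  exact (Nat.coprime_two_left.mpr hz).dvd_of_dvd_mul_left h1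

theorem not_dvd_m (L : LocHyp t p n m X H Z w) : ¬ p ∣ m := by
  intro h
  have h1 : p ∣ p ^ n + 1 := h.trans (m_dvd L)
  have h2 : p ∣ 1 := (Nat.dvd_add_right (dvd_pow_self p (by have := L.n_pos; omega))).mp h1
  exact L.prime_p.one_lt.ne' (Nat.dvd_one.mp h2)

theorem not_dvd_pred (L : LocHyp t p n m X H Z w) : ¬ p ∣ p ^ n - 1 := by
  intro h
  have h0 := three_le_q L
  have h2 : p ∣ p ^ n - (p ^ n - 1) :=
    Nat.dvd_sub (dvd_pow_self p (by have := L.n_pos; omega)) h
  have h3 : p ^ n - (p ^ n - 1) = 1 := by omega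
  rw [h3] at h2
  exact L.prime_p.one_lt.ne' (Nat.dvd_one.mp h2)

theorem coprime_card_H (L : LocHyp t p n m X H Z w) : (Nat.card X).Coprime (Nat.card H) := by
  rw [L.card_X, L.card_H]
  apply Nat.Coprime.pow_left
  apply Nat.Coprime.mul_right
  · exact (L.prime_p.coprime_iff_not_dvd).mpr (not_dvd_pred L)
  · exact (L.prime_p.coprime_iff_not_dvd).mpr (not_dvd_m L)

theorem disj (L : LocHyp t p n m X H Z w) {x : G} (hx : x ∈ X) (hh : x ∈ H) : x = 1 := by
  have := Subgroup.disjoint_of_coprime_natCard (coprime_card_H L)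
  exact Subgroup.disjoint_def.mp this hx hh

theorem X_odd (L : LocHyp t p n m X H Z w) {x : G} (hx : x ∈ X) (h2 : x * x = 1) : x = 1 := by
  by_contra h
  have h3 : orderOf x = 2 := orderOf_eq_prime (by rw [pow_two]; exact h2) h
  have h4 : orderOf x ∣ p ^ n := by
    rw [← L.card_X]; exact Subgroup.orderOf_dvd_natCard X hx
  rw [h3] at h4
  have := (odd_q L)
  exact (Nat.not_even_iff_odd.mpr this) (even_iff_two_dvd.mpr h4)

/-- the only involution of `H` is `t` -/
theorem H_invol (L : LocHyp t p n m X H Z w) {h : G} (hh : h ∈ H) (h2 : h * h = 1) (h1 : h ≠ 1) :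
    h = t :=
  eq_of_sq_of_isCyclic H L.H_cyc hh (L.Z_H L.t_Z) h2 L.t_sq h1 L.t_ne

/-- the only involution of `X H` is `t` -/
theorem XH_invol (L : LocHyp t p n m X H Z w) {v h : G} (hv : v ∈ X) (hh : h ∈ H)
    (h2 : (v * h) * (v * h) = 1) (h1 : v * h ≠ 1) : v * h = t := by
  have e1 : (v * h) * (v * h) = (v * (h * v * h⁻¹)) * (h * h) := by group
  rw [e1] at h2
  have e2 : h * h = (v * (h * v * h⁻¹))⁻¹ := by
    rw [eq_inv_iff_mul_eq_one, mul_eq_one_iff_eq_inv, eq_comm, ← mul_eq_one_iff_inv_eq]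
    exact h2
  have e3 : h * h = 1 := disj L (by
    rw [e2]; exact X.inv_mem (X.mul_mem hv (L.H_norm h hh v hv))) (H.mul_mem hh hh)
  by_cases h0 : h = 1
  · subst h0
    rw [mul_one] at h1 h2 ⊢
    simp only [one_mul, inv_one, mul_one] at h2
    exact absurd (X_odd L hv h2) h1
  · have h4 := H_invol L hh e3 h0
    have h5 : h * v * h⁻¹ = v := by rw [h4, ← L.X_t v hv, mul_inv_cancel_right]
    rw [e3, mul_one, h5] at h2
    rw [X_odd L hv h2, one_mul, h4]

theorem X_le (L : LocHyp t p n m X H Z w) : X ≤ Subgroup.centralizer {t} := fun x hx =>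
  Subgroup.mem_centralizer_singleton_iff.mpr (L.X_t x hx)

theorem H_le (L : LocHyp t p n m X H Z w) : H ≤ Subgroup.centralizer {t} := fun x hx =>
  Subgroup.mem_centralizer_singleton_iff.mpr (L.H_t x hx)

theorem exists_ne (L : LocHyp t p n m X H Z w) : ∃ x ∈ X, x ≠ 1 := by
  by_contra h
  push Not at h
  have h1 : X = ⊥ := by
    rw [eq_bot_iff]; exact fun x hx => h x hx
  have h2 := L.card_X
  rw [h1, Subgroup.card_bot] at h2
  have := three_le_q L
  omega

theorem Z_cent (L : LocHyp t p n m X H Z w) {z x : G} (hz : z ∈ Z) (hx : x ∈ X) : x * z = z * x :=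
  L.Z_central z hz x (L.X_t x hx)

/-- `C(X) ∩ C(t) = X Z` -/
theorem cent_inf (L : LocHyp t p n m X H Z w) {c : G} (hc : c * t = t * c)
    (hX : ∀ x ∈ X, c * x = x * c) : ∃ v ∈ X, ∃ z ∈ Z, c = v * z := by
  obtain ⟨x, hx, hx1⟩ := exists_ne L
  exact L.cent_X x hx hx1 c hc (hX x hx)

theorem XZ_comm (L : LocHyp t p n m X H Z w) {v z x : G} (hv : v ∈ X) (hz : z ∈ Z) (hx : x ∈ X) :
    (v * z) * x = x * (v * z) := by
  rw [mul_assoc, ← Z_cent L hz hx, ← mul_assoc, L.X_comm v hv x hx, mul_assoc]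

theorem mem_CX {x : G} : x ∈ Subgroup.centralizer (X : Set G) ↔ ∀ y ∈ X, y * x = x * y :=
  Subgroup.mem_centralizer_iff

theorem coe_XZ (L : LocHyp t p n m X H Z w) :
    ((X : Set G) * (Z : Set G)) =
      ((Subgroup.centralizer (X : Set G) ⊓ Subgroup.centralizer {t} : Subgroup G) : Set G) := by
  ext c
  constructor
  · rintro ⟨v, hv, z, hz, rfl⟩
    refine ⟨?_, ?_⟩
    · exact mem_CX.mpr (fun x hx => (XZ_comm L hv hz hx).symm)
    · exact (Subgroup.centralizer {t}).mul_mem (X_le L hv) (H_le L (L.Z_H hz))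
  · rintro ⟨h1, h2⟩
    obtain ⟨v, hv, z, hz, h⟩ := cent_inf L (Subgroup.mem_centralizer_singleton_iff.mp h2)
      (fun x hx => (mem_CX.mp h1 x hx).symm)
    exact ⟨v, hv, z, hz, h.symm⟩

theorem inf_Z (L : LocHyp t p n m X H Z w) : X ⊓ Z = ⊥ := by
  rw [eq_bot_iff]
  rintro x ⟨hx, hz⟩
  exact disj L hx (L.Z_H hz)

theorem inf_H (L : LocHyp t p n m X H Z w) : X ⊓ H = ⊥ := by
  rw [eq_bot_iff]
  rintro x ⟨hx, hz⟩
  exact disj L hx hz

theorem card_CX_inf (L : LocHyp t p n m X H Z w) :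
    Nat.card (Subgroup.centralizer (X : Set G) ⊓ Subgroup.centralizer {t} : Subgroup G) =
      p ^ n * m := by
  have h1 := Cfsg.Agent.Lib.ProductSet.card_mul_card_inf X Z
  rw [inf_Z L, Subgroup.card_bot, mul_one, L.card_X, L.card_Z, coe_XZ L] at h1
  exact h1

theorem mem_NX [Finite G] {c : G} : c ∈ Subgroup.normalizer (X : Set G) ↔ ∀ x ∈ X, c * x * c⁻¹ ∈ X := by
  rw [Subgroup.mem_normalizer_iff]
  constructor
  · intro h x hx
    exact (h x).mp hx
  · intro h x
    refine ⟨h x, fun hx => ?_⟩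
    -- powers
    have h1 : ∀ i : ℕ, ∀ y ∈ X, c ^ i * y * (c ^ i)⁻¹ ∈ X := by
      intro i
      induction i with
      | zero => intro y hy; simpa using hy
      | succ i ih =>
        intro y hy
        have e : c ^ (i + 1) * y * (c ^ (i + 1))⁻¹ = c * (c ^ i * y * (c ^ i)⁻¹) * c⁻¹ := by
          rw [pow_succ']; group
        rw [e]; exact h _ (ih y hy)
    have h2 := h1 (orderOf c - 1) _ hx
    have h3 : c ^ (orderOf c - 1) = c⁻¹ := by
      rw [eq_inv_iff_mul_eq_one, ← pow_succ, Nat.sub_add_cancel (orderOf_pos c), pow_orderOf_eq_one]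
    rw [h3] at h2
    have e : c⁻¹ * (c * x * c⁻¹) * c⁻¹⁻¹ = x := by group
    rwa [e] at h2

theorem coe_XH [Finite G] (L : LocHyp t p n m X H Z w) :
    ((X : Set G) * (H : Set G)) =
      ((Subgroup.normalizer (X : Set G) ⊓ Subgroup.centralizer {t} : Subgroup G) : Set G) := by
  ext c
  constructor
  · rintro ⟨v, hv, h, hh, rfl⟩
    refine ⟨?_, ?_⟩
    · exact (Subgroup.normalizer (X : Set G)).mul_mem (Subgroup.le_normalizer hv)
        (mem_NX.mpr (L.H_norm h hh))
    · exact (Subgroup.centralizer {t}).mul_mem (X_le L hv) (H_le L hh)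
  · rintro ⟨h1, h2⟩
    obtain ⟨v, hv, h, hh, e⟩ := L.norm_X c (Subgroup.mem_centralizer_singleton_iff.mp h2)
      (mem_NX.mp h1)
    exact ⟨v, hv, h, hh, e.symm⟩

theorem card_NX_inf [Finite G] (L : LocHyp t p n m X H Z w) :
    Nat.card (Subgroup.normalizer (X : Set G) ⊓ Subgroup.centralizer {t} : Subgroup G) =
      p ^ n * ((p ^ n - 1) * m) := by
  have h1 := Cfsg.Agent.Lib.ProductSet.card_mul_card_inf X H
  rw [inf_H L, Subgroup.card_bot, mul_one, L.card_X, L.card_H, coe_XH L] at h1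
  exact h1

theorem relIndex_mul_card (A B : Subgroup G) (h : A ≤ B) : A.relIndex B * Nat.card A = Nat.card B := by
  have h1 := Subgroup.relIndex_mul_relIndex ⊥ A B bot_le h
  rw [Subgroup.relIndex_bot_left, Subgroup.relIndex_bot_left] at h1
  rw [mul_comm]; exact h1

/-- The Sylow 2-subgroup of a subgroup `K` of `H` containing `t`. -/
theorem exists_S (L : LocHyp t p n m X H Z w) [Finite G] (K : Subgroup G) (hK : K ≤ H) (htK : t ∈ K) :
    ∃ S : Subgroup G, S ≤ K ∧ IsPGroup 2 S ∧ IsCyclic S ∧ t ∈ S ∧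
      (∀ s ∈ S, s * s = 1 → s ≠ 1 → s = t) ∧ ¬ 2 ∣ S.relIndex K := by
  have : Fact (Nat.Prime 2) := ⟨Nat.prime_two⟩
  have hKc : IsCyclic K := by
    have := L.H_cyc
    exact (Subgroup.subgroupOfEquivOfLe hK).isCyclic.mp inferInstance
  obtain ⟨S, h1, h2, h3, h4, h5⟩ := exists_sylow_of_isCyclic K hKc 2
  refine ⟨S, h1, h2, h4, h5 t htK ⟨1, by rw [pow_one, pow_two, L.t_sq]⟩, ?_, h3⟩
  intro s hs hs2 hs1
  exact H_invol L (hK (h1 hs)) hs2 hs1

/-- If `R ∩ C(t)` has order `k |K|` with `k` odd, the Sylow 2-subgroup of `K` is one of `R`. -/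
theorem not_dvd_of_card (L : LocHyp t p n m X H Z w) [Finite G] {S K R : Subgroup G} (hSK : S ≤ K)
    (hKR : K ≤ R) (hKC : K ≤ Subgroup.centralizer {t})
    (hS : IsPGroup 2 S) (htS : t ∈ S) (hu : ∀ s ∈ S, s * s = 1 → s ≠ 1 → s = t)
    (hSK2 : ¬ 2 ∣ S.relIndex K) {k : ℕ} (hk : Odd k)
    (hcard : Nat.card (R ⊓ Subgroup.centralizer {t} : Subgroup G) = k * Nat.card K) :
    ¬ 2 ∣ S.relIndex R := by
  apply not_dvd_relIndex R S hS (hSK.trans hKR) htS L.t_ne L.t_sq hu
  have h1 := Subgroup.relIndex_mul_relIndex S K (R ⊓ Subgroup.centralizer {t}) hSK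
    (le_inf hKR hKC)
  have h2 := relIndex_mul_card K (R ⊓ Subgroup.centralizer {t}) (le_inf hKR hKC)
  rw [hcard] at h2
  have h3 : K.relIndex (R ⊓ Subgroup.centralizer {t}) = k :=
    Nat.eq_of_mul_eq_mul_right Nat.card_pos h2
  rw [h3] at h1
  rw [← h1]
  intro h
  rcases (Nat.Prime.dvd_mul Nat.prime_two).mp h with h | h
  · exact hSK2 h
  · exact (Nat.not_even_iff_odd.mpr hk) (even_iff_two_dvd.mpr h)

theorem Z_le_CX (L : LocHyp t p n m X H Z w) : Z ≤ Subgroup.centralizer (X : Set G) := fun _ hz =>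
  mem_CX.mpr (fun _ hx => Z_cent L hz hx)

theorem H_le_NX [Finite G] (L : LocHyp t p n m X H Z w) : H ≤ Subgroup.normalizer (X : Set G) :=
  fun h hh => mem_NX.mpr (L.H_norm h hh)

/-- The Sylow 2-subgroup `S` of `Z` is a Sylow 2-subgroup of `C(X)`. -/
theorem exists_SZ (L : LocHyp t p n m X H Z w) [Finite G] :
    ∃ S : Subgroup G, S ≤ Z ∧ IsPGroup 2 S ∧ IsCyclic S ∧ t ∈ S ∧
      (∀ s ∈ S, s * s = 1 → s ≠ 1 → s = t) ∧
      ¬ 2 ∣ S.relIndex (Subgroup.centralizer (X : Set G)) := by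
  obtain ⟨S, h1, h2, h3, h4, h5, h6⟩ := exists_S L Z L.Z_H L.t_Z
  refine ⟨S, h1, h2, h3, h4, h5, ?_⟩
  exact not_dvd_of_card L h1 (Z_le_CX L) (L.Z_H.trans (H_le L)) h2 h4 h5 h6 (odd_q L)
    (by rw [card_CX_inf L, L.card_Z])

/-- The Sylow 2-subgroup `S` of `H` is a Sylow 2-subgroup of `N(X)`. -/
theorem exists_SH (L : LocHyp t p n m X H Z w) [Finite G] :
    ∃ S : Subgroup G, S ≤ H ∧ IsPGroup 2 S ∧ IsCyclic S ∧ t ∈ S ∧
      (∀ s ∈ S, s * s = 1 → s ≠ 1 → s = t) ∧ ¬ 2 ∣ S.relIndex H ∧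
      ¬ 2 ∣ S.relIndex (Subgroup.normalizer (X : Set G)) := by
  obtain ⟨S, h1, h2, h3, h4, h5, h6⟩ := exists_S L H le_rfl (L.Z_H L.t_Z)
  refine ⟨S, h1, h2, h3, h4, h5, h6, ?_⟩
  exact not_dvd_of_card L h1 (H_le_NX L) (H_le L) h2 h4 h5 h6 (odd_q L)
    (by rw [card_NX_inf L, L.card_H])

/-- All involutions centralising `X` are conjugate in `C(X)`. -/
theorem conj_in_CX (L : LocHyp t p n m X H Z w) [Finite G] {s : G}
    (hs : s ∈ Subgroup.centralizer (X : Set G)) (h2 : s * s = 1) (h1 : s ≠ 1) :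
    ∃ c ∈ Subgroup.centralizer (X : Set G), c * t * c⁻¹ = s := by
  obtain ⟨S, hS1, hS2, hS3, hS4, hS5, hS6⟩ := exists_SZ L
  exact exists_conj _ S hS2 (hS1.trans (Z_le_CX L)) hS5 hS6 hs h2 h1

/-- All involutions normalising `X` are conjugate in `N(X)`, so they centralise `X`. -/
theorem conj_in_NX (L : LocHyp t p n m X H Z w) [Finite G] {s : G}
    (hs : s ∈ Subgroup.normalizer (X : Set G)) (h2 : s * s = 1) (h1 : s ≠ 1) :
    ∃ c ∈ Subgroup.normalizer (X : Set G), c * t * c⁻¹ = s := by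
  obtain ⟨S, hS1, hS2, hS3, hS4, hS5, -, hS6⟩ := exists_SH L
  exact exists_conj _ S hS2 (hS1.trans (H_le_NX L)) hS5 hS6 hs h2 h1

theorem CX_le_NX : Subgroup.centralizer (X : Set G) ≤ Subgroup.normalizer (X : Set G) :=
  Subgroup.centralizer_le_normalizer _

theorem t_CX (L : LocHyp t p n m X H Z w) : t ∈ Subgroup.centralizer (X : Set G) :=
  mem_CX.mpr (fun x hx => L.X_t x hx)

theorem conj_mem_CX {c x : G} (hc : c ∈ Subgroup.normalizer (X : Set G))
    (hx : x ∈ Subgroup.centralizer (X : Set G)) : c * x * c⁻¹ ∈ Subgroup.centralizer (X : Set G) := by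
  rw [mem_CX] at hx ⊢
  intro y hy
  have h1 : c⁻¹ * y * c ∈ X := by
    have := (Subgroup.mem_normalizer_iff.mp ((Subgroup.normalizer (X : Set G)).inv_mem hc) y).mp hy
    simpa using this
  have h2 := hx _ h1
  calc y * (c * x * c⁻¹) = c * ((c⁻¹ * y * c) * x) * c⁻¹ := by group
    _ = c * (x * (c⁻¹ * y * c)) * c⁻¹ := by rw [h2]
    _ = c * x * c⁻¹ * y := by group

/-- `N(X) = C(X) (X H)` -/
theorem NX_eq (L : LocHyp t p n m X H Z w) [Finite G] {g : G}
    (hg : g ∈ Subgroup.normalizer (X : Set G)) :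
    ∃ c ∈ Subgroup.centralizer (X : Set G), ∃ h ∈ H, g = c * h := by
  have h1 : g * t * g⁻¹ ∈ Subgroup.centralizer (X : Set G) := conj_mem_CX hg (t_CX L)
  obtain ⟨c, hc, h⟩ := conj_in_CX L h1
    (by
      have : g * t * g⁻¹ * (g * t * g⁻¹) = g * (t * t) * g⁻¹ := by group
      rw [this, L.t_sq]; group)
    (by
      intro h
      apply L.t_ne
      have : t = g⁻¹ * (g * t * g⁻¹) * g := by group
      rw [this, h]; group)
  have h2 : (c⁻¹ * g) * t = t * (c⁻¹ * g) := by
    have e : g * t = g * t * g⁻¹ * g := by group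
    rw [mul_assoc, e, ← h]; group
  obtain ⟨v, hv, k, hk, e⟩ := L.norm_X (c⁻¹ * g) h2 (mem_NX.mp
    ((Subgroup.normalizer (X : Set G)).mul_mem ((Subgroup.normalizer (X : Set G)).inv_mem
      (CX_le_NX hc)) hg))
  refine ⟨c * v, (Subgroup.centralizer (X : Set G)).mul_mem hc
    (mem_CX.mpr (fun x hx => L.X_comm x hx v hv)), k, hk, ?_⟩
  rw [mul_assoc, ← e]; group

theorem H_inf_CX (L : LocHyp t p n m X H Z w) [Finite G] :
    Subgroup.centralizer (X : Set G) ⊓ H = Z := by
  ext x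
  constructor
  · rintro ⟨h1, h2⟩
    obtain ⟨v, hv, z, hz, e⟩ := cent_inf L (L.H_t x h2) (fun y hy => (mem_CX.mp h1 y hy).symm)
    have h3 : v = 1 := by
      apply disj L hv
      have : v = x * z⁻¹ := by rw [e]; group
      rw [this]
      exact H.mul_mem h2 (H.inv_mem (L.Z_H hz))
    rw [e, h3, one_mul]; exact hz
  · intro hx
    exact ⟨Z_le_CX L hx, L.Z_H hx⟩

theorem card_NX (L : LocHyp t p n m X H Z w) [Finite G] :
    Nat.card (Subgroup.normalizer (X : Set G)) =
      Nat.card (Subgroup.centralizer (X : Set G)) * (p ^ n - 1) := by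
  have h1 := Cfsg.Agent.Lib.ProductSet.card_mul_card_inf (Subgroup.centralizer (X : Set G)) H
  have h2 : ((Subgroup.centralizer (X : Set G) : Set G) * (H : Set G)) =
      (Subgroup.normalizer (X : Set G) : Set G) := by
    ext g
    constructor
    · rintro ⟨c, hc, h, hh, rfl⟩
      exact (Subgroup.normalizer (X : Set G)).mul_mem (CX_le_NX hc) (H_le_NX L hh)
    · intro hg
      obtain ⟨c, hc, h, hh, e⟩ := NX_eq L hg
      exact ⟨c, hc, h, hh, e.symm⟩
  rw [h2, H_inf_CX L, L.card_Z, L.card_H, ← mul_assoc] at h1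
  exact Nat.eq_of_mul_eq_mul_right (m_pos L) h1

/-- the number `ℓ` -/
theorem exists_ell (L : LocHyp t p n m X H Z w) [Finite G] :
    ∃ l, Nat.card (Subgroup.centralizer (X : Set G)) = l * (p ^ n * m) := by
  have h1 := relIndex_mul_card (Subgroup.centralizer (X : Set G) ⊓ Subgroup.centralizer {t})
    (Subgroup.centralizer (X : Set G)) inf_le_left
  rw [card_CX_inf L] at h1
  exact ⟨_, h1.symm⟩

theorem w_ne (L : LocHyp t p n m X H Z w) [Finite G] : w ∉ Subgroup.normalizer (X : Set G) := by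
  intro hw
  obtain ⟨x, hx, hx1⟩ := exists_ne L
  apply hx1
  apply L.w_X x hx
  have hwi : w⁻¹ = w := inv_eq_of_mul_eq_one_right L.w_sq
  have h1 : w * x * w ∈ X := by
    have := mem_NX.mp hw x hx
    rwa [hwi] at this
  exact mem_NX.mp (Subgroup.le_normalizer h1)

/-- `N(X) ∩ N(wXw) = H` -/
theorem mem_H_of (L : LocHyp t p n m X H Z w) [Finite G] {g : G}
    (h1 : g ∈ Subgroup.normalizer (X : Set G)) (h2 : w * g * w ∈ Subgroup.normalizer (X : Set G)) :
    g ∈ H := by
  have hwi : w⁻¹ = w := inv_eq_of_mul_eq_one_right L.w_sq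
  have hwtw : w * t * w = t := by rw [L.w_t, mul_assoc, L.w_sq, mul_one]
  set s := g * t * g⁻¹ with hs
  have hs1 : s ∈ Subgroup.centralizer (X : Set G) := conj_mem_CX h1 (t_CX L)
  have hs2 : w * s * w ∈ Subgroup.centralizer (X : Set G) := by
    have h3 := conj_mem_CX h2 (t_CX L)
    have e : w * g * w * t * (w * g * w)⁻¹ = w * s * w := by
      rw [hs, _root_.mul_inv_rev, _root_.mul_inv_rev, hwi]
      calc w * g * w * t * (w * (g⁻¹ * w)) = w * g * (w * t * w) * g⁻¹ * w := by group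
        _ = w * (g * t * g⁻¹) * w := by rw [hwtw]; group
    rwa [e] at h3
  -- `s` commutes with `t`
  have h3 : s * t = t * s := by
    have h4 : Subgroup.closure ({x | x ∈ X} ∪ {g | ∃ x ∈ X, g = w * x * w}) ≤
        Subgroup.centralizer {s} := by
      rw [Subgroup.closure_le]
      rintro y (hy | ⟨x, hx, rfl⟩)
      · exact Subgroup.mem_centralizer_singleton_iff.mpr (mem_CX.mp hs1 y hy)
      · apply Subgroup.mem_centralizer_singleton_iff.mpr
        have h5 := mem_CX.mp hs2 x hx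
        calc w * x * w * s = w * (x * (w * s * w)) * w⁻¹ := by
              rw [hwi]
              have : w * (x * (w * s * w)) * w = w * x * w * s * (w * w) := by group
              rw [this, L.w_sq, mul_one]
          _ = w * ((w * s * w) * x) * w⁻¹ := by rw [h5]
          _ = s * (w * x * w) := by
              rw [hwi]
              have : w * (w * s * w * x) * w = (w * w) * s * (w * x * w) := by group
              rw [this, L.w_sq, one_mul]
    exact (Subgroup.mem_centralizer_singleton_iff.mp (h4 L.gen_t)).symm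
  obtain ⟨v, hv, z, hz, e⟩ := cent_inf L h3 (fun x hx => (mem_CX.mp hs1 x hx).symm)
  have hs3 : s * s = 1 := by
    have : s * s = g * (t * t) * g⁻¹ := by rw [hs]; group
    rw [this, L.t_sq]; group
  have hs4 : s ≠ 1 := by
    intro h
    apply L.t_ne
    have : t = g⁻¹ * s * g := by rw [hs]; group
    rw [this, h]; group
  have h5 : s = t := by
    rw [e]
    exact XH_invol L hv (L.Z_H hz) (by rw [← e]; exact hs3) (by rw [← e]; exact hs4)
  have h6 : g * t = t * g := by
    have : g * t = s * g := by rw [hs]; group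
    rw [this, h5]
  obtain ⟨v, hv, h, hh, e⟩ := L.norm_X g h6 (mem_NX.mp h1)
  have h7 : v = 1 := by
    apply L.w_X v hv
    have h8 : w * v * w = (w * g * w) * (w * h * w)⁻¹ := by
      have e2 : (w * g * w) * (w * h * w)⁻¹ = w * g * (w * w⁻¹) * h⁻¹ * w⁻¹ := by group
      rw [e2, e, hwi, L.w_sq]; group
    have h9 : w * v * w ∈ Subgroup.normalizer (X : Set G) := by
      rw [h8]
      exact (Subgroup.normalizer (X : Set G)).mul_mem h2
        ((Subgroup.normalizer (X : Set G)).inv_mem (H_le_NX L (L.w_H h hh)))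
    exact mem_NX.mp h9
  rw [e, h7, one_mul]; exact hh

/-- The points: cosets of `N(X)`. -/
theorem stab_pair (L : LocHyp t p n m X H Z w) [Finite G] :
    MulAction.stabilizer G ((QuotientGroup.mk 1, QuotientGroup.mk w) :
      (G ⧸ Subgroup.normalizer (X : Set G)) × (G ⧸ Subgroup.normalizer (X : Set G))) = H := by
  have hwi : w⁻¹ = w := inv_eq_of_mul_eq_one_right L.w_sq
  ext g
  rw [MulAction.mem_stabilizer_iff]
  have e1 : g • ((QuotientGroup.mk 1, QuotientGroup.mk w) :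
      (G ⧸ Subgroup.normalizer (X : Set G)) × (G ⧸ Subgroup.normalizer (X : Set G))) =
      (QuotientGroup.mk (g * 1), QuotientGroup.mk (g * w)) := rfl
  rw [e1, Prod.mk.injEq, mul_one, QuotientGroup.eq, QuotientGroup.eq, mul_one,
    _root_.mul_inv_rev, hwi]
  constructor
  · rintro ⟨h1, h2⟩
    apply mem_H_of L (by simpa using (Subgroup.normalizer (X : Set G)).inv_mem h1)
    have := (Subgroup.normalizer (X : Set G)).inv_mem h2
    simpa [hwi, mul_assoc] using this
  · intro hg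
    refine ⟨H_le_NX L (H.inv_mem hg), ?_⟩
    exact H_le_NX L (L.w_H _ (H.inv_mem hg))

theorem card_orbit (L : LocHyp t p n m X H Z w) [Finite G] :
    Nat.card (MulAction.orbit G ((QuotientGroup.mk 1, QuotientGroup.mk w) :
      (G ⧸ Subgroup.normalizer (X : Set G)) × (G ⧸ Subgroup.normalizer (X : Set G)))) *
      ((p ^ n - 1) * m) = Nat.card G := by
  have h1 := Nat.card_congr (MulAction.orbitProdStabilizerEquivGroup G
    ((QuotientGroup.mk 1, QuotientGroup.mk w) :
      (G ⧸ Subgroup.normalizer (X : Set G)) × (G ⧸ Subgroup.normalizer (X : Set G))))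
  rw [Nat.card_prod, stab_pair L, L.card_H] at h1
  exact h1

theorem orbit_sub (L : LocHyp t p n m X H Z w) [Finite G] :
    (MulAction.orbit G ((QuotientGroup.mk 1, QuotientGroup.mk w) :
      (G ⧸ Subgroup.normalizer (X : Set G)) × (G ⧸ Subgroup.normalizer (X : Set G)))) ⊆
      {x | x.1 ≠ x.2} := by
  rintro _ ⟨g, rfl⟩
  change g • (QuotientGroup.mk 1 : G ⧸ Subgroup.normalizer (X : Set G)) ≠
    g • (QuotientGroup.mk w : G ⧸ Subgroup.normalizer (X : Set G))
  intro h
  have h1 : (QuotientGroup.mk 1 : G ⧸ Subgroup.normalizer (X : Set G)) = QuotientGroup.mk w :=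
    MulAction.injective g h
  rw [QuotientGroup.eq, inv_one, one_mul] at h1
  exact w_ne L h1

theorem card_offdiag {α : Type*} [Finite α] :
    Nat.card {x : α × α // x.1 ≠ x.2} + Nat.card α = Nat.card α * Nat.card α := by
  classical
  have := Fintype.ofFinite α
  have h1 : Nat.card {x : α × α // x.1 ≠ x.2} = (Finset.univ : Finset α).offDiag.card := by
    rw [Nat.card_eq_fintype_card, Fintype.card_subtype]
    congr 1
    ext x
    simp
  rw [h1, Finset.offDiag_card, Nat.card_eq_fintype_card, Finset.card_univ]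
  exact Nat.sub_add_cancel (Nat.le_mul_self _)

/-- `|Ω| ℓ = q² (q³ + 1)` -/
theorem index_mul (L : LocHyp t p n m X H Z w) [Finite G] {l : ℕ}
    (hl : Nat.card (Subgroup.centralizer (X : Set G)) = l * (p ^ n * m)) :
    (Subgroup.normalizer (X : Set G)).index * l = (p ^ n) ^ 2 * ((p ^ n) ^ 3 + 1) := by
  have h1 := Subgroup.card_mul_index (Subgroup.normalizer (X : Set G))
  rw [card_NX L, hl, L.card_G, L.card_C] at h1
  have h3 := three_le_q L
  have h4 : p ^ (2 * n) = (p ^ n) ^ 2 := by rw [mul_comm, pow_mul]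
  rw [h4] at h1
  have hm := m_pos L
  set q := p ^ n with hq
  clear_value q
  obtain ⟨r, rfl⟩ : ∃ r, q = r + 1 := ⟨q - 1, by omega⟩
  have h5 : (r + 1) ^ 2 - (r + 1) = (r + 1) * r := by
    have : (r + 1) ^ 2 = (r + 1) * r + (r + 1) := by ring
    omega
  rw [h5] at h1
  simp only [Nat.add_sub_cancel] at h1
  have h6 : (Subgroup.normalizer (X : Set G)).index * l * ((r + 1) * r * m) =
      (r + 1) ^ 2 * ((r + 1) ^ 3 + 1) * ((r + 1) * r * m) := by
    rw [show (Subgroup.normalizer (X : Set G)).index * l * ((r + 1) * r * m) =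
      l * ((r + 1) * m) * r * (Subgroup.normalizer (X : Set G)).index by ring, h1]
    ring
  have h7 : 0 < (r + 1) * r * m := by
    apply Nat.mul_pos _ hm
    apply Nat.mul_pos (by omega) (by omega)
  exact Nat.eq_of_mul_eq_mul_right h7 h6

/-- the number of ordered pairs in the orbit of the base pair -/
theorem card_orbit' (L : LocHyp t p n m X H Z w) [Finite G] :
    Nat.card (MulAction.orbit G ((QuotientGroup.mk 1, QuotientGroup.mk w) :
      (G ⧸ Subgroup.normalizer (X : Set G)) × (G ⧸ Subgroup.normalizer (X : Set G)))) =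
      (p ^ n) ^ 3 * ((p ^ n) ^ 3 + 1) := by
  have h1 := card_orbit L
  rw [L.card_G, L.card_C] at h1
  have h3 := three_le_q L
  have h4 : p ^ (2 * n) = (p ^ n) ^ 2 := by rw [mul_comm, pow_mul]
  rw [h4] at h1
  have hm := m_pos L
  set q := p ^ n with hq
  clear_value q
  obtain ⟨r, rfl⟩ : ∃ r, q = r + 1 := ⟨q - 1, by omega⟩
  have h5 : (r + 1) ^ 2 - (r + 1) = (r + 1) * r := by
    have : (r + 1) ^ 2 = (r + 1) * r + (r + 1) := by ring
    omega
  rw [h5] at h1
  simp only [Nat.add_sub_cancel] at h1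
  have h7 : 0 < r * m := Nat.mul_pos (by omega) hm
  apply Nat.eq_of_mul_eq_mul_right h7
  rw [h1]; ring

theorem card_pairs_le (L : LocHyp t p n m X H Z w) [Finite G] :
    (p ^ n) ^ 3 * ((p ^ n) ^ 3 + 1) + (Subgroup.normalizer (X : Set G)).index ≤
      (Subgroup.normalizer (X : Set G)).index * (Subgroup.normalizer (X : Set G)).index := by
  have h1 := card_offdiag (α := G ⧸ Subgroup.normalizer (X : Set G))
  have h2 : Nat.card (MulAction.orbit G ((QuotientGroup.mk 1, QuotientGroup.mk w) :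
      (G ⧸ Subgroup.normalizer (X : Set G)) × (G ⧸ Subgroup.normalizer (X : Set G)))) ≤
      Nat.card {x : (G ⧸ Subgroup.normalizer (X : Set G)) × (G ⧸ Subgroup.normalizer (X : Set G)) //
        x.1 ≠ x.2} := Nat.card_mono (Set.toFinite _) (orbit_sub L)
  rw [card_orbit' L] at h2
  have h3 : (Subgroup.normalizer (X : Set G)).index = Nat.card (G ⧸ Subgroup.normalizer (X : Set G)) := rfl
  rw [h3]
  omega

theorem le_index (L : LocHyp t p n m X H Z w) [Finite G] :
    (p ^ n) ^ 3 + 1 ≤ (Subgroup.normalizer (X : Set G)).index := by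
  have h1 := card_pairs_le L
  have h0 : 0 < (Subgroup.normalizer (X : Set G)).index := Nat.pos_of_ne_zero
    (Subgroup.index_ne_zero_of_finite)
  by_contra h
  push Not at h
  have h2 : (Subgroup.normalizer (X : Set G)).index ≤ (p ^ n) ^ 3 := by omega
  set i := (Subgroup.normalizer (X : Set G)).index with hi
  nlinarith

theorem ell_le (L : LocHyp t p n m X H Z w) [Finite G] {l : ℕ}
    (hl : Nat.card (Subgroup.centralizer (X : Set G)) = l * (p ^ n * m)) : l ≤ (p ^ n) ^ 2 := by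
  have h1 := index_mul L hl
  have h2 := le_index L
  by_contra h
  push Not at h
  have h3 : ((p ^ n) ^ 3 + 1) * ((p ^ n) ^ 2 + 1) ≤ (Subgroup.normalizer (X : Set G)).index * l :=
    Nat.mul_le_mul h2 h
  rw [h1] at h3
  have h4 : ((p ^ n) ^ 3 + 1) * ((p ^ n) ^ 2 + 1) =
    (p ^ n) ^ 2 * ((p ^ n) ^ 3 + 1) + ((p ^ n) ^ 3 + 1) := by ring
  omega

end LH

end Cfsg.Agent.Classification.IdU.Basic
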