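import Mathlib
import Cfsg.Agent.Classification.IdU.Basic
import Cfsg.Agent.Classification.IdU.GenSylow

/-!
# Local analysis: a Sylow `p`-subgroup `P` of `C_G(X)` normalised by `t`
-/

set_option autoImplicit false

namespace Cfsg.Agent.Classification.IdU.BigP

open Cfsg.Agent.Classification.IdU.Defs Cfsg.Agent.Classification.IdU.Gen
  Cfsg.Agent.Classification.IdU.GenSylow Cfsg.Agent.Classification.IdU.Basic

variable {G : Type*} [Group G] {t w : G} {p n m : ℕ} {X H Z : Subgroup G}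

/-- `P` is a Sylow `p`-subgroup of `C(X)` normalised by `t`. -/
structure PData (t : G) (p : ℕ) (X P : Subgroup G) : Prop where
  pg : IsPGroup p P
  le : P ≤ Subgroup.centralizer (X : Set G)
  idx : ¬ p ∣ P.relIndex (Subgroup.centralizer (X : Set G))
  t_norm : ∀ x ∈ P, t * x * t ∈ P

theorem X_pgroup (L : LocHyp t p n m X H Z w) : IsPGroup p X := by
  have := LH.fact L
  exact IsPGroup.of_card L.card_X

/-- a `p`-element of `H` is trivial -/
theorem eq_one_of_mem_H [Finite G] (L : LocHyp t p n m X H Z w) {P : Subgroup G} (hP : IsPGroup p P)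
    {x : G} (hx : x ∈ P) (hh : x ∈ H) : x = 1 := by
  have := LH.fact L
  obtain ⟨k, hk⟩ := hP ⟨x, hx⟩
  have hk' : x ^ p ^ k = 1 := congrArg Subtype.val hk
  have h2 : orderOf x ∣ p ^ k := orderOf_dvd_of_pow_eq_one hk'
  have h3 : orderOf x ∣ Nat.card H := Subgroup.orderOf_dvd_natCard H hh
  have h4 : (p ^ k).Coprime (Nat.card H) := by
    apply Nat.Coprime.pow_left
    rw [L.card_H]
    apply Nat.Coprime.mul_right
    · exact (L.prime_p.coprime_iff_not_dvd).mpr (LH.not_dvd_pred L)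
    · exact (L.prime_p.coprime_iff_not_dvd).mpr (LH.not_dvd_m L)
  have h5 : orderOf x = 1 := Nat.dvd_one.mp (h4 ▸ Nat.dvd_gcd h2 h3)
  exact orderOf_eq_one_iff.mp h5

/-- a `p`-element of `XH` lies in `X` -/
theorem mem_X_of_XH [Finite G] (L : LocHyp t p n m X H Z w) {P : Subgroup G} (hP : IsPGroup p P)
    {v h : G} (hv : v ∈ X) (hh : h ∈ H) (hx : v * h ∈ P) : v * h ∈ X := by
  have := LH.fact L
  -- `v h` has `p`-power order and its image modulo `X` is `h`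
  obtain ⟨k, hk⟩ := hP ⟨v * h, hx⟩
  have hk' : (v * h) ^ p ^ k = 1 := congrArg Subtype.val hk
  have h1 : ∀ j : ℕ, ∃ x ∈ X, (v * h) ^ j = x * h ^ j := by
    intro j
    induction j with
    | zero => exact ⟨1, X.one_mem, by simp⟩
    | succ j ih =>
      obtain ⟨x, hxX, e⟩ := ih
      refine ⟨x * (h ^ j * v * (h ^ j)⁻¹), X.mul_mem hxX (L.H_norm _ (H.pow_mem hh j) _ hv), ?_⟩
      rw [pow_succ, e, pow_succ]
      group
  obtain ⟨x, hxX, e⟩ := h1 (p ^ k)
  rw [hk'] at e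
  have h2 : h ^ p ^ k = 1 := by
    apply LH.disj L _ (H.pow_mem hh _)
    have : h ^ p ^ k = x⁻¹ := by rw [eq_inv_iff_mul_eq_one, mul_eq_one_iff_eq_inv, eq_comm, ← mul_eq_one_iff_inv_eq]; exact e.symm
    rw [this]; exact X.inv_mem hxX
  have h3 : orderOf h ∣ p ^ k := orderOf_dvd_of_pow_eq_one h2
  have h4 : orderOf h ∣ Nat.card H := Subgroup.orderOf_dvd_natCard H hh
  have h5 : (p ^ k).Coprime (Nat.card H) := by
    apply Nat.Coprime.pow_left
    rw [L.card_H]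
    apply Nat.Coprime.mul_right
    · exact (L.prime_p.coprime_iff_not_dvd).mpr (LH.not_dvd_pred L)
    · exact (L.prime_p.coprime_iff_not_dvd).mpr (LH.not_dvd_m L)
  have h6 : orderOf h = 1 := Nat.dvd_one.mp (h5 ▸ Nat.dvd_gcd h3 h4)
  rw [orderOf_eq_one_iff.mp h6, mul_one]; exact hv

theorem odd_of_mem [Finite G] (L : LocHyp t p n m X H Z w) {P : Subgroup G} (hP : IsPGroup p P)
    {x : G} (hx : x ∈ P) : Odd (orderOf x) := by
  have := LH.fact L
  obtain ⟨k, hk⟩ := hP ⟨x, hx⟩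
  have hk' : x ^ p ^ k = 1 := congrArg Subtype.val hk
  obtain ⟨j, -, hj⟩ := (Nat.dvd_prime_pow L.prime_p).mp (orderOf_dvd_of_pow_eq_one hk')
  rw [hj]; exact L.odd_p.pow

theorem eq_one_of_sq [Finite G] (L : LocHyp t p n m X H Z w) {P : Subgroup G} (hP : IsPGroup p P)
    {x : G} (hx : x ∈ P) (h2 : x * x = 1) : x = 1 := by
  by_contra h
  have h3 : orderOf x = 2 := orderOf_eq_prime (by rw [pow_two]; exact h2) h
  have := odd_of_mem L hP hx
  rw [h3] at this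
  exact absurd this (by decide)

namespace PData

variable {P : Subgroup G}

theorem X_le (L : LocHyp t p n m X H Z w) [Finite G] (D : PData t p X P) : X ≤ P := by
  have := LH.fact L
  apply le_sylow_of_normal D.pg D.le D.idx (X_pgroup L)
    (fun x hx => LH.mem_CX.mpr (fun y hy => L.X_comm y hy x hx))
  intro k hk x hx
  have := LH.mem_CX.mp hk x hx
  rw [← this, mul_inv_cancel_right]; exact hx

theorem X_central (D : PData t p X P) {x u : G} (hx : x ∈ X) (hu : u ∈ P) : x * u = u * x :=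
  LH.mem_CX.mp (D.le hu) x hx

theorem fixed (L : LocHyp t p n m X H Z w) [Finite G] (D : PData t p X P) {u : G} (hu : u ∈ P)
    (ht : u * t = t * u) : u ∈ X := by
  obtain ⟨v, hv, z, hz, e⟩ := LH.cent_inf L ht (fun x hx => (LH.mem_CX.mp (D.le hu) x hx).symm)
  rw [e] at hu ⊢
  exact mem_X_of_XH L D.pg hv (L.Z_H hz) hu

/-- `u = x y` with `x ∈ X`, `y ∈ P` inverted by `t` -/
theorem decomp (L : LocHyp t p n m X H Z w) [Finite G] (D : PData t p X P) {u : G} (hu : u ∈ P) :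
    ∃ x ∈ X, ∃ y ∈ P, t * y * t = y⁻¹ ∧ u = x * y := by
  have hd : u⁻¹ * (t * u * t) ∈ P := P.mul_mem (P.inv_mem hu) (D.t_norm u hu)
  obtain ⟨v, hv, h1, h2⟩ := exists_decomp L.t_sq (odd_of_mem L D.pg hd)
  have hvP : v ∈ P := (Subgroup.zpowers_le.mpr hd) hv
  have h3 : (u * v) * t = t * (u * v) := by
    have : t * (u * v) = t * (u * v) * t * t := by rw [mul_assoc _ t t, L.t_sq, mul_one]
    rw [this, h1]
  have h4 : u * v ∈ X := fixed L D (P.mul_mem hu hvP) h3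
  refine ⟨u * v, h4, v⁻¹, P.inv_mem hvP, ?_, by group⟩
  have hti : t⁻¹ = t := inv_eq_of_mul_eq_one_right L.t_sq
  have h5 : (t * v * t)⁻¹ = v⁻¹⁻¹ := by rw [h2]
  rw [← h5, _root_.mul_inv_rev, _root_.mul_inv_rev, hti, mul_assoc]

/-- `u (t u t) ∈ X` -/
theorem mul_conj_mem (L : LocHyp t p n m X H Z w) [Finite G] (D : PData t p X P) {u : G}
    (hu : u ∈ P) : u * (t * u * t) ∈ X := by
  obtain ⟨x, hx, y, hy, h1, rfl⟩ := decomp L D hu
  have h2 : t * (x * y) * t = x * y⁻¹ := by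
    have h3 : t * (x * y) * t = (t * x) * y * t := by group
    rw [h3, ← L.X_t x hx, mul_assoc, mul_assoc, ← mul_assoc t y t, h1]
  rw [h2]
  have h4 : x * y * (x * y⁻¹) = x * x := by
    rw [mul_assoc x y, ← mul_assoc y x, ← X_central D hx hy]
    group
  rw [h4]
  exact X.mul_mem hx hx

/-- the commutator subgroup of `P` is contained in `X` -/
theorem comm_mem (L : LocHyp t p n m X H Z w) [Finite G] (D : PData t p X P) {u v : G}
    (hu : u ∈ P) (hv : v ∈ P) : u * v * u⁻¹ * v⁻¹ ∈ X := by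
  obtain ⟨x₁, hx₁, y₁, hy₁, h1, rfl⟩ := decomp L D hu
  obtain ⟨x₂, hx₂, y₂, hy₂, h2, rfl⟩ := decomp L D hv
  have h3 := mul_conj_mem L D (P.mul_mem hy₁ hy₂)
  have h4 : t * (y₁ * y₂) * t = y₁⁻¹ * y₂⁻¹ := by
    rw [← h1, ← h2]
    have : t * y₁ * t * (t * y₂ * t) = t * y₁ * (t * t) * y₂ * t := by group
    rw [this, L.t_sq]; group
  rw [h4] at h3
  have c1 := X_central D hx₁ hy₂
  have c2 := X_central D hx₂ hy₁
  have c3 := X_central D hx₁ (P.mul_mem hy₁ (P.mul_mem hy₂ (P.inv_mem hy₁)))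
  have c4 := X_central D hx₂ (P.mul_mem hy₁ (P.mul_mem hy₂ (P.inv_mem hy₁)))
  have c5 := L.X_comm x₁ hx₁ x₂ hx₂
  have e : x₁ * y₁ * (x₂ * y₂) * (x₁ * y₁)⁻¹ * (x₂ * y₂)⁻¹ = y₁ * y₂ * (y₁⁻¹ * y₂⁻¹) := by
    calc x₁ * y₁ * (x₂ * y₂) * (x₁ * y₁)⁻¹ * (x₂ * y₂)⁻¹
        = x₁ * (y₁ * x₂) * y₂ * y₁⁻¹ * x₁⁻¹ * y₂⁻¹ * x₂⁻¹ := by group
      _ = x₁ * (x₂ * y₁) * y₂ * y₁⁻¹ * x₁⁻¹ * y₂⁻¹ * x₂⁻¹ := by rw [c2]
      _ = x₁ * (x₂ * (y₁ * (y₂ * y₁⁻¹))) * x₁⁻¹ * y₂⁻¹ * x₂⁻¹ := by group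
      _ = x₁ * (y₁ * (y₂ * y₁⁻¹) * x₂) * x₁⁻¹ * y₂⁻¹ * x₂⁻¹ := by rw [c4]
      _ = (x₁ * (y₁ * (y₂ * y₁⁻¹))) * x₂ * x₁⁻¹ * y₂⁻¹ * x₂⁻¹ := by group
      _ = ((y₁ * (y₂ * y₁⁻¹)) * x₁) * x₂ * x₁⁻¹ * y₂⁻¹ * x₂⁻¹ := by rw [c3]
      _ = (y₁ * (y₂ * y₁⁻¹)) * (x₁ * x₂) * x₁⁻¹ * y₂⁻¹ * x₂⁻¹ := by group
      _ = (y₁ * (y₂ * y₁⁻¹)) * (x₂ * x₁) * x₁⁻¹ * y₂⁻¹ * x₂⁻¹ := by rw [c5]
      _ = (y₁ * (y₂ * y₁⁻¹)) * (x₂ * y₂⁻¹) * x₂⁻¹ := by group
      _ = (y₁ * (y₂ * y₁⁻¹)) * (y₂⁻¹ * x₂) * x₂⁻¹ := by rw [X_central D hx₂ (P.inv_mem hy₂)]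
      _ = y₁ * y₂ * (y₁⁻¹ * y₂⁻¹) := by group
  rw [e]; exact h3

end PData

/-- `H` is transitive on the non-trivial elements of `X`. -/
theorem exists_H_conj [Finite G] (L : LocHyp t p n m X H Z w) {x y : G} (hx : x ∈ X) (hx1 : x ≠ 1)
    (hy : y ∈ X) (hy1 : y ≠ 1) : ∃ h ∈ H, h * x * h⁻¹ = y := by
  let Y := {x : G // x ∈ X ∧ x ≠ 1}
  let _act : MulAction H Y :=
    { smul := fun a y => ⟨(a : G) * y.1 * (a : G)⁻¹, L.H_norm a a.2 _ y.2.1, fun h => y.2.2 (by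
        have : y.1 = (a : G)⁻¹ * ((a : G) * y.1 * (a : G)⁻¹) * a := by group
        rw [this, h]; group)⟩
      one_smul := fun y => by
        apply Subtype.ext
        change ((1 : H) : G) * y.1 * ((1 : H) : G)⁻¹ = y.1
        simp
      mul_smul := fun a b y => by
        apply Subtype.ext
        change ((a * b : H) : G) * y.1 * ((a * b : H) : G)⁻¹ =
          (a : G) * ((b : G) * y.1 * (b : G)⁻¹) * (a : G)⁻¹
        rw [Subgroup.coe_mul]; group }
  have hsm : ∀ (a : H) (y : Y), (a • y).1 = (a : G) * y.1 * (a : G)⁻¹ := fun _ _ => rfl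
  let x' : Y := ⟨x, hx, hx1⟩
  let y' : Y := ⟨y, hy, hy1⟩
  have h1 := Nat.card_congr (MulAction.orbitProdStabilizerEquivGroup H x')
  rw [Nat.card_prod, L.card_H] at h1
  have h2 : Nat.card (MulAction.stabilizer H x') = m := by
    rw [← L.card_Z]
    have h3 : MulAction.stabilizer H x' = Z.subgroupOf H := by
      ext a
      rw [MulAction.mem_stabilizer_iff, Subgroup.mem_subgroupOf]
      constructor
      · intro ha
        have h4 : (a : G) * x * (a : G)⁻¹ = x := congrArg Subtype.val ha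
        obtain ⟨v, hv, z, hz, e⟩ := L.cent_X x hx hx1 a (L.H_t a a.2)
          (mul_inv_eq_iff_eq_mul.mp h4)
        have h5 : v = 1 := by
          apply LH.disj L hv
          have : v = a * z⁻¹ := by rw [e]; group
          rw [this]
          exact H.mul_mem a.2 (H.inv_mem (L.Z_H hz))
        rw [e, h5, one_mul]; exact hz
      · intro ha
        apply Subtype.ext
        rw [hsm]
        change (a : G) * x * (a : G)⁻¹ = x
        rw [← LH.Z_cent L ha hx, mul_inv_cancel_right]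
    rw [h3, Nat.card_congr (Subgroup.subgroupOfEquivOfLe L.Z_H).toEquiv]
  rw [h2] at h1
  have h3 : Nat.card (MulAction.orbit H x') = p ^ n - 1 :=
    Nat.eq_of_mul_eq_mul_right (LH.m_pos L) h1
  have h4 : Nat.card Y = p ^ n - 1 := by
    have h5 : Nat.card Y + 1 = Nat.card X := by
      have h4 : Nat.card Y = ((X : Set G) \ {1}).ncard := by
        rw [← Nat.card_coe_set_eq]
        exact Nat.card_congr (Equiv.subtypeEquivRight (fun x => by simp))
      rw [h4, Set.ncard_sdiff_singleton_add_one X.one_mem (Set.toFinite _), ← Nat.card_coe_set_eq]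
      rfl
    rw [L.card_X] at h5
    omega
  have h5 : MulAction.orbit H x' = Set.univ := by
    apply Set.eq_of_subset_of_ncard_le (Set.subset_univ _) _ (Set.toFinite _)
    rw [Set.ncard_univ, h4, ← h3, ← Nat.card_coe_set_eq]
  have h6 : y' ∈ MulAction.orbit H x' := by rw [h5]; trivial
  obtain ⟨a, ha⟩ := h6
  exact ⟨a, a.2, congrArg Subtype.val ha⟩

/-- `|G| = q³ k |H|` with `k = (q² - q + 1) (q + 1)` -/
theorem card_G_eq [Finite G] (L : LocHyp t p n m X H Z w) :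
    Nat.card G = p ^ (3 * n) * ((p ^ (2 * n) - p ^ n + 1) * (p ^ n + 1)) * Nat.card H := by
  rw [L.card_G, L.card_C, L.card_H]
  have : p ^ (3 * n) = p ^ (2 * n) * p ^ n := by rw [← pow_add]; congr 1; ring
  rw [this]; ring

/-- If `N(P) ≤ N(X)` then `|P| = q³`. -/
theorem pow_dvd_of_normalizer [Finite G] (L : LocHyp t p n m X H Z w) {P : Subgroup G}
    (D : PData t p X P)
    (hN : Subgroup.normalizer (P : Set G) ≤ Subgroup.normalizer (X : Set G)) :
    p ^ (3 * n) ∣ Nat.card P := by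
  have := LH.fact L
  obtain ⟨e, he⟩ := IsPGroup.iff_card.mp D.pg
  by_contra hlt
  have he3 : e + 1 ≤ 3 * n := by
    by_contra h
    exact hlt (he ▸ pow_dvd_pow p (by omega))
  have h1 : p ^ (e + 1) ∣ Nat.card G := by
    rw [card_G_eq L, mul_assoc]
    exact (pow_dvd_pow p he3).mul_right _
  have h2 := Sylow.prime_pow_dvd_card_normalizer h1 he
  have h3 : p ^ (e + 1) ∣ Nat.card (Subgroup.normalizer (X : Set G)) :=
    h2.trans (Subgroup.card_dvd_of_le hN)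
  rw [LH.card_NX L, ← LH.relIndex_mul_card P _ D.le, he, pow_succ] at h3
  have h4 : p ∣ P.relIndex (Subgroup.centralizer (X : Set G)) * (p ^ n - 1) := by
    have h5 : p ^ e * p ∣ p ^ e * (P.relIndex (Subgroup.centralizer (X : Set G)) * (p ^ n - 1)) := by
      have : P.relIndex (Subgroup.centralizer (X : Set G)) * p ^ e * (p ^ n - 1) =
        p ^ e * (P.relIndex (Subgroup.centralizer (X : Set G)) * (p ^ n - 1)) := by ring
      rwa [this] at h3
    exact Nat.dvd_of_mul_dvd_mul_left (pow_pos L.prime_p.pos e) h5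
  rcases (L.prime_p.dvd_mul).mp h4 with h | h
  · exact D.idx h
  · exact LH.not_dvd_pred L h

/-- If `P` is not abelian then `N(P) ≤ N(X)`. `K₀` is the odd core of `C(X)`. -/
theorem normalizer_le_of_nonabelian [Finite G] (L : LocHyp t p n m X H Z w) {P : Subgroup G}
    (D : PData t p X P) (hna : ∃ u ∈ P, ∃ v ∈ P, u * v ≠ v * u) :
    Subgroup.normalizer (P : Set G) ≤ Subgroup.normalizer (X : Set G) := by
  have := LH.fact L
  -- the commutator subgroup of `P`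
  set C : Subgroup G := Subgroup.closure {c | ∃ u ∈ P, ∃ v ∈ P, c = u * v * u⁻¹ * v⁻¹} with hC
  have hCX : C ≤ X := by
    rw [hC, Subgroup.closure_le]
    rintro _ ⟨u, hu, v, hv, rfl⟩
    exact PData.comm_mem L D hu hv
  -- invariance under the normalizer of `P`
  have hinv : ∀ g : G, (∀ x ∈ P, g * x * g⁻¹ ∈ P) → ∀ c ∈ C, g * c * g⁻¹ ∈ C := by
    intro g hg c hc
    rw [hC] at hc
    induction hc using Subgroup.closure_induction with
    | mem c hc =>
      obtain ⟨u, hu, v, hv, rfl⟩ := hc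
      apply Subgroup.subset_closure
      exact ⟨_, hg u hu, _, hg v hv, by group⟩
    | one => simp
    | mul a b _ _ ha hb =>
      have : g * (a * b) * g⁻¹ = (g * a * g⁻¹) * (g * b * g⁻¹) := by group
      rw [this]; exact C.mul_mem ha hb
    | inv a _ ha =>
      have : g * a⁻¹ * g⁻¹ = (g * a * g⁻¹)⁻¹ := by group
      rw [this]; exact C.inv_mem ha
  obtain ⟨u, hu, v, hv, huv⟩ := hna
  have hc0 : u * v * u⁻¹ * v⁻¹ ∈ C := Subgroup.subset_closure ⟨u, hu, v, hv, rfl⟩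
  have hc1 : u * v * u⁻¹ * v⁻¹ ≠ 1 := by
    intro h
    apply huv
    have : u * v = (u * v * u⁻¹ * v⁻¹) * (v * u) := by group
    rw [this, h, one_mul]
  -- `C = X`
  have hXC : X ≤ C := by
    intro y hy
    by_cases hy1 : y = 1
    · rw [hy1]; exact C.one_mem
    obtain ⟨h, hh, e⟩ := exists_H_conj L (hCX hc0) hc1 hy hy1
    obtain ⟨k, hk, hkP⟩ := frattini D.pg D.le D.idx (g := h)
      (fun x hx => LH.conj_mem_CX (LH.H_le_NX L hh) hx)
    have h1 := hinv _ hkP _ hc0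
    have h2 : k⁻¹ * h * (u * v * u⁻¹ * v⁻¹) * (k⁻¹ * h)⁻¹ = k⁻¹ * y * k := by
      rw [← e]; group
    rw [h2] at h1
    have h3 : k⁻¹ * y * k = y := by
      rw [mul_assoc, LH.mem_CX.mp hk y hy, inv_mul_cancel_left]
    rwa [h3] at h1
  intro g hg
  rw [LH.mem_NX]
  intro x hx
  exact hCX (hinv g (fun x hx => (Subgroup.mem_normalizer_iff.mp hg x).mp hx) x (hXC hx))

end Cfsg.Agent.Classification.IdU.BigP
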