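import Mathlib
import Cfsg.Agent.Classification.IdU.BigP
import Cfsg.Agent.S0025
import Cfsg.Agent.Lib.Zsigmondy

/-!
# Local analysis: `|C_G(X)|` is divisible by `q³`
-/

set_option autoImplicit false

namespace Cfsg.Agent.Classification.IdU.Abel

open scoped Pointwise
open Cfsg.Agent.Classification.IdU.Defs Cfsg.Agent.Classification.IdU.Gen
  Cfsg.Agent.Classification.IdU.GenSylow Cfsg.Agent.Classification.IdU.Basic
  Cfsg.Agent.Classification.IdU.BigP

variable {G : Type*} [Group G] {t w : G} {p n m : ℕ} {X H Z : Subgroup G}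

theorem orderOf_conj_eq (g x : G) : orderOf (g * x * g⁻¹) = orderOf x := by
  have := orderOf_injective (MulAut.conj g).toMonoidHom (MulAut.conj g).injective x
  simpa using this

/-- An `A`-invariant Sylow `p`-subgroup of `C(X)`. -/
theorem exists_PData [Finite G] (L : LocHyp t p n m X H Z w) (A : Subgroup G) (hA : A ≤ H)
    (htA : t ∈ A) (hcop : ∀ r, r.Prime → r ∣ Nat.card A → r = 2 ∨
      ¬ r ∣ Nat.card (Subgroup.centralizer (X : Set G))) :
    ∃ P, PData t p X P ∧ ∀ a ∈ A, ∀ x ∈ P, a * x * a⁻¹ ∈ P := by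
  have := LH.fact L
  obtain ⟨S, hS1, hS2, hS3, hS4, hS5, hS6⟩ := LH.exists_SZ L
  obtain ⟨K, hK1, hK2, hK3, hK4, hK5⟩ := exists_odd_core _ S hS2 (hS1.trans (LH.Z_le_CX L)) hS3 hS6
  have hAK : A ≤ Subgroup.normalizer (K : Set G) := by
    have h1 : ∀ a ∈ A, ∀ x ∈ K, a * x * a⁻¹ ∈ K := by
      intro a ha x hx
      have h2 : a * x * a⁻¹ ∈ Subgroup.centralizer (X : Set G) :=
        LH.conj_mem_CX (LH.H_le_NX L (hA ha)) (hK1 hx)
      rw [hK3 _ h2, orderOf_conj_eq]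
      exact (hK3 x (hK1 hx)).mp hx
    intro a ha
    rw [Subgroup.mem_normalizer_iff]
    intro x
    refine ⟨h1 a ha x, fun hx => ?_⟩
    have := h1 a⁻¹ (A.inv_mem ha) _ hx
    have e : a⁻¹ * (a * x * a⁻¹) * a⁻¹⁻¹ = x := by group
    rwa [e] at this
  have hcop' : (Nat.card A).Coprime (Nat.card K) := by
    apply Nat.coprime_of_dvd
    intro r hr h1 h2
    rcases hcop r hr h1 with h3 | h3
    · rw [h3] at h2
      exact (Nat.not_even_iff_odd.mpr hK2) (even_iff_two_dvd.mpr h2)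
    · exact h3 (h2.trans (Subgroup.card_dvd_of_le hK1))
  have hsolv : Group.IsSolvable A := by
    have hc : IsCyclic A := by
      have := L.H_cyc
      exact (Subgroup.subgroupOfEquivOfLe hA).isCyclic.mp inferInstance
    exact Group.isSolvable_of_comm (fun a b => by
      let _ := hc.commGroup
      exact mul_comm a b)
  obtain ⟨T, hT⟩ := Cfsg.Agent.S0025.exists_invariant_sylow A K hAK hcop' (Or.inl hsolv) p
  obtain ⟨h1, h2, h3⟩ := sylow_map T
  have hinv : ∀ a ∈ A, ∀ x ∈ (T : Subgroup K).map K.subtype,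
      a * x * a⁻¹ ∈ (T : Subgroup K).map K.subtype := fun a ha x hx =>
    (Subgroup.mem_normalizer_iff.mp (hT ha) x).mp hx
  refine ⟨(T : Subgroup K).map K.subtype, ⟨h1, h2.trans hK1, ?_, ?_⟩, hinv⟩
  · have h4 := Subgroup.relIndex_mul_relIndex _ _ _ h2 hK1
    rw [← h4]
    intro h
    rcases (L.prime_p.dvd_mul).mp h with h | h
    · exact h3 h
    · have h5 := LH.relIndex_mul_card K _ hK1
      rw [hK5, mul_comm (Nat.card K)] at h5
      have h6 : K.relIndex (Subgroup.centralizer (X : Set G)) = Nat.card S :=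
        Nat.eq_of_mul_eq_mul_right Nat.card_pos h5
      obtain ⟨k, hk⟩ := (IsPGroup.iff_card (p := 2)).mp hS2
      rw [h6, hk] at h
      have h7 := L.prime_p.dvd_of_dvd_pow h
      have h8 := (Nat.prime_dvd_prime_iff_eq L.prime_p Nat.prime_two).mp h7
      have := L.odd_p
      rw [h8] at this
      exact absurd this (by decide)
  · intro x hx
    have hti : t⁻¹ = t := inv_eq_of_mul_eq_one_right L.t_sq
    have := hinv t htA x hx
    rwa [hti] at this

/-- The elements of an abelian `P` inverted by `t`. -/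
theorem exists_minus [Finite G] (L : LocHyp t p n m X H Z w) {P : Subgroup G} (D : PData t p X P)
    (hab : ∀ u ∈ P, ∀ v ∈ P, u * v = v * u) :
    ∃ Q : Subgroup G, (∀ u, u ∈ Q ↔ u ∈ P ∧ t * u * t = u⁻¹) ∧
      Nat.card P = p ^ n * Nat.card Q := by
  have hti : t⁻¹ = t := inv_eq_of_mul_eq_one_right L.t_sq
  let Q : Subgroup G :=
    { carrier := {u | u ∈ P ∧ t * u * t = u⁻¹}
      one_mem' := ⟨P.one_mem, by rw [mul_one, L.t_sq, inv_one]⟩
      mul_mem' := by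
        rintro a b ⟨ha, ha'⟩ ⟨hb, hb'⟩
        refine ⟨P.mul_mem ha hb, ?_⟩
        have : t * (a * b) * t = (t * a * t) * (t * b * t) := by
          have : (t * a * t) * (t * b * t) = t * a * (t * t) * b * t := by group
          rw [this, L.t_sq]; group
        rw [this, ha', hb', hab a ha b hb]; group
      inv_mem' := by
        rintro a ⟨ha, ha'⟩
        refine ⟨P.inv_mem ha, ?_⟩
        have h5 : (t * a * t)⁻¹ = a⁻¹⁻¹ := by rw [ha']
        rw [← h5, _root_.mul_inv_rev, _root_.mul_inv_rev, hti, mul_assoc] }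
  have hQ : ∀ u, u ∈ Q ↔ u ∈ P ∧ t * u * t = u⁻¹ := fun _ => Iff.rfl
  refine ⟨Q, hQ, ?_⟩
  have h1 := Cfsg.Agent.Lib.ProductSet.card_mul_card_inf X Q
  have h2 : X ⊓ Q = ⊥ := by
    rw [eq_bot_iff]
    rintro u ⟨hx, hq⟩
    have h3 := ((hQ u).mp hq).2
    rw [← L.X_t u hx, mul_assoc, L.t_sq, mul_one] at h3
    exact LH.X_odd L hx (by nth_rewrite 2 [h3]; rw [mul_inv_cancel])
  have h3 : ((X : Set G) * (Q : Set G)) = (P : Set G) := by
    ext u
    constructor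
    · rintro ⟨x, hx, y, hy, rfl⟩
      exact P.mul_mem (PData.X_le L D hx) ((hQ y).mp hy).1
    · intro hu
      obtain ⟨x, hx, y, hy, h4, e⟩ := PData.decomp L D hu
      exact ⟨x, hx, y, (hQ y).mpr ⟨hy, h4⟩, e.symm⟩
  rw [h2, h3, Subgroup.card_bot, mul_one, L.card_X] at h1
  exact h1

/-- The order of the Sylow 2-subgroup of `H`. -/
theorem card_S_spec [Finite G] (L : LocHyp t p n m X H Z w) {S : Subgroup G} (hSH : S ≤ H)
    (hS : IsPGroup 2 S) (hi : ¬ 2 ∣ S.relIndex H) :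
    ∃ c, Nat.card S = 2 ^ c ∧ 2 ^ c ∣ p ^ (2 * n) - 1 ∧ ¬ 2 ^ (c + 1) ∣ p ^ (2 * n) - 1 := by
  obtain ⟨c, hc⟩ := (IsPGroup.iff_card (p := 2)).mp hS
  obtain ⟨z, hz, hzm⟩ := L.m_spec
  have h1 := LH.relIndex_mul_card S H hSH
  have h2 : p ^ (2 * n) - 1 = z * S.relIndex H * 2 ^ c := by
    rw [← hc, mul_assoc, h1, L.card_H]
    have h3 : p ^ (2 * n) - 1 = (p ^ n - 1) * (p ^ n + 1) := by
      rw [mul_comm 2 n, pow_mul, sq]
      have := Nat.sq_sub_sq (p ^ n) 1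
      rw [one_pow, sq] at this
      rw [this, mul_comm]
    rw [h3, ← hzm]; ring
  refine ⟨c, hc, ⟨_, by rw [h2, mul_comm]⟩, ?_⟩
  rw [h2, pow_succ, mul_comm (2 ^ c) 2]
  intro h
  have h4 := Nat.dvd_of_mul_dvd_mul_right (pow_pos two_pos c) h
  rcases (Nat.prime_two.dvd_mul).mp h4 with h5 | h5
  · exact (Nat.not_even_iff_odd.mpr hz) (even_iff_two_dvd.mpr h5)
  · exact hi h5

/-- Case `n = 2 ^ a`. -/
theorem pow_dvd_of_pow [Finite G] (L : LocHyp t p n m X H Z w) {a : ℕ} (hn : n = 2 ^ a) :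
    ∃ P, PData t p X P ∧ p ^ (3 * n) ∣ Nat.card P := by
  have := LH.fact L
  obtain ⟨S, hS1, hS2, hS3, hS4, hS5, hS6, hS7⟩ := LH.exists_SH L
  obtain ⟨c, hc0, hc1, hc2⟩ := card_S_spec L hS1 hS2 hS6
  obtain ⟨P, D, hSP⟩ := exists_PData L S hS1 hS4 (by
    intro r hr h
    left
    rw [hc0] at h
    exact (Nat.prime_dvd_prime_iff_eq hr Nat.prime_two).mp (hr.dvd_of_dvd_pow h))
  refine ⟨P, D, ?_⟩
  by_cases hab : ∀ u ∈ P, ∀ v ∈ P, u * v = v * u
  swap
  · push Not at hab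
    exact pow_dvd_of_normalizer L D (normalizer_le_of_nonabelian L D hab)
  obtain ⟨Q, hQ, hcard⟩ := exists_minus L D hab
  have hQP : Q ≤ P := fun u hu => ((hQ u).mp hu).1
  obtain ⟨k, hk⟩ := IsPGroup.iff_card.mp (D.pg.to_le hQP)
  by_cases hk0 : k = 0
  · -- `P = X`
    apply pow_dvd_of_normalizer L D
    have h1 : X = P := by
      apply Subgroup.eq_of_le_of_card_ge (PData.X_le L D)
      rw [hcard, hk, hk0, pow_zero, mul_one, L.card_X]
    rw [h1]
  · have h1 : Nat.card S ∣ Nat.card Q - 1 := by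
      apply card_dvd_sub_one S.subtype Q
      · rintro ⟨s, hs⟩ v hv
        change s * v * s⁻¹ ∈ Q
        rw [hQ] at hv ⊢
        refine ⟨hSP s hs v hv.1, ?_⟩
        have h2 : t * s = s * t := (L.H_t s (hS1 hs)).symm
        have h3 : s⁻¹ * t = t * s⁻¹ := by
          rw [inv_mul_eq_iff_eq_mul, ← mul_assoc, ← h2, mul_inv_cancel_right]
        calc t * (s * v * s⁻¹) * t = (t * s) * v * (s⁻¹ * t) := by group
          _ = s * (t * v * t) * s⁻¹ := by rw [h2, h3]; group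
          _ = (s * v * s⁻¹)⁻¹ := by rw [hv.2]; group
      · rintro ⟨s, hs⟩ hs1 v hv hsv
        have hs1' : s ≠ 1 := fun h => hs1 (Subtype.ext h)
        obtain ⟨j, hj⟩ := exists_pow_eq hS2 hS5 hs hs1'
        have h2 : Commute s v := mul_inv_eq_iff_eq_mul.mp hsv
        have h3 : Commute t v := hj ▸ h2.pow_left j
        have h4 := ((hQ v).mp hv).2
        rw [h3.eq, mul_assoc, L.t_sq, mul_one] at h4
        exact eq_one_of_sq L D.pg (hQP hv) (by nth_rewrite 2 [h4]; rw [mul_inv_cancel])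
    rw [hc0, hk] at h1
    have h2 := two_mul_dvd_of_pow L.odd_p hn hc2 hc1 h1
    have h3 : 2 * n ≤ k := Nat.le_of_dvd (Nat.pos_of_ne_zero hk0) h2
    rw [hcard, hk, ← pow_add]
    exact pow_dvd_pow p (by omega)

theorem H_comm (L : LocHyp t p n m X H Z w) {a b : G} (ha : a ∈ H) (hb : b ∈ H) : a * b = b * a := by
  let _ := L.H_cyc.commGroup
  exact congrArg Subtype.val (mul_comm (⟨a, ha⟩ : H) ⟨b, hb⟩)

/-- `|N(X)|_p = |P|` -/
theorem not_dvd_NX [Finite G] (L : LocHyp t p n m X H Z w) {P : Subgroup G}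
    (D : PData t p X P) {e : ℕ} (he : Nat.card P = p ^ e) :
    ¬ p ^ (e + 1) ∣ Nat.card (Subgroup.normalizer (X : Set G)) := by
  intro h3
  rw [LH.card_NX L, ← LH.relIndex_mul_card P _ D.le, he, pow_succ] at h3
  have h4 : p ∣ P.relIndex (Subgroup.centralizer (X : Set G)) * (p ^ n - 1) := by
    have h5 : p ^ e * p ∣ p ^ e * (P.relIndex (Subgroup.centralizer (X : Set G)) * (p ^ n - 1)) := by
      have : P.relIndex (Subgroup.centralizer (X : Set G)) * p ^ e * (p ^ n - 1) =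
        p ^ e * (P.relIndex (Subgroup.centralizer (X : Set G)) * (p ^ n - 1)) := by ring
      rwa [this] at h3
    exact Nat.dvd_of_mul_dvd_mul_left (pow_pos L.prime_p.pos e) h5
  rcases (L.prime_p.dvd_mul).mp h4 with h | h
  · exact D.idx h
  · exact LH.not_dvd_pred L h

section prim

variable {r : ℕ}

theorem r_not_dvd_q (L : LocHyp t p n m X H Z w) (hr : r.Prime) (hr1 : r ∣ p ^ n - 1) :
    ¬ r ∣ p ^ n := by
  intro h
  have h0 := LH.three_le_q L
  have h2 : r ∣ p ^ n - (p ^ n - 1) := Nat.dvd_sub h hr1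
  have h3 : p ^ n - (p ^ n - 1) = 1 := by omega
  rw [h3] at h2
  exact hr.one_lt.ne' (Nat.dvd_one.mp h2)

theorem r_not_dvd_succ (L : LocHyp t p n m X H Z w) (hr : r.Prime) (hr2 : r ≠ 2)
    (hr1 : r ∣ p ^ n - 1) : ¬ r ∣ p ^ n + 1 := by
  intro h
  have h0 := LH.three_le_q L
  have h2 : r ∣ (p ^ n + 1) - (p ^ n - 1) := Nat.dvd_sub h hr1
  have h3 : (p ^ n + 1) - (p ^ n - 1) = 2 := by omega
  rw [h3] at h2
  exact hr2 ((Nat.prime_dvd_prime_iff_eq hr Nat.prime_two).mp h2)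

theorem r_not_dvd_m (L : LocHyp t p n m X H Z w) (hr : r.Prime) (hr2 : r ≠ 2)
    (hr1 : r ∣ p ^ n - 1) : ¬ r ∣ m := fun h =>
  r_not_dvd_succ L hr hr2 hr1 (h.trans (LH.m_dvd L))

theorem r_not_dvd_phi (L : LocHyp t p n m X H Z w) (hr : r.Prime)
    (hr1 : r ∣ p ^ n - 1) : ¬ r ∣ p ^ (2 * n) - p ^ n + 1 := by
  intro h
  have h0 := LH.three_le_q L
  have e : p ^ (2 * n) - p ^ n + 1 = p ^ n * (p ^ n - 1) + 1 := by
    rw [mul_comm 2 n, pow_mul, sq, Nat.mul_sub, mul_one]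
  rw [e] at h
  have h2 : r ∣ 1 := (Nat.dvd_add_right (hr1.mul_left _)).mp h
  exact hr.one_lt.ne' (Nat.dvd_one.mp h2)

theorem r_not_dvd_cube (L : LocHyp t p n m X H Z w) (hr : r.Prime) (hr2 : r ≠ 2)
    (hr1 : r ∣ p ^ n - 1) : ¬ r ∣ (p ^ n) ^ 3 + 1 := by
  intro h
  have h0 := LH.three_le_q L
  have e : (p ^ n) ^ 3 + 1 = (p ^ n - 1) * ((p ^ n) ^ 2 + p ^ n + 1) + 2 := by
    obtain ⟨k, hk⟩ : ∃ k, p ^ n = k + 1 := ⟨p ^ n - 1, by omega⟩
    rw [hk, Nat.add_sub_cancel]; ring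
  rw [e] at h
  have h2 : r ∣ 2 := (Nat.dvd_add_right (hr1.mul_right _)).mp h
  exact hr2 ((Nat.prime_dvd_prime_iff_eq hr Nat.prime_two).mp h2)

theorem r_not_dvd_CX [Finite G] (L : LocHyp t p n m X H Z w) (hr : r.Prime) (hr2 : r ≠ 2)
    (hr1 : r ∣ p ^ n - 1) : ¬ r ∣ Nat.card (Subgroup.centralizer (X : Set G)) := by
  obtain ⟨l, hl⟩ := LH.exists_ell L
  rw [hl]
  intro h
  rcases (hr.dvd_mul).mp h with h | h
  · have h1 : r ∣ (p ^ n) ^ 2 * ((p ^ n) ^ 3 + 1) := by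
      rw [← LH.index_mul L hl]; exact h.mul_left _
    rcases (hr.dvd_mul).mp h1 with h2 | h2
    · exact r_not_dvd_q L hr hr1 (hr.dvd_of_dvd_pow h2)
    · exact r_not_dvd_cube L hr hr2 hr1 h2
  · rcases (hr.dvd_mul).mp h with h | h
    · exact r_not_dvd_q L hr hr1 h
    · exact r_not_dvd_m L hr hr2 hr1 h

/-- the index of `H` in `G` is prime to `r` -/
theorem r_not_dvd_index [Finite G] (L : LocHyp t p n m X H Z w) (hr : r.Prime) (hr2 : r ≠ 2)
    (hr1 : r ∣ p ^ n - 1) : ¬ r ∣ H.index := by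
  have h1 := Subgroup.card_mul_index H
  rw [card_G_eq L, mul_comm (Nat.card H)] at h1
  have h2 : H.index = p ^ (3 * n) * ((p ^ (2 * n) - p ^ n + 1) * (p ^ n + 1)) :=
    Nat.eq_of_mul_eq_mul_right Nat.card_pos h1
  rw [h2]
  intro h
  rcases (hr.dvd_mul).mp h with h | h
  · apply r_not_dvd_q L hr hr1
    rw [mul_comm, pow_mul] at h
    exact hr.dvd_of_dvd_pow h
  · rcases (hr.dvd_mul).mp h with h | h
    · exact r_not_dvd_phi L hr hr1 h
    · exact r_not_dvd_succ L hr hr2 hr1 h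

/-- The subgroup `A = O₂(H) × O_r(H)`. -/
theorem exists_A [Finite G] (L : LocHyp t p n m X H Z w) [hr : Fact r.Prime] {S : Subgroup G}
    (hSH : S ≤ H) (hS : IsPGroup 2 S) :
    ∃ A T : Subgroup G, A ≤ H ∧ S ≤ A ∧ T ≤ A ∧ IsPGroup r T ∧ ¬ r ∣ T.relIndex H ∧
      (∀ x ∈ H, (∃ j, x ^ r ^ j = 1) → x ∈ T) ∧
      (∀ s, s.Prime → s ∣ Nat.card A → s = 2 ∨ s = r) := by
  obtain ⟨T, hT1, hT2, hT3, hT4, hT5⟩ := exists_sylow_of_isCyclic H L.H_cyc r
  let A : Subgroup G :=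
    { carrier := {x | x ∈ H ∧ x ^ (Nat.card S * Nat.card T) = 1}
      one_mem' := ⟨H.one_mem, one_pow _⟩
      mul_mem' := by
        rintro a b ⟨ha, ha'⟩ ⟨hb, hb'⟩
        refine ⟨H.mul_mem ha hb, ?_⟩
        rw [(show Commute a b from H_comm L ha hb).mul_pow, ha', hb', one_mul]
      inv_mem' := by
        rintro a ⟨ha, ha'⟩
        exact ⟨H.inv_mem ha, by rw [inv_pow, ha', inv_one]⟩ }
  refine ⟨A, T, fun x hx => hx.1, ?_, ?_, hT2, hT3, hT5, ?_⟩
  · intro s hs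
    refine ⟨hSH hs, ?_⟩
    have h1 : s ^ Nat.card S = 1 := congrArg Subtype.val (pow_card_eq_one' (x := (⟨s, hs⟩ : S)))
    rw [pow_mul, h1, one_pow]
  · intro s hs
    refine ⟨hT1 hs, ?_⟩
    have h1 : s ^ Nat.card T = 1 := congrArg Subtype.val (pow_card_eq_one' (x := (⟨s, hs⟩ : T)))
    rw [mul_comm, pow_mul, h1, one_pow]
  · intro s hs hsA
    have : Fact s.Prime := ⟨hs⟩
    obtain ⟨a, ha⟩ := exists_prime_orderOf_dvd_card' s hsA
    have h1 : (a : G) ^ (Nat.card S * Nat.card T) = 1 := a.2.2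
    have h2 : orderOf (a : G) ∣ Nat.card S * Nat.card T := orderOf_dvd_of_pow_eq_one h1
    rw [Subgroup.orderOf_coe, ha] at h2
    obtain ⟨c, hc⟩ := (IsPGroup.iff_card (p := 2)).mp hS
    obtain ⟨d, hd⟩ := (IsPGroup.iff_card (p := r)).mp hT2
    rw [hc, hd] at h2
    rcases (hs.dvd_mul).mp h2 with h | h
    · left
      exact (Nat.prime_dvd_prime_iff_eq hs Nat.prime_two).mp (hs.dvd_of_dvd_pow h)
    · right
      exact (Nat.prime_dvd_prime_iff_eq hs hr.out).mp (hs.dvd_of_dvd_pow h)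

end prim

end Cfsg.Agent.Classification.IdU.Abel
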