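import Mathlib
import Cfsg.Agent.Classification.IdU.Abel

/-!
# Local analysis: `|C_G(X)|` is divisible by `q³`, the case with a primitive prime divisor
-/

set_option autoImplicit false

namespace Cfsg.Agent.Classification.IdU.Prim

open scoped Pointwise
open Cfsg.Agent.Classification.IdU.Defs Cfsg.Agent.Classification.IdU.Gen
  Cfsg.Agent.Classification.IdU.GenSylow Cfsg.Agent.Classification.IdU.Basic
  Cfsg.Agent.Classification.IdU.BigP Cfsg.Agent.Classification.IdU.Abel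

variable {G : Type*} [Group G] {t w : G} {p n m : ℕ} {X H Z : Subgroup G} {P Q S : Subgroup G}

/-- elements normalising `P` and centralising `t` normalise `X` -/
theorem mem_NX_of [Finite G] (L : LocHyp t p n m X H Z w) (D : PData t p X P) {g : G}
    (hg : ∀ x ∈ P, g * x * g⁻¹ ∈ P) (ht : g * t = t * g) : g ∈ Subgroup.normalizer (X : Set G) := by
  rw [LH.mem_NX]
  intro x hx
  apply PData.fixed L D (hg x (PData.X_le L D hx))
  have h1 : g⁻¹ * t = t * g⁻¹ := by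
    rw [inv_mul_eq_iff_eq_mul, ← mul_assoc, ht, mul_inv_cancel_right]
  calc g * x * g⁻¹ * t = g * x * (g⁻¹ * t) := by group
    _ = g * (x * t) * g⁻¹ := by rw [h1]; group
    _ = (g * t) * x * g⁻¹ := by rw [L.X_t x hx]; group
    _ = t * (g * x * g⁻¹) := by rw [ht]; group

/-- a subgroup `Y` all of whose elements centralised by `t` normalise `X`, containing `S` -/
theorem not_dvd_of_fixed [Finite G] (L : LocHyp t p n m X H Z w) {Y : Subgroup G}
    (hSH : S ≤ H) (hS : IsPGroup 2 S) (htS : t ∈ S) (hu : ∀ s ∈ S, s * s = 1 → s ≠ 1 → s = t)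
    (hi : ¬ 2 ∣ S.relIndex (Subgroup.normalizer (X : Set G))) (hSY : S ≤ Y)
    (hY : ∀ g ∈ Y, g * t = t * g → g ∈ Subgroup.normalizer (X : Set G)) :
    ¬ 2 ∣ S.relIndex Y := by
  apply not_dvd_relIndex Y S hS hSY htS L.t_ne L.t_sq hu
  have h1 : Y ⊓ Subgroup.centralizer {t} ≤ Subgroup.normalizer (X : Set G) := by
    rintro g ⟨h1, h2⟩
    exact hY g h1 (Subgroup.mem_centralizer_singleton_iff.mp h2)
  have h2 : S ≤ Y ⊓ Subgroup.centralizer {t} := le_inf hSY (hSH.trans (LH.H_le L))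
  have h3 := Subgroup.relIndex_mul_relIndex S _ _ h2 h1
  rw [← h3] at hi
  exact fun h => hi (h.mul_right _)

/-- For a `p`-group `Y` normalised by `t` whose elements centralised by `t` normalise `X`. -/
theorem mul_conj_mem' [Finite G] (L : LocHyp t p n m X H Z w) (D : PData t p X P) {Y : Subgroup G}
    (hY : IsPGroup p Y) (htY : ∀ x ∈ Y, t * x * t ∈ Y) (hYP : ∀ y ∈ Y, ∀ x ∈ P, y * x * y⁻¹ ∈ P)
    {u : G} (hu : u ∈ Y) : u * (t * u * t) ∈ P := by
  have hd : u⁻¹ * (t * u * t) ∈ Y := Y.mul_mem (Y.inv_mem hu) (htY u hu)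
  obtain ⟨v, hv, h1, h2⟩ := exists_decomp L.t_sq (odd_of_mem L hY hd)
  have hvY : v ∈ Y := (Subgroup.zpowers_le.mpr hd) hv
  have h3 : (u * v) * t = t * (u * v) := by
    have : t * (u * v) = t * (u * v) * t * t := by rw [mul_assoc _ t t, L.t_sq, mul_one]
    rw [this, h1]
  have h4 : u * v ∈ X := by
    have h5 := mem_NX_of L D (hYP _ (Y.mul_mem hu hvY)) h3
    obtain ⟨x, hx, k, hk, e⟩ := L.norm_X _ h3 (LH.mem_NX.mp h5)
    rw [e]
    apply mem_X_of_XH L hY hx hk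
    rw [← e]; exact Y.mul_mem hu hvY
  set x := u * v with hx
  have h5 : u = x * v⁻¹ := by rw [hx]; group
  have hti : t⁻¹ = t := inv_eq_of_mul_eq_one_right L.t_sq
  have h6 : t * v⁻¹ * t = v := by
    have h7 : (t * v * t)⁻¹ = v⁻¹⁻¹ := by rw [h2]
    rw [_root_.mul_inv_rev, _root_.mul_inv_rev, hti, inv_inv] at h7
    rw [mul_assoc]; exact h7
  have h7 : t * u * t = x * v := by
    rw [h5]
    have h8 : t * (x * v⁻¹) * t = (t * x) * v⁻¹ * t := by group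
    rw [h8, ← L.X_t x h4, mul_assoc, mul_assoc, ← mul_assoc t v⁻¹ t, h6]
  rw [h7]
  have h8 : u * (x * v) = x * (v⁻¹ * x * v⁻¹⁻¹) := by rw [h5]; group
  rw [h8]
  exact P.mul_mem (PData.X_le L D h4) (hYP _ (Y.inv_mem hvY) _ (PData.X_le L D h4))

/-- elements of `H` normalising `P` normalise `Q` -/
theorem Q_norm (L : LocHyp t p n m X H Z w) (hQ : ∀ u, u ∈ Q ↔ u ∈ P ∧ t * u * t = u⁻¹) {a : G}
    (ha : a ∈ H) (haP : ∀ x ∈ P, a * x * a⁻¹ ∈ P) : ∀ v ∈ Q, a * v * a⁻¹ ∈ Q := by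
  intro v hv
  rw [hQ] at hv ⊢
  refine ⟨haP v hv.1, ?_⟩
  have h2 : t * a = a * t := (L.H_t a ha).symm
  have h3 : a⁻¹ * t = t * a⁻¹ := by
    rw [inv_mul_eq_iff_eq_mul, ← mul_assoc, ← h2, mul_inv_cancel_right]
  calc t * (a * v * a⁻¹) * t = (t * a) * v * (a⁻¹ * t) := by group
    _ = a * (t * v * t) * a⁻¹ := by rw [h2, h3]; group
    _ = (a * v * a⁻¹)⁻¹ := by rw [hv.2]; group

theorem Q_free [Finite G] (L : LocHyp t p n m X H Z w) (D : PData t p X P)
    (hQ : ∀ u, u ∈ Q ↔ u ∈ P ∧ t * u * t = u⁻¹) (hS : IsPGroup 2 S)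
    (hu : ∀ s ∈ S, s * s = 1 → s ≠ 1 → s = t) {s : G} (hs : s ∈ S) (hs1 : s ≠ 1) :
    ∀ v ∈ Q, s * v * s⁻¹ = v → v = 1 := by
  intro v hv hsv
  obtain ⟨j, hj⟩ := exists_pow_eq hS hu hs hs1
  have h2 : Commute s v := mul_inv_eq_iff_eq_mul.mp hsv
  have h3 : Commute t v := hj ▸ h2.pow_left j
  have h4 := ((hQ v).mp hv).2
  rw [h3.eq, mul_assoc, L.t_sq, mul_one] at h4
  exact eq_one_of_sq L D.pg ((hQ v).mp hv).1 (by nth_rewrite 2 [h4]; rw [mul_inv_cancel])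

/-- (D1) `h` centralises `Q`. -/
theorem h_cent_Q [Finite G] (L : LocHyp t p n m X H Z w) (D : PData t p X P)
    (hab : ∀ u ∈ P, ∀ v ∈ P, u * v = v * u) (hQ : ∀ u, u ∈ Q ↔ u ∈ P ∧ t * u * t = u⁻¹)
    (hcard : Nat.card P = p ^ n * Nat.card Q) (hlt : ¬ p ^ (3 * n) ∣ Nat.card P)
    (hSH : S ≤ H) (hS : IsPGroup 2 S)
    (hu : ∀ s ∈ S, s * s = 1 → s ≠ 1 → s = t) (hSi : ¬ 2 ∣ S.relIndex H)
    (hSP : ∀ s ∈ S, ∀ x ∈ P, s * x * s⁻¹ ∈ P) {r : ℕ} (hr : r.Prime) (hrp : r ≠ p)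
    (hprim : ∀ k, r ∣ p ^ k - 1 → n ∣ k) {h : G} (hh : h ∈ H) (hhr : h ^ r = 1)
    (hhP : ∀ x ∈ P, h * x * h⁻¹ ∈ P) : ∀ v ∈ Q, h * v * h⁻¹ = v := by
  have := LH.fact L
  by_contra hne
  push Not at hne
  have hQP : Q ≤ P := fun u hu => ((hQ u).mp hu).1
  obtain ⟨c, hc0, hc1, hc2⟩ := card_S_spec L hSH hS hSi
  obtain ⟨k, hk1, hk2, hk3, hk4⟩ := exists_dvd L.prime_p hr hrp Q (D.pg.to_le hQP)
    (fun x hx y hy => hab x (hQP hx) y (hQP hy)) hhr (Q_norm L hQ hh hhP) hne S.subtype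
    (fun a => Q_norm L hQ (hSH a.2) (hSP a a.2)) (fun a => H_comm L (hSH a.2) hh)
    (fun a ha => Q_free L D hQ hS hu a.2 (fun h => ha (Subtype.ext h)))
  rw [hc0] at hk4
  have h1 := two_mul_dvd_of_dvd L.odd_p L.n_pos hc2 hc1 hk4 (hprim k hk3)
  have h2 : 2 * n ≤ k := Nat.le_of_dvd hk1 h1
  obtain ⟨e, he⟩ := IsPGroup.iff_card.mp D.pg
  apply hlt
  rw [he]
  apply pow_dvd_pow
  have h3 : p ^ (3 * n) ≤ p ^ e := by
    rw [← he, hcard]
    calc p ^ (3 * n) = p ^ n * p ^ (2 * n) := by rw [← pow_add]; congr 1; ring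
      _ ≤ p ^ n * Nat.card Q :=
        Nat.mul_le_mul_left _ ((Nat.pow_le_pow_right L.prime_p.pos h2).trans hk2)
  exact (Nat.pow_le_pow_iff_right L.prime_p.one_lt).mp h3

/-- `p ^ (3 n)` is the full power of `p` dividing `|G|`. -/
theorem card_le_of_pgroup [Finite G] (L : LocHyp t p n m X H Z w) {Y : Subgroup G}
    (hY : IsPGroup p Y) : Nat.card Y ∣ p ^ (3 * n) := by
  have := LH.fact L
  obtain ⟨e, he⟩ := IsPGroup.iff_card.mp hY
  have h1 : p ^ e ∣ Nat.card G := by rw [← he]; exact Subgroup.card_subgroup_dvd_card Y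
  rw [card_G_eq L, mul_assoc] at h1
  have h2 : (p ^ e).Coprime ((p ^ (2 * n) - p ^ n + 1) * (p ^ n + 1) * Nat.card H) := by
    apply Nat.Coprime.pow_left
    have h0 := LH.three_le_q L
    have hn : n ≠ 0 := by have := L.n_pos; omega
    apply Nat.Coprime.mul_right
    · apply Nat.Coprime.mul_right
      · rw [L.prime_p.coprime_iff_not_dvd]
        intro h
        have e : p ^ (2 * n) - p ^ n + 1 = p ^ n * (p ^ n - 1) + 1 := by
          rw [mul_comm 2 n, pow_mul, sq, Nat.mul_sub, mul_one]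
        rw [e] at h
        have h2 : p ∣ 1 := (Nat.dvd_add_right ((dvd_pow_self p hn).mul_right _)).mp h
        exact L.prime_p.one_lt.ne' (Nat.dvd_one.mp h2)
      · rw [L.prime_p.coprime_iff_not_dvd]
        intro h
        have h2 : p ∣ 1 := (Nat.dvd_add_right (dvd_pow_self p hn)).mp h
        exact L.prime_p.one_lt.ne' (Nat.dvd_one.mp h2)
    · rw [L.card_H]
      apply Nat.Coprime.mul_right
      · exact (L.prime_p.coprime_iff_not_dvd).mpr (LH.not_dvd_pred L)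
      · exact (L.prime_p.coprime_iff_not_dvd).mpr (LH.not_dvd_m L)
  rw [he]
  exact h2.dvd_of_dvd_mul_right h1

/-- (D2) `h` centralises `Y / P`. -/
theorem h_cent_quot [Finite G] (L : LocHyp t p n m X H Z w) (D : PData t p X P)
    (hlt : ¬ p ^ (3 * n) ∣ Nat.card P)
    (hSH : S ≤ H) (hS : IsPGroup 2 S) (htS : t ∈ S)
    (hu : ∀ s ∈ S, s * s = 1 → s ≠ 1 → s = t) (hSi : ¬ 2 ∣ S.relIndex H)
    (hSP : ∀ s ∈ S, ∀ x ∈ P, s * x * s⁻¹ ∈ P) {r : ℕ} (hr : r.Prime) (hrp : r ≠ p)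
    (hprim : ∀ k, r ∣ p ^ k - 1 → n ∣ k) {h : G} (hh : h ∈ H) (hhr : h ^ r = 1)
    (hhP : ∀ x ∈ P, h * x * h⁻¹ ∈ P) {Y : Subgroup G} (hY : IsPGroup p Y) (hPY : P ≤ Y)
    (hYP : ∀ y ∈ Y, ∀ x ∈ P, y * x * y⁻¹ ∈ P) (hSY : ∀ s ∈ S, ∀ x ∈ Y, s * x * s⁻¹ ∈ Y)
    (hhY : ∀ x ∈ Y, h * x * h⁻¹ ∈ Y) : ∀ y ∈ Y, y⁻¹ * (h * y * h⁻¹) ∈ P := by
  have := LH.fact L
  have hti : t⁻¹ = t := inv_eq_of_mul_eq_one_right L.t_sq
  by_contra hne
  push Not at hne
  obtain ⟨y₀, hy₀, hne⟩ := hne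
  -- the normalizer of `P`
  have hR : ∀ g : G, (∀ x ∈ P, g * x * g⁻¹ ∈ P) → g ∈ Subgroup.normalizer (P : Set G) :=
    fun g hg => LH.mem_NX.mpr hg
  set R : Subgroup G := Subgroup.normalizer (P : Set G) with hRdef
  have hYR : Y ≤ R := fun y hy => hR y (hYP y hy)
  have hSR : S ≤ R := fun s hs => hR s (hSP s hs)
  have hPR : P ≤ R := Subgroup.le_normalizer
  have hn : (P.subgroupOf R).Normal := Subgroup.normal_in_normalizer
  let π : R →* R ⧸ P.subgroupOf R := QuotientGroup.mk' (P.subgroupOf R)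
  have hπ : ∀ x : R, π x = 1 ↔ (x : G) ∈ P := by
    intro x
    rw [QuotientGroup.mk'_apply, QuotientGroup.eq_one_iff, Subgroup.mem_subgroupOf]
  let V : Subgroup (R ⧸ P.subgroupOf R) := (Y.subgroupOf R).map π
  have hVp : IsPGroup p V := (hY.of_equiv (Subgroup.subgroupOfEquivOfLe hYR).symm).map π
  have htY : ∀ x ∈ Y, t * x * t ∈ Y := by
    intro x hx
    have := hSY t htS x hx
    rwa [hti] at this
  let t' : R := ⟨t, hSR htS⟩
  let h' : R := ⟨h, hR h hhP⟩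
  have hVt : ∀ v ∈ V, π t' * v * (π t')⁻¹ = v⁻¹ := by
    rintro _ ⟨y, hy, rfl⟩
    rw [eq_inv_iff_mul_eq_one, ← map_inv, ← map_mul, ← map_mul, ← map_mul, hπ]
    have h1 := mul_conj_mem' L D hY htY hYP (Y.inv_mem (show (y : G) ∈ Y from hy))
    have h2 : ((t' * y * t'⁻¹ * y : R) : G) = ((y : G)⁻¹ * (t * (y : G)⁻¹ * t))⁻¹ := by
      change t * (y : G) * t⁻¹ * y = _
      rw [_root_.mul_inv_rev, inv_inv, _root_.mul_inv_rev, _root_.mul_inv_rev, inv_inv, hti]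
      group
    rw [h2]
    exact P.inv_mem h1
  have hVc : ∀ x ∈ V, ∀ y ∈ V, x * y = y * x := by
    intro x hx y hy
    have h1 := hVt (x * y) (V.mul_mem hx hy)
    have h2 : π t' * (x * y) * (π t')⁻¹ = (π t' * x * (π t')⁻¹) * (π t' * y * (π t')⁻¹) := by group
    rw [h2, hVt x hx, hVt y hy] at h1
    have h3 : (y * x)⁻¹ = (x * y)⁻¹ := by rw [← h1, _root_.mul_inv_rev]
    exact (inv_injective h3).symm
  have h1 : π h' ^ r = 1 := by
    rw [← map_pow]
    have : h' ^ r = 1 := Subtype.ext hhr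
    rw [this, map_one]
  have h2 : ∀ v ∈ V, π h' * v * (π h')⁻¹ ∈ V := by
    rintro _ ⟨y, hy, rfl⟩
    rw [← map_inv, ← map_mul, ← map_mul]
    exact ⟨h' * y * h'⁻¹, hhY y hy, rfl⟩
  have h3 : ∃ v ∈ V, π h' * v * (π h')⁻¹ ≠ v := by
    refine ⟨π ⟨y₀, hYR hy₀⟩, ⟨_, hy₀, rfl⟩, ?_⟩
    intro h4
    apply hne
    have h5 : π (⟨y₀, hYR hy₀⟩⁻¹ * (h' * ⟨y₀, hYR hy₀⟩ * h'⁻¹)) = 1 := by
      rw [map_mul, map_mul, map_mul, map_inv, map_inv, h4, inv_mul_cancel]
    exact (hπ _).mp h5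
  obtain ⟨c, hc0, hc1, hc2⟩ := card_S_spec L hSH hS hSi
  obtain ⟨k, hk1, hk2, hk3, hk4⟩ := exists_dvd L.prime_p hr hrp V hVp hVc h1 h2 h3
    (π.comp (Subgroup.inclusion hSR))
    (by
      rintro a _ ⟨y, hy, rfl⟩
      change π (Subgroup.inclusion hSR a) * π y * (π (Subgroup.inclusion hSR a))⁻¹ ∈ V
      rw [← map_inv, ← map_mul, ← map_mul]
      exact ⟨_, hSY a a.2 y hy, rfl⟩)
    (by
      intro a
      change π (Subgroup.inclusion hSR a) * π h' = π h' * π (Subgroup.inclusion hSR a)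
      rw [← map_mul, ← map_mul]
      congr 1
      exact Subtype.ext (H_comm L (hSH a.2) hh))
    (by
      intro a ha v hv hav
      obtain ⟨j, hj⟩ := exists_pow_eq hS hu a.2 (fun h => ha (Subtype.ext h))
      have h4 : Commute (π (Subgroup.inclusion hSR a)) v := mul_inv_eq_iff_eq_mul.mp hav
      have h5 : Commute (π t') v := by
        have h6 : π t' = π (Subgroup.inclusion hSR a) ^ j := by
          rw [← map_pow]
          congr 1
          exact Subtype.ext hj.symm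
        rw [h6]
        exact h4.pow_left j
      have h6 := hVt v hv
      rw [h5.eq, mul_inv_cancel_right] at h6
      have h7 : v * v = 1 := by nth_rewrite 2 [h6]; rw [mul_inv_cancel]
      by_contra h8
      have h9 : orderOf v = 2 := orderOf_eq_prime (by rw [pow_two]; exact h7) h8
      obtain ⟨j, hj⟩ := hVp ⟨v, hv⟩
      have hj' : v ^ p ^ j = 1 := congrArg Subtype.val hj
      have h10 : 2 ∣ p ^ j := by rw [← h9]; exact orderOf_dvd_of_pow_eq_one hj'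
      exact (Nat.not_even_iff_odd.mpr L.odd_p.pow) (even_iff_two_dvd.mpr h10))
  rw [hc0] at hk4
  have h4 := two_mul_dvd_of_dvd L.odd_p L.n_pos hc2 hc1 hk4 (hprim k hk3)
  have h5 : 2 * n ≤ k := Nat.le_of_dvd hk1 h4
  -- orders
  have h6 : Nat.card V = P.relIndex Y := by
    have h7 : π.ker = P.subgroupOf R := QuotientGroup.ker_mk' _
    have h8 := Subgroup.relIndex_ker (K := Y.subgroupOf R) π
    rw [h7, Subgroup.relIndex_subgroupOf hYR] at h8
    exact h8.symm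
  have h7 := LH.relIndex_mul_card P Y hPY
  have h8 : Nat.card Y ≤ p ^ (3 * n) :=
    Nat.le_of_dvd (pow_pos L.prime_p.pos _) (card_le_of_pgroup L hY)
  have h9 : Nat.card P ≤ p ^ n := by
    have h10 : p ^ (2 * n) * Nat.card P ≤ p ^ (2 * n) * p ^ n := by
      calc p ^ (2 * n) * Nat.card P ≤ Nat.card V * Nat.card P :=
            Nat.mul_le_mul_right _ ((Nat.pow_le_pow_right L.prime_p.pos h5).trans hk2)
        _ = Nat.card Y := by rw [h6, h7]
        _ ≤ p ^ (3 * n) := h8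
        _ = p ^ (2 * n) * p ^ n := by rw [← pow_add]; congr 1; ring
    exact Nat.le_of_mul_le_mul_left h10 (pow_pos L.prime_p.pos _)
  apply hlt
  apply pow_dvd_of_normalizer L D
  have h10 : X = P := by
    apply Subgroup.eq_of_le_of_card_ge (PData.X_le L D)
    rw [L.card_X]; exact h9
  rw [h10]

/-- an element `h` of `H \ Z` of prime order: `x ↦ x⁻¹ (h x h⁻¹)` is onto on `X` -/
theorem exists_comm_eq [Finite G] (L : LocHyp t p n m X H Z w) {h : G} (hh : h ∈ H) (hZ : h ∉ Z)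
    {x : G} (hx : x ∈ X) : ∃ a ∈ X, a⁻¹ * (h * a * h⁻¹) = x := by
  let f : X → X := fun a => ⟨(a : G)⁻¹ * (h * a * h⁻¹),
    X.mul_mem (X.inv_mem a.2) (L.H_norm h hh a a.2)⟩
  have hf : Function.Injective f := by
    intro a b hab
    have h1 : (a : G)⁻¹ * (h * a * h⁻¹) = (b : G)⁻¹ * (h * b * h⁻¹) := congrArg Subtype.val hab
    have h2 : h * ((b : G) * (a : G)⁻¹) * h⁻¹ = (b : G) * (a : G)⁻¹ := by
      have h3 : h * (a : G) * h⁻¹ = a * ((b : G)⁻¹ * (h * b * h⁻¹)) := by rw [← h1]; group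
      have h4 : h * ((b : G) * (a : G)⁻¹) * h⁻¹ = (h * b * h⁻¹) * (h * (a : G) * h⁻¹)⁻¹ := by group
      rw [h4, h3]
      group
    by_contra hne
    have h3 : (b : G) * (a : G)⁻¹ ≠ 1 := by
      intro h4
      exact hne (Subtype.ext (mul_inv_eq_one.mp h4).symm)
    obtain ⟨v, hv, z, hz, e⟩ := L.cent_X _ (X.mul_mem b.2 (X.inv_mem a.2)) h3 h (L.H_t h hh)
      (mul_inv_eq_iff_eq_mul.mp h2)
    have h5 : v = 1 := by
      apply LH.disj L hv
      have : v = h * z⁻¹ := by rw [e]; group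
      rw [this]
      exact H.mul_mem hh (H.inv_mem (L.Z_H hz))
    rw [h5, one_mul] at e
    exact hZ (e ▸ hz)
  obtain ⟨a, ha⟩ := Finite.surjective_of_injective hf ⟨x, hx⟩
  exact ⟨a, a.2, congrArg Subtype.val ha⟩

/-- (D3) if `h` centralises `Q` and `Y / P` then `Y` normalises `X`. -/
theorem Y_le [Finite G] (L : LocHyp t p n m X H Z w) (D : PData t p X P)
    (hab : ∀ u ∈ P, ∀ v ∈ P, u * v = v * u) (hQ : ∀ u, u ∈ Q ↔ u ∈ P ∧ t * u * t = u⁻¹)
    {r : ℕ} (hr : r.Prime) (hrp : r ≠ p) {h : G} (hh : h ∈ H) (hZ : h ∉ Z) (hhr : h ^ r = 1)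
    {Y : Subgroup G} (hY : IsPGroup p Y) (hPY : P ≤ Y)
    (hYP : ∀ y ∈ Y, ∀ x ∈ P, y * x * y⁻¹ ∈ P)
    (h1 : ∀ v ∈ Q, h * v * h⁻¹ = v) (h2 : ∀ y ∈ Y, y⁻¹ * (h * y * h⁻¹) ∈ P) :
    Y ≤ Subgroup.normalizer (X : Set G) := by
  have := LH.fact L
  have hX := PData.X_le L D
  intro y hy
  obtain ⟨x, hx, v, hv, htv, e⟩ := PData.decomp L D (h2 y hy)
  have hvQ : v ∈ Q := (hQ v).mpr ⟨hv, htv⟩
  obtain ⟨a, ha, hax⟩ := exists_comm_eq L hh hZ (X.inv_mem hx)
  -- `y' = y a` commutes with `h`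
  have e1 : h * (y * a) * h⁻¹ = (y * a) * v := by
    have e2 : h * y * h⁻¹ = y * (x * v) := by rw [← e]; group
    have e3 : h * a * h⁻¹ = a * x⁻¹ := by rw [← hax]; group
    have e4 : h * (y * a) * h⁻¹ = (h * y * h⁻¹) * (h * a * h⁻¹) := by group
    rw [e4, e2, e3]
    have e5 : x * v * (a * x⁻¹) = a * v := by
      rw [hab _ (P.mul_mem (hX hx) hv) _ (P.mul_mem (hX ha) (P.inv_mem (hX hx)))]; group
    rw [mul_assoc, e5, mul_assoc]
  have hhv : h * v * h⁻¹ = v := h1 v hvQ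
  have e2 : ∀ j : ℕ, h ^ j * (y * a) * (h ^ j)⁻¹ = (y * a) * v ^ j := by
    intro j
    induction j with
    | zero => simp
    | succ j ih =>
      have h3 : h ^ (j + 1) * (y * a) * (h ^ (j + 1))⁻¹ = h * (h ^ j * (y * a) * (h ^ j)⁻¹) * h⁻¹ := by
        rw [pow_succ']; group
      rw [h3, ih]
      have h4 : h * (y * a * v ^ j) * h⁻¹ = (h * (y * a) * h⁻¹) * (h * v * h⁻¹) ^ j := by
        rw [conj_pow]; group
      rw [h4, hhv, e1, pow_succ', mul_assoc, mul_assoc]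
  have hv1 : v = 1 := by
    have h3 := e2 r
    rw [hhr] at h3
    have h4 : v ^ r = 1 := by
      have h5 : y * a = (y * a) * v ^ r := by simpa using h3
      exact left_eq_mul.mp h5
    obtain ⟨j, hj⟩ := D.pg ⟨v, hv⟩
    have hj' : v ^ p ^ j = 1 := congrArg Subtype.val hj
    have h5 : orderOf v ∣ r := orderOf_dvd_of_pow_eq_one h4
    have h6 : orderOf v ∣ p ^ j := orderOf_dvd_of_pow_eq_one hj'
    have h7 : (r).Coprime (p ^ j) := ((Nat.coprime_primes hr L.prime_p).mpr hrp).pow_right j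
    have h8 : orderOf v = 1 := Nat.dvd_one.mp (h7 ▸ Nat.dvd_gcd h5 h6)
    exact orderOf_eq_one_iff.mp h8
  rw [hv1, mul_one] at e1
  -- `y a` normalises `X`
  have h3 : y * a ∈ Subgroup.normalizer (X : Set G) := by
    rw [LH.mem_NX]
    intro b hb
    obtain ⟨c, hc, hcb⟩ := exists_comm_eq L hh hZ hb
    have hd : (y * a) * c * (y * a)⁻¹ ∈ P := hYP _ (Y.mul_mem hy (hPY (hX ha))) _ (hX hc)
    obtain ⟨x', hx', v', hv', htv', e'⟩ := PData.decomp L D hd
    have hv'Q : v' ∈ Q := (hQ v').mpr ⟨hv', htv'⟩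
    have e3 : (y * a) * b * (y * a)⁻¹ = (x' * v')⁻¹ * (h * (x' * v') * h⁻¹) := by
      rw [← e', ← hcb]
      have e4 : h * (y * a * c * (y * a)⁻¹) * h⁻¹ =
        (h * (y * a) * h⁻¹) * (h * c * h⁻¹) * (h * (y * a) * h⁻¹)⁻¹ := by group
      rw [e4, e1]; group
    rw [e3]
    have e5 : (x' * v')⁻¹ * (h * (x' * v') * h⁻¹) = x'⁻¹ * (h * x' * h⁻¹) := by
      have e6 : h * (x' * v') * h⁻¹ = (h * x' * h⁻¹) * (h * v' * h⁻¹) := by group
      have e7 : h * x' * h⁻¹ ∈ P := hX (L.H_norm h hh x' hx')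
      rw [e6, h1 v' hv'Q, _root_.mul_inv_rev, hab _ e7 _ hv']
      have e8 : v'⁻¹ * x'⁻¹ = x'⁻¹ * v'⁻¹ := hab _ (P.inv_mem hv') _ (P.inv_mem (hX hx'))
      rw [e8]; group
    rw [e5]
    exact X.mul_mem (X.inv_mem hx') (L.H_norm h hh x' hx')
  have h4 : y = (y * a) * a⁻¹ := by group
  rw [h4]
  exact (Subgroup.normalizer (X : Set G)).mul_mem h3
    ((Subgroup.normalizer (X : Set G)).inv_mem (Subgroup.le_normalizer ha))

/-- The case with a primitive prime divisor `r` of `p ^ n - 1`. -/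
theorem pow_dvd_of_prim [Finite G] (L : LocHyp t p n m X H Z w) {r : ℕ} (hr : r.Prime)
    (hr2 : r ≠ 2) (hr1 : r ∣ p ^ n - 1) (hprim : ∀ k, r ∣ p ^ k - 1 → n ∣ k) :
    ∃ P, PData t p X P ∧ p ^ (3 * n) ∣ Nat.card P := by
  have := LH.fact L
  have : Fact r.Prime := ⟨hr⟩
  have hti : t⁻¹ = t := inv_eq_of_mul_eq_one_right L.t_sq
  have hrp : r ≠ p := by
    rintro rfl
    exact LH.not_dvd_pred L hr1
  obtain ⟨S, hS1, hS2, hS3, hS4, hS5, hS6, hS7⟩ := LH.exists_SH L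
  obtain ⟨A, T, hA, hSA, hTA, hT, hTi, hT5, hAp⟩ := exists_A L (r := r) hS1 hS2
  -- the element `h` of order `r`
  obtain ⟨h, hhT, hh1, hhr⟩ : ∃ h ∈ T, h ≠ 1 ∧ h ^ r = 1 := by
    have h1 : r ∣ Nat.card H := by rw [L.card_H]; exact hr1.mul_right _
    obtain ⟨a, ha⟩ := exists_prime_orderOf_dvd_card' r h1
    have h2 : (a : G) ^ r = 1 := by
      have := pow_orderOf_eq_one a
      rw [ha] at this
      exact congrArg Subtype.val this
    refine ⟨a, hT5 a a.2 ⟨1, by rw [pow_one, h2]⟩, ?_, h2⟩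
    intro h3
    have h4 : a = 1 := Subtype.ext h3
    rw [h4, orderOf_one] at ha
    exact hr.one_lt.ne ha
  have hhH : h ∈ H := hA (hTA hhT)
  have hhZ : h ∉ Z := by
    intro hz
    have h2 : orderOf h = r := orderOf_eq_prime hhr hh1
    have h3 : orderOf h ∣ Nat.card Z := Subgroup.orderOf_dvd_natCard Z hz
    rw [h2, L.card_Z] at h3
    exact r_not_dvd_m L hr hr2 hr1 h3
  obtain ⟨P, D, hAP⟩ := exists_PData L A hA (hSA hS4) (by
    intro s hs hsA
    rcases hAp s hs hsA with h | h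
    · left; exact h
    · right; rw [h]; exact r_not_dvd_CX L hr hr2 hr1)
  refine ⟨P, D, ?_⟩
  by_cases hab : ∀ u ∈ P, ∀ v ∈ P, u * v = v * u
  swap
  · push Not at hab
    exact pow_dvd_of_normalizer L D (normalizer_le_of_nonabelian L D hab)
  obtain ⟨Q, hQ, hcard⟩ := exists_minus L D hab
  by_contra hlt
  have hSP : ∀ s ∈ S, ∀ x ∈ P, s * x * s⁻¹ ∈ P := fun s hs => hAP s (hSA hs)
  have hhP : ∀ x ∈ P, h * x * h⁻¹ ∈ P := hAP h (hTA hhT)
  have D1 := h_cent_Q L D hab hQ hcard hlt hS1 hS2 hS5 hS6 hSP hr hrp hprim hhH hhr hhP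
  -- the normalizer `R` of `P`
  obtain ⟨e, he⟩ := IsPGroup.iff_card.mp D.pg
  have he3 : e + 1 ≤ 3 * n := by
    by_contra h
    exact hlt (he ▸ pow_dvd_pow p (by omega))
  have hG1 : p ^ (e + 1) ∣ Nat.card G := by
    rw [card_G_eq L, mul_assoc]
    exact (pow_dvd_pow p he3).mul_right _
  have hRcard := Sylow.prime_pow_dvd_card_normalizer hG1 he
  set R : Subgroup G := Subgroup.normalizer (P : Set G) with hRdef
  have hRP : ∀ g ∈ R, ∀ x ∈ P, g * x * g⁻¹ ∈ P := fun g hg x hx =>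
    (Subgroup.mem_normalizer_iff.mp hg x).mp hx
  have hAR : A ≤ R := fun a ha => LH.mem_NX.mpr (hAP a ha)
  have hRt : ∀ g ∈ R, g * t = t * g → g ∈ Subgroup.normalizer (X : Set G) :=
    fun g hg => mem_NX_of L D (hRP g hg)
  have hSRi : ¬ 2 ∣ S.relIndex R := not_dvd_of_fixed L hS1 hS2 hS4 hS5 hS7 (hSA.trans hAR) hRt
  obtain ⟨O, hO1, hO2, hO3, hO4, hO5⟩ := exists_odd_core R S hS2 (hSA.trans hAR) hS3 hSRi
  have hOn : ∀ g ∈ R, ∀ x ∈ O, g * x * g⁻¹ ∈ O := by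
    intro g hg x hx
    have h2 : g * x * g⁻¹ ∈ R := R.mul_mem (R.mul_mem hg (hO1 hx)) (R.inv_mem hg)
    rw [hO3 _ h2, orderOf_conj_eq]
    exact (hO3 x (hO1 hx)).mp hx
  have hOodd : ∀ x ∈ O, Odd (orderOf x) := fun x hx => (hO3 x (hO1 hx)).mp hx
  have hTO : T ≤ O := by
    intro x hx
    rw [hO3 x (hAR (hTA hx))]
    obtain ⟨k, hk⟩ := hT ⟨x, hx⟩
    have hk' : x ^ r ^ k = 1 := congrArg Subtype.val hk
    obtain ⟨j, -, hj⟩ := (Nat.dvd_prime_pow hr).mp (orderOf_dvd_of_pow_eq_one hk')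
    rw [hj]
    exact (hr.odd_of_ne_two hr2).pow
  have hTOi : ¬ r ∣ T.relIndex O := by
    intro h1
    have h2 : T.relIndex O * O.index = T.index := Subgroup.relIndex_mul_index hTO
    have h3 : T.relIndex H * H.index = T.index := Subgroup.relIndex_mul_index (hTA.trans hA)
    have h4 : r ∣ T.relIndex H * H.index := by rw [h3, ← h2]; exact h1.mul_right _
    rcases (hr.dvd_mul).mp h4 with h5 | h5
    · exact hTi h5
    · exact r_not_dvd_index L hr hr2 hr1 h5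
  have htR : t ∈ R := hAR (hSA hS4)
  have hcent := centralizes_of_fixed (O := O) (S := T) L.t_sq hOodd
    (by
      intro x hx
      have := hOn t htR x hx
      rwa [hti] at this)
    (fun s hs => L.H_t s (hA (hTA hs)))
    (by
      intro y hy hyt hyT s hs
      obtain ⟨v, hv, k, hk, e1⟩ := L.norm_X y hyt (LH.mem_NX.mp (hRt y (hO1 hy) hyt))
      have hsH := hA (hTA hs)
      have h2 : v * s * v⁻¹ ∈ T := by
        have h3 := hyT s hs
        have h4 : y * s * y⁻¹ = v * (k * s * k⁻¹) * v⁻¹ := by rw [e1]; group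
        have h5 : k * s * k⁻¹ = s := by rw [H_comm L hk hsH, mul_inv_cancel_right]
        rwa [h4, h5] at h3
      have h3 : v * (s * v⁻¹ * s⁻¹) = 1 := by
        apply LH.disj L
        · exact X.mul_mem hv (L.H_norm s hsH _ (X.inv_mem hv))
        · have : v * (s * v⁻¹ * s⁻¹) = (v * s * v⁻¹) * s⁻¹ := by group
          rw [this]
          exact H.mul_mem (hA (hTA h2)) (H.inv_mem hsH)
      have h4 : v * s = s * v := by
        have h5 : v * s = (v * (s * v⁻¹ * s⁻¹)) * (s * v) := by group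
        rw [h5, h3, one_mul]
      rw [e1, mul_assoc, H_comm L hk hsH, ← mul_assoc, h4, mul_assoc])
  obtain ⟨M, hM1, hM2, hM3, b, hM4⟩ := exists_r_core hT hTO hTOi hcent
  have hMn : ∀ g ∈ R, ∀ x ∈ M, g * x * g⁻¹ ∈ M := by
    intro g hg x hx
    rw [hM2 _ (hOn g hg x (hM1 hx)), orderOf_conj_eq]
    exact (hM2 x (hM1 hx)).mp hx
  have hPM : P ≤ M := by
    intro x hx
    have hxO : x ∈ O := by
      rw [hO3 x (Subgroup.le_normalizer hx)]
      exact odd_of_mem L D.pg hx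
    rw [hM2 x hxO]
    obtain ⟨k, hk⟩ := D.pg ⟨x, hx⟩
    have hk' : x ^ p ^ k = 1 := congrArg Subtype.val hk
    exact Nat.Coprime.coprime_dvd_left (orderOf_dvd_of_pow_eq_one hk')
      (((Nat.coprime_primes L.prime_p hr).mpr hrp.symm).pow_left k)
  -- an `A`-invariant Sylow `p`-subgroup of `M`
  have hcop : (Nat.card A).Coprime (Nat.card M) := by
    apply Nat.coprime_of_dvd
    intro s hs h1 h2
    rcases hAp s hs h1 with h3 | h3
    · rw [h3] at h2
      have h4 := h2.trans (Subgroup.card_dvd_of_le hM1)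
      exact (Nat.not_even_iff_odd.mpr hO2) (even_iff_two_dvd.mpr h4)
    · rw [h3] at h2
      exact (hr.coprime_iff_not_dvd.mp hM3.symm) h2
  have hAM : A ≤ Subgroup.normalizer (M : Set G) := fun a ha =>
    LH.mem_NX.mpr (hMn a (hAR ha))
  have hsolv : Group.IsSolvable A := by
    have hc : IsCyclic A := by
      have := L.H_cyc
      exact (Subgroup.subgroupOfEquivOfLe hA).isCyclic.mp inferInstance
    exact Group.isSolvable_of_comm (fun a b => by
      let _ := hc.commGroup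
      exact mul_comm a b)
  obtain ⟨T₁, hT₁⟩ := Cfsg.Agent.S0025.exists_invariant_sylow A M hAM hcop (Or.inl hsolv) p
  obtain ⟨h1, h2, h3⟩ := sylow_map T₁
  set Y : Subgroup G := (T₁ : Subgroup M).map M.subtype with hYdef
  have hAY : ∀ a ∈ A, ∀ x ∈ Y, a * x * a⁻¹ ∈ Y := fun a ha x hx =>
    (Subgroup.mem_normalizer_iff.mp (hT₁ ha) x).mp hx
  have hMR : M ≤ R := hM1.trans hO1
  have hPY : P ≤ Y := le_sylow_of_normal h1 h2 h3 D.pg hPM (fun k hk => hRP k (hMR hk))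
  have hYP : ∀ y ∈ Y, ∀ x ∈ P, y * x * y⁻¹ ∈ P := fun y hy => hRP y (hMR (h2 hy))
  have D2 := h_cent_quot L D hlt hS1 hS2 hS4 hS5 hS6 hSP hr hrp hprim hhH hhr hhP h1 hPY hYP
    (fun s hs => hAY s (hSA hs)) (hAY h (hTA hhT))
  have D3 := Y_le L D hab hQ hr hrp hhH hhZ hhr h1 hPY hYP D1 D2
  -- orders
  apply not_dvd_NX L D he
  have h4 : p ^ (e + 1) ∣ Nat.card M := by
    rw [hO5, hM4] at hRcard
    obtain ⟨c, hc⟩ := (IsPGroup.iff_card (p := 2)).mp hS2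
    rw [hc, mul_assoc] at hRcard
    apply Nat.Coprime.dvd_of_dvd_mul_right _ hRcard
    apply Nat.Coprime.pow_left
    apply Nat.Coprime.mul_right
    · exact ((Nat.coprime_primes L.prime_p hr).mpr hrp.symm).pow_right _
    · apply Nat.Coprime.pow_right
      exact Nat.coprime_two_right.mpr L.odd_p
  rw [← LH.relIndex_mul_card Y M h2] at h4
  have h5 : p ^ (e + 1) ∣ Nat.card Y := by
    apply Nat.Coprime.dvd_of_dvd_mul_left _ h4
    apply Nat.Coprime.pow_left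
    exact (L.prime_p.coprime_iff_not_dvd).mpr h3
  exact h5.trans (Subgroup.card_dvd_of_le D3)

/-- **`|C_G(X)|` is divisible by `q³`.** -/
theorem exists_PData_full [Finite G] (L : LocHyp t p n m X H Z w) :
    ∃ P, PData t p X P ∧ p ^ (3 * n) ∣ Nat.card P := by
  by_cases hpow : ∃ a, n = 2 ^ a
  · obtain ⟨a, ha⟩ := hpow
    exact pow_dvd_of_pow L ha
  · have hn1 : n ≠ 1 := fun h => hpow ⟨0, by rw [h, pow_zero]⟩
    have hn2 : n ≠ 2 := fun h => hpow ⟨1, by rw [h, pow_one]⟩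
    have hn := L.n_pos
    obtain ⟨r, hr, hr1, hr2, hr3⟩ := Cfsg.Agent.Lib.Zsigmondy.exists_primitive (a := p) (n := n)
      L.prime_p.two_le (by omega) (fun h => absurd h hn2)
      (fun h => by
        have := LH.three_le_p L
        omega)
    refine pow_dvd_of_prim L hr ?_ ((hr1 n).mpr dvd_rfl) (fun k hk => (hr1 k).mp hk)
    rintro rfl
    have h1 : 2 ∣ p ^ 1 - 1 := by
      rw [pow_one]
      exact (Nat.Odd.sub_odd L.odd_p odd_one).two_dvd
    have h2 := (hr1 1).mp h1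
    exact hn1 (Nat.dvd_one.mp h2)

end Cfsg.Agent.Classification.IdU.Prim
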