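import Mathlib
import Cfsg.Agent.Classification.IdU.Prim

/-!
# The global structure: `G` is 2-transitive on `q³ + 1` points, `N(X) = P H`
-/

set_option autoImplicit false

namespace Cfsg.Agent.Classification.IdU.Global

open scoped Pointwise
open Cfsg.Agent.Classification.IdU.Defs Cfsg.Agent.Classification.IdU.Gen
  Cfsg.Agent.Classification.IdU.GenSylow Cfsg.Agent.Classification.IdU.Basic
  Cfsg.Agent.Classification.IdU.BigP Cfsg.Agent.Classification.IdU.Abel
  Cfsg.Agent.Classification.IdU.Prim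

variable {G : Type*} [Group G] {t w : G} {p n m : ℕ} {X H Z : Subgroup G} {P : Subgroup G}

theorem card_CX [Finite G] (L : LocHyp t p n m X H Z w) :
    Nat.card (Subgroup.centralizer (X : Set G)) = (p ^ n) ^ 2 * (p ^ n * m) := by
  obtain ⟨l, hl⟩ := LH.exists_ell L
  obtain ⟨P, D, hP⟩ := exists_PData_full L
  have h1 : p ^ (3 * n) ∣ Nat.card (Subgroup.centralizer (X : Set G)) :=
    hP.trans (Subgroup.card_dvd_of_le D.le)
  have h2 := LH.ell_le L hl
  have hl0 : 0 < l := by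
    rcases Nat.eq_zero_or_pos l with h | h
    · rw [h, zero_mul] at hl
      exact absurd hl Nat.card_pos.ne'
    · exact h
  rw [hl]
  congr 1
  rw [hl] at h1
  have h3 : p ^ (3 * n) = p ^ n * (p ^ n) ^ 2 := by
    rw [← pow_mul, ← pow_add]; congr 1; ring
  rw [h3, show l * (p ^ n * m) = p ^ n * (l * m) by ring] at h1
  have h4 := Nat.dvd_of_mul_dvd_mul_left (pow_pos L.prime_p.pos n) h1
  have h5 : ((p ^ n) ^ 2).Coprime m := by
    rw [← pow_mul]
    apply Nat.Coprime.pow_left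
    exact (L.prime_p.coprime_iff_not_dvd).mpr (LH.not_dvd_m L)
  have h6 := h5.dvd_of_dvd_mul_right h4
  exact le_antisymm h2 (Nat.le_of_dvd hl0 h6)

theorem index_NX [Finite G] (L : LocHyp t p n m X H Z w) :
    (Subgroup.normalizer (X : Set G)).index = (p ^ n) ^ 3 + 1 := by
  have h1 := LH.index_mul L (card_CX L)
  rw [mul_comm] at h1
  exact Nat.eq_of_mul_eq_mul_left (pow_pos (pow_pos L.prime_p.pos n) 2) h1

/-- `G` is transitive on ordered pairs of distinct points. -/
theorem exists_pair [Finite G] (L : LocHyp t p n m X H Z w)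
    {c d : G ⧸ Subgroup.normalizer (X : Set G)} (hcd : c ≠ d) :
    ∃ g : G, g • (QuotientGroup.mk 1 : G ⧸ Subgroup.normalizer (X : Set G)) = c ∧
      g • (QuotientGroup.mk w : G ⧸ Subgroup.normalizer (X : Set G)) = d := by
  have h1 := LH.card_offdiag (α := G ⧸ Subgroup.normalizer (X : Set G))
  have h2 : Nat.card (G ⧸ Subgroup.normalizer (X : Set G)) = (p ^ n) ^ 3 + 1 := index_NX L
  rw [h2] at h1
  have h3 : Nat.card {x : (G ⧸ Subgroup.normalizer (X : Set G)) ×
      (G ⧸ Subgroup.normalizer (X : Set G)) // x.1 ≠ x.2} = (p ^ n) ^ 3 * ((p ^ n) ^ 3 + 1) := by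
    have : ((p ^ n) ^ 3 + 1) * ((p ^ n) ^ 3 + 1) =
      (p ^ n) ^ 3 * ((p ^ n) ^ 3 + 1) + ((p ^ n) ^ 3 + 1) := by ring
    omega
  have h4 := LH.card_orbit' L
  have h5 : (MulAction.orbit G ((QuotientGroup.mk 1, QuotientGroup.mk w) :
      (G ⧸ Subgroup.normalizer (X : Set G)) × (G ⧸ Subgroup.normalizer (X : Set G)))) =
      {x | x.1 ≠ x.2} := by
    apply Set.eq_of_subset_of_ncard_le (LH.orbit_sub L) _ (Set.toFinite _)
    rw [← Nat.card_coe_set_eq, ← Nat.card_coe_set_eq, h4]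
    exact h3.le
  have h6 : (c, d) ∈ {x : (G ⧸ Subgroup.normalizer (X : Set G)) ×
      (G ⧸ Subgroup.normalizer (X : Set G)) | x.1 ≠ x.2} := hcd
  rw [← h5] at h6
  obtain ⟨g, hg⟩ := h6
  exact ⟨g, congrArg Prod.fst hg, congrArg Prod.snd hg⟩

theorem smul_a_iff {g : G} : g • (QuotientGroup.mk 1 : G ⧸ Subgroup.normalizer (X : Set G)) =
    QuotientGroup.mk 1 ↔ g ∈ Subgroup.normalizer (X : Set G) := by
  change (QuotientGroup.mk (g * 1) : G ⧸ Subgroup.normalizer (X : Set G)) = _ ↔ _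
  rw [QuotientGroup.eq, mul_one, mul_one, inv_mem_iff]

theorem smul_b_iff (L : LocHyp t p n m X H Z w) {g : G} :
    g • (QuotientGroup.mk w : G ⧸ Subgroup.normalizer (X : Set G)) =
    QuotientGroup.mk w ↔ w * g * w ∈ Subgroup.normalizer (X : Set G) := by
  have hwi : w⁻¹ = w := inv_eq_of_mul_eq_one_right L.w_sq
  change (QuotientGroup.mk (g * w) : G ⧸ Subgroup.normalizer (X : Set G)) = _ ↔ _
  rw [QuotientGroup.eq, _root_.mul_inv_rev, hwi]
  have : w * g⁻¹ * w = (w * g * w)⁻¹ := by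
    rw [_root_.mul_inv_rev, _root_.mul_inv_rev, hwi, mul_assoc]
  rw [this, inv_mem_iff]

theorem mem_H_iff [Finite G] (L : LocHyp t p n m X H Z w) {g : G} :
    g ∈ H ↔ g • (QuotientGroup.mk 1 : G ⧸ Subgroup.normalizer (X : Set G)) = QuotientGroup.mk 1 ∧
      g • (QuotientGroup.mk w : G ⧸ Subgroup.normalizer (X : Set G)) = QuotientGroup.mk w := by
  rw [smul_a_iff, smul_b_iff L]
  constructor
  · intro hg
    exact ⟨LH.H_le_NX L hg, LH.H_le_NX L (L.w_H g hg)⟩
  · rintro ⟨h1, h2⟩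
    exact LH.mem_H_of L h1 h2

theorem card_P [Finite G] (L : LocHyp t p n m X H Z w) (D : PData t p X P)
    (hP : p ^ (3 * n) ∣ Nat.card P) : Nat.card P = (p ^ n) ^ 3 := by
  rw [← pow_mul, mul_comm n 3]
  exact Nat.dvd_antisymm (card_le_of_pgroup L D.pg) hP

/-- `P` is normal in `N(X)`. -/
theorem P_normal [Finite G] (L : LocHyp t p n m X H Z w) (D : PData t p X P) :
    ∀ g ∈ Subgroup.normalizer (X : Set G), ∀ x ∈ P, g * x * g⁻¹ ∈ P := by
  have := LH.fact L
  have hti : t⁻¹ = t := inv_eq_of_mul_eq_one_right L.t_sq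
  obtain ⟨S, hS1, hS2, hS3, hS4, hS5, hS6⟩ := LH.exists_SZ L
  obtain ⟨K, hK1, hK2, hK3, hK4, hK5⟩ := exists_odd_core _ S hS2 (hS1.trans (LH.Z_le_CX L)) hS3 hS6
  have hKn : ∀ g ∈ Subgroup.normalizer (X : Set G), ∀ x ∈ K, g * x * g⁻¹ ∈ K := by
    intro g hg x hx
    have h2 : g * x * g⁻¹ ∈ Subgroup.centralizer (X : Set G) := LH.conj_mem_CX hg (hK1 hx)
    rw [hK3 _ h2, orderOf_conj_eq]
    exact (hK3 x (hK1 hx)).mp hx
  -- the subgroup generated by the `p`-elements of `K`
  set Y : Subgroup G := Subgroup.closure {x | x ∈ K ∧ ∃ j, x ^ p ^ j = 1} with hY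
  have hYK : Y ≤ K := by
    rw [hY, Subgroup.closure_le]
    exact fun x hx => hx.1
  have hYn : ∀ g ∈ Subgroup.normalizer (X : Set G), ∀ x ∈ Y, g * x * g⁻¹ ∈ Y := by
    intro g hg x hx
    rw [hY] at hx
    induction hx using Subgroup.closure_induction with
    | mem x hx =>
      obtain ⟨h1, j, hj⟩ := hx
      exact Subgroup.subset_closure ⟨hKn g hg x h1, j, by rw [conj_pow, hj]; group⟩
    | one => simp
    | mul a b _ _ ha hb =>
      have : g * (a * b) * g⁻¹ = (g * a * g⁻¹) * (g * b * g⁻¹) := by group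
      rw [this]; exact Y.mul_mem ha hb
    | inv a _ ha =>
      have : g * a⁻¹ * g⁻¹ = (g * a * g⁻¹)⁻¹ := by group
      rw [this]; exact Y.inv_mem ha
  -- `Y` is a `p`-group
  have hYp : IsPGroup p Y := by
    have h1 : ∀ s, s.Prime → s ∣ Nat.card Y → s = p := by
      intro s hs hsY
      by_contra hsp
      have : Fact s.Prime := ⟨hs⟩
      have hsK : s ∣ Nat.card K := hsY.trans (Subgroup.card_dvd_of_le hYK)
      have hs2 : s ≠ 2 := by
        rintro rfl
        exact (Nat.not_even_iff_odd.mpr hK2) (even_iff_two_dvd.mpr hsK)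
      have hZc : IsCyclic Z := by
        have := L.H_cyc
        exact (Subgroup.subgroupOfEquivOfLe L.Z_H).isCyclic.mp inferInstance
      obtain ⟨T, hT1, hT2, hT3, hT4, hT5⟩ := exists_sylow_of_isCyclic Z hZc s
      have hTK : T ≤ K := by
        intro x hx
        rw [hK3 x (LH.Z_le_CX L (hT1 hx))]
        obtain ⟨k, hk⟩ := hT2 ⟨x, hx⟩
        have hk' : x ^ s ^ k = 1 := congrArg Subtype.val hk
        obtain ⟨j, -, hj⟩ := (Nat.dvd_prime_pow hs).mp (orderOf_dvd_of_pow_eq_one hk')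
        rw [hj]
        exact (hs.odd_of_ne_two hs2).pow
      have hTi : ¬ s ∣ T.relIndex K := by
        have e1 : T.relIndex K * K.relIndex (Subgroup.centralizer (X : Set G)) =
            T.relIndex (Subgroup.centralizer (X : Set G)) := Subgroup.relIndex_mul_relIndex _ _ _ hTK hK1
        have e2 : T.relIndex Z * Z.relIndex (Subgroup.centralizer (X : Set G)) =
            T.relIndex (Subgroup.centralizer (X : Set G)) :=
          Subgroup.relIndex_mul_relIndex _ _ _ hT1 (LH.Z_le_CX L)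
        have e3 : Z.relIndex (Subgroup.centralizer (X : Set G)) = (p ^ n) ^ 2 * p ^ n := by
          have e4 := LH.relIndex_mul_card Z _ (LH.Z_le_CX L)
          rw [L.card_Z, card_CX L, ← mul_assoc] at e4
          exact Nat.eq_of_mul_eq_mul_right (LH.m_pos L) e4
        intro h
        have h2 : s ∣ T.relIndex Z * ((p ^ n) ^ 2 * p ^ n) := by
          rw [← e3, e2, ← e1]; exact h.mul_right _
        rcases (hs.dvd_mul).mp h2 with h3 | h3
        · exact hT3 h3
        · apply hsp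
          rw [← pow_succ, ← pow_mul] at h3
          exact (Nat.prime_dvd_prime_iff_eq hs L.prime_p).mp (hs.dvd_of_dvd_pow h3)
      have hcent := centralizes_of_fixed (O := K) (S := T) L.t_sq
        (fun x hx => (hK3 x (hK1 hx)).mp hx)
        (by
          intro x hx
          have := hKn t (LH.CX_le_NX (LH.t_CX L)) x hx
          rwa [hti] at this)
        (fun s hs => L.H_t s (L.Z_H (hT1 hs)))
        (fun y hy hyt _ s hs => L.Z_central s (hT1 hs) y hyt)
      obtain ⟨M, hM1, hM2, hM3, b, hM4⟩ := exists_r_core hT2 hTK hTi hcent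
      have hYM : Y ≤ M := by
        rw [hY, Subgroup.closure_le]
        rintro x ⟨hx, j, hj⟩
        change x ∈ M
        rw [hM2 x hx]
        exact Nat.Coprime.coprime_dvd_left (orderOf_dvd_of_pow_eq_one hj)
          (((Nat.coprime_primes L.prime_p hs).mpr (fun h => hsp h.symm)).pow_left j)
      exact (hs.coprime_iff_not_dvd.mp hM3.symm) (hsY.trans (Subgroup.card_dvd_of_le hYM))
    have h2 := Nat.eq_prime_pow_of_unique_prime_dvd (n := Nat.card Y) (p := p) Nat.card_pos.ne'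
      (fun {d} hd hdY => h1 d hd hdY)
    exact IsPGroup.of_card h2
  -- `Y = P`
  have hPY : P ≤ Y := by
    intro x hx
    apply Subgroup.subset_closure
    refine ⟨?_, ?_⟩
    · rw [hK3 x (D.le hx)]
      exact odd_of_mem L D.pg hx
    · obtain ⟨j, hj⟩ := D.pg ⟨x, hx⟩
      exact ⟨j, congrArg Subtype.val hj⟩
  have hYP : Y ≤ P := le_sylow_of_normal D.pg D.le D.idx hYp (hYK.trans hK1)
    (fun k hk => hYn k (LH.CX_le_NX hk))
  have : P = Y := le_antisymm hPY hYP
  rw [this]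
  exact hYn

theorem b_ne_a [Finite G] (L : LocHyp t p n m X H Z w) :
    (QuotientGroup.mk w : G ⧸ Subgroup.normalizer (X : Set G)) ≠ QuotientGroup.mk 1 := by
  intro h
  rw [eq_comm, QuotientGroup.eq, inv_one, one_mul] at h
  exact LH.w_ne L h

theorem P_a (D : PData t p X P) {x : G} (hx : x ∈ P) :
    x • (QuotientGroup.mk 1 : G ⧸ Subgroup.normalizer (X : Set G)) = QuotientGroup.mk 1 :=
  smul_a_iff.mpr (LH.CX_le_NX (D.le hx))

theorem P_free [Finite G] (L : LocHyp t p n m X H Z w) (D : PData t p X P) {x : G} (hx : x ∈ P)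
    (h : x • (QuotientGroup.mk w : G ⧸ Subgroup.normalizer (X : Set G)) = QuotientGroup.mk w) :
    x = 1 :=
  eq_one_of_mem_H L D.pg hx ((mem_H_iff L).mpr ⟨P_a D hx, h⟩)

theorem P_inj [Finite G] (L : LocHyp t p n m X H Z w) (D : PData t p X P) {x y : G} (hx : x ∈ P)
    (hy : y ∈ P)
    (h : x • (QuotientGroup.mk w : G ⧸ Subgroup.normalizer (X : Set G)) = y • QuotientGroup.mk w) :
    x = y := by
  have h1 : (y⁻¹ * x) • (QuotientGroup.mk w : G ⧸ Subgroup.normalizer (X : Set G)) =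
      QuotientGroup.mk w := by
    rw [mul_smul, h, inv_smul_smul]
  have h2 := P_free L D (P.mul_mem (P.inv_mem hy) hx) h1
  exact (inv_mul_eq_one.mp h2).symm

theorem smul_b_ne [Finite G] (L : LocHyp t p n m X H Z w) (D : PData t p X P) {x : G} (hx : x ∈ P) :
    x • (QuotientGroup.mk w : G ⧸ Subgroup.normalizer (X : Set G)) ≠ QuotientGroup.mk 1 := by
  intro h
  apply b_ne_a L
  rw [← inv_smul_smul x (QuotientGroup.mk w : G ⧸ Subgroup.normalizer (X : Set G)), h]
  exact P_a D (P.inv_mem hx)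

theorem P_trans [Finite G] (L : LocHyp t p n m X H Z w) (D : PData t p X P)
    (hP : p ^ (3 * n) ∣ Nat.card P) {c : G ⧸ Subgroup.normalizer (X : Set G)}
    (hc : c ≠ QuotientGroup.mk 1) : ∃ x ∈ P, x • QuotientGroup.mk w = c := by
  classical
  have := Fintype.ofFinite (G ⧸ Subgroup.normalizer (X : Set G))
  let f : P → {c : G ⧸ Subgroup.normalizer (X : Set G) // c ≠ QuotientGroup.mk 1} := fun x =>
    ⟨(x : G) • QuotientGroup.mk w, smul_b_ne L D x.2⟩
  have hf : Function.Injective f := fun x y h =>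
    Subtype.ext (P_inj L D x.2 y.2 (congrArg Subtype.val h))
  have hcard : Nat.card P = Nat.card {c : G ⧸ Subgroup.normalizer (X : Set G) //
      c ≠ QuotientGroup.mk 1} := by
    rw [card_P L D hP, Nat.card_eq_fintype_card, Fintype.card_subtype_compl,
      Fintype.card_subtype_eq, ← Nat.card_eq_fintype_card]
    have h2 : Nat.card (G ⧸ Subgroup.normalizer (X : Set G)) = (p ^ n) ^ 3 + 1 := index_NX L
    rw [h2, Nat.add_sub_cancel]
  obtain ⟨x, hx⟩ := ((Nat.bijective_iff_injective_and_card f).mpr ⟨hf, hcard⟩).2 ⟨c, hc⟩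
  exact ⟨x, x.2, congrArg Subtype.val hx⟩

theorem P_ne_X [Finite G] (L : LocHyp t p n m X H Z w) (D : PData t p X P)
    (hP : p ^ (3 * n) ∣ Nat.card P) : ∃ x ∈ P, x ∉ X := by
  by_contra h
  push Not at h
  have h1 : P ≤ X := h
  have h2 := Subgroup.card_le_of_le h1
  rw [card_P L D hP, L.card_X] at h2
  have h3 := LH.three_le_q L
  nlinarith [Nat.pow_le_pow_left h3 2, pow_pos (show 0 < p ^ n by omega) 2]

/-- number theory: `p ^ j + 1 ∣ p ^ (3 n) + 1`, `n ≤ j ≤ 3 n` -/
theorem eq_or_eq {p n j : ℕ} (hp : 2 ≤ p) (hn : 1 ≤ n) (h1 : n ≤ j) (h2 : j ≤ 3 * n)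
    (h : p ^ j + 1 ∣ p ^ (3 * n) + 1) : j = n ∨ j = 3 * n := by
  by_contra hne
  push Not at hne
  have hlt1 : n < j := lt_of_le_of_ne h1 (Ne.symm hne.1)
  have hlt2 : j < 3 * n := lt_of_le_of_ne h2 hne.2
  -- `p ^ j + 1 ∣ p ^ (3 n - j) - 1`
  set a := 3 * n - j with ha
  have e1 : p ^ (3 * n) + 1 + (p ^ a - 1) = p ^ a * (p ^ j + 1) := by
    have h3 : p ^ (3 * n) = p ^ a * p ^ j := by rw [← pow_add]; congr 1; omega
    have h4 : 1 ≤ p ^ a := Nat.one_le_pow _ _ (by omega)
    rw [mul_add, mul_one, ← h3]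
    omega
  have h3 : p ^ j + 1 ∣ p ^ a - 1 := by
    have h4 : p ^ j + 1 ∣ p ^ (3 * n) + 1 + (p ^ a - 1) := by rw [e1]; exact dvd_mul_left _ _
    exact (Nat.dvd_add_right h).mp h4
  have ha0 : 1 ≤ a := by omega
  have h4 : 2 ≤ p ^ a := by
    calc 2 ≤ p := hp
      _ = p ^ 1 := (pow_one p).symm
      _ ≤ p ^ a := Nat.pow_le_pow_right (by omega) ha0
  have h5 : p ^ j + 1 ≤ p ^ a - 1 := Nat.le_of_dvd (by omega) h3
  have h6 : j < a := by
    by_contra h6
    have := Nat.pow_le_pow_right (show 0 < p by omega) (not_lt.mp h6)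
    omega
  -- `p ^ j + 1 ∣ p ^ (a - j) + 1`
  have e2 : p ^ a - 1 + (p ^ (a - j) + 1) = p ^ (a - j) * (p ^ j + 1) := by
    have h7 : p ^ a = p ^ (a - j) * p ^ j := by rw [← pow_add]; congr 1; omega
    rw [mul_add, mul_one, ← h7]
    omega
  have h7 : p ^ j + 1 ∣ p ^ (a - j) + 1 := by
    have h8 : p ^ j + 1 ∣ p ^ a - 1 + (p ^ (a - j) + 1) := by rw [e2]; exact dvd_mul_left _ _
    exact (Nat.dvd_add_right h3).mp h8
  have h8 : p ^ j + 1 ≤ p ^ (a - j) + 1 := Nat.le_of_dvd (by omega) h7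
  have h9 : j ≤ a - j := by
    by_contra h9
    have := Nat.pow_lt_pow_right (show 1 < p by omega) (not_le.mp h9)
    omega
  omega

end Cfsg.Agent.Classification.IdU.Global
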