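import Mathlib
import Cfsg.Agent.Classification.IdU.Global

/-!
# `C_P(k) = X` for `1 ≠ k ∈ Z`
-/

set_option autoImplicit false

namespace Cfsg.Agent.Classification.IdU.FixZ

open scoped Pointwise
open Cfsg.Agent.Classification.IdU.Defs Cfsg.Agent.Classification.IdU.Gen
  Cfsg.Agent.Classification.IdU.GenSylow Cfsg.Agent.Classification.IdU.Basic
  Cfsg.Agent.Classification.IdU.BigP Cfsg.Agent.Classification.IdU.Abel
  Cfsg.Agent.Classification.IdU.Prim Cfsg.Agent.Classification.IdU.Global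

variable {G : Type*} [Group G] {t w : G} {p n m : ℕ} {X H Z : Subgroup G} {P : Subgroup G}

/-- In a finite cyclic group, elements of order dividing that of `x` are powers of `x`. -/
theorem mem_zpowers_of_orderOf [Finite G] (K : Subgroup G) (hc : IsCyclic K) {x y : G} (hx : x ∈ K)
    (hy : y ∈ K) (h : orderOf y ∣ orderOf x) : y ∈ Subgroup.zpowers x := by
  classical
  have := Fintype.ofFinite K
  set d := orderOf x with hd
  have hd0 : 0 < d := orderOf_pos x
  have h1 : (Finset.univ.filter (fun a : K => a ^ d = 1)).card ≤ d :=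
    IsCyclic.card_pow_eq_one_le hd0
  let A : Finset K := Finset.univ.filter (fun a : K => a ∈ Subgroup.zpowers (⟨x, hx⟩ : K))
  have hA : A ⊆ Finset.univ.filter (fun a : K => a ^ d = 1) := by
    intro a ha
    rw [Finset.mem_filter] at ha ⊢
    refine ⟨Finset.mem_univ _, ?_⟩
    have h2 : orderOf a ∣ orderOf (⟨x, hx⟩ : K) := orderOf_dvd_of_mem_zpowers ha.2
    have h3 : orderOf (⟨x, hx⟩ : K) = d := Subgroup.orderOf_mk x hx
    rw [h3] at h2
    exact orderOf_dvd_iff_pow_eq_one.mp h2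
  have hAc : A.card = d := by
    have h2 : Nat.card (Subgroup.zpowers (⟨x, hx⟩ : K)) = d := by
      rw [Nat.card_zpowers, Subgroup.orderOf_mk]
    rw [← h2, Nat.card_eq_fintype_card, Fintype.card_subtype]
  have h2 := Finset.eq_of_subset_of_card_le hA (h1.trans hAc.ge)
  have h3 : (⟨y, hy⟩ : K) ∈ A := by
    rw [h2, Finset.mem_filter]
    refine ⟨Finset.mem_univ _, ?_⟩
    apply Subtype.ext
    exact orderOf_dvd_iff_pow_eq_one.mp h
  have h4 := (Finset.mem_filter.mp h3).2
  obtain ⟨i, hi⟩ := Subgroup.mem_zpowers_iff.mp h4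
  exact Subgroup.mem_zpowers_iff.mpr ⟨i, congrArg Subtype.val hi⟩

/-- `k ∈ H` fixes `x • b`, `x ∈ P`, iff it centralises `x` -/
theorem fix_iff [Finite G] (L : LocHyp t p n m X H Z w) (D : PData t p X P) {k x : G}
    (hk : k ∈ H) (hx : x ∈ P) :
    k • x • (QuotientGroup.mk w : G ⧸ Subgroup.normalizer (X : Set G)) = x • QuotientGroup.mk w ↔
      k * x = x * k := by
  have h1 : k • x • (QuotientGroup.mk w : G ⧸ Subgroup.normalizer (X : Set G)) =
      (k * x * k⁻¹) • QuotientGroup.mk w := by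
    have h2 := ((mem_H_iff L).mp hk).2
    have h3 : k⁻¹ • (QuotientGroup.mk w : G ⧸ Subgroup.normalizer (X : Set G)) =
        QuotientGroup.mk w := by rw [inv_smul_eq_iff, h2]
    rw [mul_smul (k * x) k⁻¹, h3, mul_smul]
  rw [h1]
  constructor
  · intro h
    have h2 := P_inj L D (P_normal L D k (LH.H_le_NX L hk) x hx) hx h
    exact mul_inv_eq_iff_eq_mul.mp h2
  · intro h
    rw [h, mul_inv_cancel_right]

/-- the number of points fixed by `k ∈ H` -/
theorem card_fix [Finite G] (L : LocHyp t p n m X H Z w) (D : PData t p X P)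
    (hP : p ^ (3 * n) ∣ Nat.card P) {k : G} (hk : k ∈ H) :
    Nat.card {c : G ⧸ Subgroup.normalizer (X : Set G) // k • c = c} =
      Nat.card (P ⊓ Subgroup.centralizer {k} : Subgroup G) + 1 := by
  classical
  rw [← Finite.card_option]
  have hka := ((mem_H_iff L).mp hk).1
  symm
  let f : Option (P ⊓ Subgroup.centralizer {k} : Subgroup G) →
      {c : G ⧸ Subgroup.normalizer (X : Set G) // k • c = c} := fun o => match o with
    | none => ⟨QuotientGroup.mk 1, hka⟩
    | some x => ⟨(x : G) • QuotientGroup.mk w, (fix_iff L D hk x.2.1).mpr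
        (Subgroup.mem_centralizer_singleton_iff.mp x.2.2).symm⟩
  apply Nat.card_congr
  apply Equiv.ofBijective f
  constructor
  · intro x y hxy
    match x, y, hxy with
    | none, none, _ => rfl
    | none, some y, h => exact absurd (congrArg Subtype.val h).symm (smul_b_ne L D y.2.1)
    | some x, none, h => exact absurd (congrArg Subtype.val h) (smul_b_ne L D x.2.1)
    | some x, some y, h =>
      congr 1
      exact Subtype.ext (P_inj L D x.2.1 y.2.1 (congrArg Subtype.val h))
  · rintro ⟨c, hc⟩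
    by_cases hca : c = QuotientGroup.mk 1
    · exact ⟨none, Subtype.ext hca.symm⟩
    · obtain ⟨x, hx, rfl⟩ := P_trans L D hP hca
      refine ⟨some ⟨x, hx, ?_⟩, rfl⟩
      exact Subgroup.mem_centralizer_singleton_iff.mpr ((fix_iff L D hk hx).mp hc).symm

/-- `N(⟨k⟩)` is 2-transitive on the fixed points of `k ∈ H`. -/
theorem card_normalizer [Finite G] (L : LocHyp t p n m X H Z w) {k : G} (hk : k ∈ H) :
    Nat.card (Subgroup.normalizer ((Subgroup.zpowers k : Subgroup G) : Set G)) =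
      Nat.card {x : {c : G ⧸ Subgroup.normalizer (X : Set G) // k • c = c} ×
        {c : G ⧸ Subgroup.normalizer (X : Set G) // k • c = c} // x.1 ≠ x.2} * Nat.card H := by
  classical
  set N := Subgroup.normalizer ((Subgroup.zpowers k : Subgroup G) : Set G) with hN
  have hHN : H ≤ N := by
    intro h hh
    rw [hN, Subgroup.mem_normalizer_iff]
    intro x
    have key : ∀ y ∈ Subgroup.zpowers k, h * y * h⁻¹ = y := by
      intro y hy
      have hyH : y ∈ H := (Subgroup.zpowers_le.mpr hk) hy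
      rw [H_comm L hh hyH, mul_inv_cancel_right]
    constructor
    · intro hx
      rw [key x hx]; exact hx
    · intro hx
      have h1 : h * (h * x * h⁻¹) * h⁻¹ = h * x * h⁻¹ := key _ hx
      have h2 : h * x * h⁻¹ = x := by
        have h3 : h * x * h⁻¹ = h⁻¹ * (h * (h * x * h⁻¹) * h⁻¹) * h := by group
        rw [h1] at h3
        rw [h3]; group
      rw [h2] at hx; exact hx
  let pr : (G ⧸ Subgroup.normalizer (X : Set G)) × (G ⧸ Subgroup.normalizer (X : Set G)) :=
    (QuotientGroup.mk 1, QuotientGroup.mk w)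
  have h1 := Nat.card_congr (MulAction.orbitProdStabilizerEquivGroup N pr)
  rw [Nat.card_prod] at h1
  have h2 : MulAction.stabilizer N pr = H.subgroupOf N := by
    ext g
    rw [MulAction.mem_stabilizer_iff, Subgroup.mem_subgroupOf, mem_H_iff L]
    constructor
    · intro h
      exact ⟨congrArg Prod.fst h, congrArg Prod.snd h⟩
    · rintro ⟨h1, h2⟩
      exact Prod.ext h1 h2
  rw [h2, Nat.card_congr (Subgroup.subgroupOfEquivOfLe hHN).toEquiv] at h1
  rw [← h1]
  congr 1
  -- the orbit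
  have hzH : ∀ y ∈ Subgroup.zpowers k, y ∈ H := fun y hy => (Subgroup.zpowers_le.mpr hk) hy
  apply Nat.card_congr
  refine Equiv.ofBijective (fun x => ⟨(⟨x.1.1, ?_⟩, ⟨x.1.2, ?_⟩), ?_⟩) ⟨?_, ?_⟩
  · obtain ⟨_, g, rfl⟩ := x
    change k • (g : G) • (QuotientGroup.mk 1 : G ⧸ Subgroup.normalizer (X : Set G)) = (g : G) • _
    have h3 : (g : G)⁻¹ * k * g ∈ H := by
      have h4 := (Subgroup.mem_normalizer_iff.mp (N.inv_mem g.2) k).mp (Subgroup.mem_zpowers k)
      rw [inv_inv] at h4
      exact hzH _ h4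
    have h4 := ((mem_H_iff L).mp h3).1
    rw [mul_smul, mul_smul, inv_smul_eq_iff] at h4
    exact h4
  · obtain ⟨_, g, rfl⟩ := x
    change k • (g : G) • (QuotientGroup.mk w : G ⧸ Subgroup.normalizer (X : Set G)) = (g : G) • _
    have h3 : (g : G)⁻¹ * k * g ∈ H := by
      have h4 := (Subgroup.mem_normalizer_iff.mp (N.inv_mem g.2) k).mp (Subgroup.mem_zpowers k)
      rw [inv_inv] at h4
      exact hzH _ h4
    have h4 := ((mem_H_iff L).mp h3).2
    rw [mul_smul, mul_smul, inv_smul_eq_iff] at h4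
    exact h4
  · obtain ⟨_, g, rfl⟩ := x
    intro h
    have h3 : (g : G) • (QuotientGroup.mk 1 : G ⧸ Subgroup.normalizer (X : Set G)) =
      (g : G) • QuotientGroup.mk w := congrArg Subtype.val h
    exact b_ne_a L (MulAction.injective _ h3).symm
  · intro x y hxy
    apply Subtype.ext
    apply Prod.ext
    · exact congrArg (fun z => z.1.1.1) hxy
    · exact congrArg (fun z => z.1.2.1) hxy
  · rintro ⟨⟨⟨c, hc⟩, ⟨d, hd⟩⟩, hcd⟩
    have hcd' : c ≠ d := fun h => hcd (Subtype.ext h)
    obtain ⟨g, hg1, hg2⟩ := exists_pair L hcd'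
    have h3 : g⁻¹ * k * g ∈ H := by
      rw [mem_H_iff L]
      constructor
      · rw [mul_smul, mul_smul, hg1, hc, ← hg1, inv_smul_smul]
      · rw [mul_smul, mul_smul, hg2, hd, ← hg2, inv_smul_smul]
    have h4 : g ∈ N := by
      rw [← inv_mem_iff, hN, LH.mem_NX]
      intro x hx
      obtain ⟨i, rfl⟩ := Subgroup.mem_zpowers_iff.mp hx
      have h5 : g⁻¹ * k * g⁻¹⁻¹ ∈ Subgroup.zpowers k := by
        apply mem_zpowers_of_orderOf H L.H_cyc hk (by rw [inv_inv]; exact h3)
        rw [orderOf_conj_eq]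
      have h6 : g⁻¹ * k ^ i * g⁻¹⁻¹ = (g⁻¹ * k * g⁻¹⁻¹) ^ i := by rw [conj_zpow]
      rw [h6]
      exact Subgroup.zpow_mem _ h5 i
    refine ⟨⟨(c, d), ⟨g, h4⟩, ?_⟩, rfl⟩
    exact Prod.ext hg1 hg2

/-- An element fixing all points is trivial. -/
theorem eq_one_of_fix [Finite G] [IsSimpleGroup G] (L : LocHyp t p n m X H Z w) {k : G}
    (hk : ∀ c : G ⧸ Subgroup.normalizer (X : Set G), k • c = c) : k = 1 := by
  have h1 : k ∈ (MulAction.toPermHom G (G ⧸ Subgroup.normalizer (X : Set G))).ker := by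
    rw [MonoidHom.mem_ker]
    ext c
    exact hk c
  have h2 : (MulAction.toPermHom G (G ⧸ Subgroup.normalizer (X : Set G))).ker = ⊥ ∨
      (MulAction.toPermHom G (G ⧸ Subgroup.normalizer (X : Set G))).ker = ⊤ :=
    (MonoidHom.normal_ker _).eq_bot_or_eq_top
  rcases h2 with h2 | h2
  · rw [h2] at h1
    exact Subgroup.mem_bot.mp h1
  · exfalso
    have h3 : w ∈ (MulAction.toPermHom G (G ⧸ Subgroup.normalizer (X : Set G))).ker := by
      rw [h2]; trivial
    rw [MonoidHom.mem_ker] at h3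
    have h4 : w • (QuotientGroup.mk 1 : G ⧸ Subgroup.normalizer (X : Set G)) = QuotientGroup.mk 1 := by
      have := congrArg (fun e : Equiv.Perm _ => e (QuotientGroup.mk 1)) h3
      exact this
    exact LH.w_ne L (smul_a_iff.mp h4)

/-- **`C_P(k) = X` for `1 ≠ k ∈ Z`.** -/
theorem mem_X_of_comm [Finite G] [IsSimpleGroup G] (L : LocHyp t p n m X H Z w)
    (D : PData t p X P) (hP : p ^ (3 * n) ∣ Nat.card P) {k x : G} (hk : k ∈ Z) (hk1 : k ≠ 1)
    (hx : x ∈ P) (hkx : k * x = x * k) : x ∈ X := by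
  have := LH.fact L
  have hkH := L.Z_H hk
  set C : Subgroup G := P ⊓ Subgroup.centralizer {k} with hC
  have hCp : IsPGroup p C := D.pg.to_le inf_le_left
  obtain ⟨j, hj⟩ := IsPGroup.iff_card.mp hCp
  have hXC : X ≤ C := by
    intro y hy
    exact ⟨PData.X_le L D hy, Subgroup.mem_centralizer_singleton_iff.mpr (LH.Z_cent L hk hy)⟩
  have hj1 : n ≤ j := by
    have h1 := Subgroup.card_le_of_le hXC
    rw [L.card_X, hj] at h1
    exact (Nat.pow_le_pow_iff_right L.prime_p.one_lt).mp h1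
  have hj2 : j ≤ 3 * n := by
    have h1 := card_le_of_pgroup L hCp
    rw [hj] at h1
    exact (Nat.pow_dvd_pow_iff_le_right L.prime_p.one_lt).mp h1
  have h1 := card_normalizer L hkH
  have h2 := LH.card_offdiag (α := {c : G ⧸ Subgroup.normalizer (X : Set G) // k • c = c})
  rw [card_fix L D hP hkH, ← hC, hj] at h2
  have h3 : Nat.card {x : {c : G ⧸ Subgroup.normalizer (X : Set G) // k • c = c} ×
      {c : G ⧸ Subgroup.normalizer (X : Set G) // k • c = c} // x.1 ≠ x.2} =
      p ^ j * (p ^ j + 1) := by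
    have : (p ^ j + 1) * (p ^ j + 1) = p ^ j * (p ^ j + 1) + (p ^ j + 1) := by ring
    omega
  rw [h3] at h1
  have h4 : p ^ j * (p ^ j + 1) * Nat.card H ∣ Nat.card G := by
    rw [← h1]; exact Subgroup.card_subgroup_dvd_card _
  rw [card_G_eq L] at h4
  have h5 := Nat.dvd_of_mul_dvd_mul_right Nat.card_pos h4
  have h6 : p ^ j + 1 ∣ p ^ (3 * n) * ((p ^ (2 * n) - p ^ n + 1) * (p ^ n + 1)) :=
    (dvd_mul_left _ _).trans h5
  have h7 : (p ^ (2 * n) - p ^ n + 1) * (p ^ n + 1) = p ^ (3 * n) + 1 := by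
    have h0 := LH.three_le_q L
    have e1 : p ^ (2 * n) = (p ^ n) ^ 2 := by rw [mul_comm, pow_mul]
    have e2 : p ^ (3 * n) = (p ^ n) ^ 3 := by rw [mul_comm, pow_mul]
    rw [e1, e2]
    obtain ⟨r, hr⟩ : ∃ r, p ^ n = r + 1 := ⟨p ^ n - 1, by omega⟩
    rw [hr]
    have e3 : (r + 1) ^ 2 - (r + 1) = (r + 1) * r := by
      have : (r + 1) ^ 2 = (r + 1) * r + (r + 1) := by ring
      omega
    rw [e3]; ring
  rw [h7] at h6
  have h8 : (p ^ j + 1).Coprime (p ^ (3 * n)) := by
    apply Nat.Coprime.pow_right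
    apply Nat.Coprime.symm
    rw [L.prime_p.coprime_iff_not_dvd]
    intro h
    have hj0 : j ≠ 0 := by have := L.n_pos; omega
    have h2 : p ∣ 1 := (Nat.dvd_add_right (dvd_pow_self p hj0)).mp h
    exact L.prime_p.one_lt.ne' (Nat.dvd_one.mp h2)
  have h9 := h8.dvd_of_dvd_mul_left h6
  rcases eq_or_eq L.prime_p.two_le L.n_pos hj1 hj2 h9 with h10 | h10
  · have h11 : X = C := by
      apply Subgroup.eq_of_le_of_card_ge hXC
      rw [hj, h10, L.card_X]
    rw [h11]
    exact ⟨hx, Subgroup.mem_centralizer_singleton_iff.mpr hkx.symm⟩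
  · exfalso
    apply hk1
    apply eq_one_of_fix L
    have h11 : C = P := by
      apply Subgroup.eq_of_le_of_card_ge inf_le_left
      rw [hj, h10, card_P L D hP, ← pow_mul, mul_comm 3 n]
    intro c
    by_cases hca : c = QuotientGroup.mk 1
    · rw [hca]; exact ((mem_H_iff L).mp hkH).1
    · obtain ⟨y, hy, rfl⟩ := P_trans L D hP hca
      rw [fix_iff L D hkH hy]
      rw [← h11] at hy
      exact (Subgroup.mem_centralizer_singleton_iff.mp hy.2).symm

end Cfsg.Agent.Classification.IdU.FixZ
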