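import Mathlib

/-!
# Elements of odd prime order dividing `q + 1` in `SL₂(q)` are inverted in `SL₂(q)`
-/

set_option autoImplicit false

namespace Cfsg.Agent.Classification.IdU.InvSL

open Matrix Polynomial

variable {K : Type*} [Field K]

theorem exists_quad [Finite K] (h2 : (2 : K) ≠ 0) {D e : K} (hD : D ≠ 0) :
    ∃ X Y : K, X ^ 2 - D * Y ^ 2 = e := by
  classical
  have := Fintype.ofFinite K
  have hodd : Fintype.card K % 2 = 1 := by
    apply FiniteField.odd_card_of_char_ne_two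
    intro h
    apply h2
    have : CharP K 2 := ringChar.of_eq h
    exact CharTwo.two_eq_zero
  have hf : (X ^ 2 + C (-e) : K[X]).degree = 2 := by
    have h3 := degree_X_pow_add_C (n := 2) (by norm_num) (-e)
    exact h3
  have hg : (C (-D) * X ^ 2 : K[X]).degree = 2 := by
    rw [degree_C_mul_X_pow 2 (neg_ne_zero.mpr hD)]
    rfl
  obtain ⟨a, b, h⟩ := FiniteField.exists_root_sum_quadratic hf hg hodd
  refine ⟨a, b, ?_⟩
  simp only [eval_add, eval_pow, eval_X, eval_C, eval_mul] at h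
  linear_combination h

theorem exists_conj_inv [Finite K] (h2 : (2 : K) ≠ 0) (A : SpecialLinearGroup (Fin 2) K)
    (hb : A.1 0 1 ≠ 0) (hD : (A.1 0 0 + A.1 1 1) ^ 2 ≠ 4) :
    ∃ B : SpecialLinearGroup (Fin 2) K, B * A = A⁻¹ * B := by
  have hdet := A.2
  rw [Matrix.det_fin_two] at hdet
  set a := A.1 0 0 with ha
  set b := A.1 0 1 with hb'
  set c := A.1 1 0 with hc
  set d := A.1 1 1 with hd
  obtain ⟨X, Y, hXY⟩ := exists_quad h2 (e := -4 * b ^ 2) (sub_ne_zero.mpr hD)
  set x := (X + (a - d) * Y) / (2 * b) with hx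
  have hx' : 2 * b * x = X + (a - d) * Y := by
    rw [hx]; field_simp
  set z := -(x * (a - d) + Y * c) / b with hz
  have hz' : b * z = -(x * (a - d) + Y * c) := by
    rw [hz]; field_simp
  have h4 : (4 : K) ≠ 0 := by
    have : (4 : K) = 2 * 2 := by norm_num
    rw [this]; exact mul_ne_zero h2 h2
  have hdB : x * (-x) - Y * z = 1 := by
    have h5 : 4 * b ^ 2 * (x * (-x) - Y * z) = 4 * b ^ 2 * 1 := by
      have hX : X = 2 * b * x - (a - d) * Y := by rw [hx']; ring
      rw [hX] at hXY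
      linear_combination (-1 : K) * hXY - 4 * b * Y * hz' - 4 * Y ^ 2 * hdet
    exact mul_left_cancel₀ (mul_ne_zero h4 (pow_ne_zero 2 hb)) h5
  refine ⟨⟨!![x, Y; z, -x], by rw [Matrix.det_fin_two_of]; exact hdB⟩, ?_⟩
  apply Subtype.ext
  have hA : A.1 = !![a, b; c, d] := by
    ext i j
    fin_cases i <;> fin_cases j <;> rfl
  have hAi : (A⁻¹).1 = !![d, -b; -c, a] := by
    have : (A⁻¹).1 = A.1.adjugate := rfl
    rw [this, hA, Matrix.adjugate_fin_two_of]
  change !![x, Y; z, -x] * A.1 = (A⁻¹).1 * !![x, Y; z, -x]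
  rw [hA, hAi, Matrix.mul_fin_two, Matrix.mul_fin_two]
  ext i j
  fin_cases i <;> fin_cases j
  · simp
    linear_combination hz'
  · simp
    ring
  · simp
    ring
  · simp
    linear_combination hz'

theorem pow_eq_one_of_trace {p : ℕ} [Fact p.Prime] [CharP K p] (A : SpecialLinearGroup (Fin 2) K)
    (hD : (A.1 0 0 + A.1 1 1) ^ 2 = 4) : A ^ (2 * p) = 1 := by
  have hdet := A.2
  rw [Matrix.det_fin_two] at hdet
  have hp := (Fact.out : p.Prime)
  obtain ⟨e, he, htr⟩ : ∃ e : K, e * e = 1 ∧ A.1 0 0 + A.1 1 1 = 2 * e := by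
    have h1 : (A.1 0 0 + A.1 1 1 - 2) * (A.1 0 0 + A.1 1 1 + 2) = 0 := by linear_combination hD
    rcases mul_eq_zero.mp h1 with h | h
    · exact ⟨1, by ring, by linear_combination h⟩
    · exact ⟨-1, by ring, by linear_combination h⟩
  set N : Matrix (Fin 2) (Fin 2) K := A.1 - e • (1 : Matrix (Fin 2) (Fin 2) K) with hN
  have hN2 : N * N = 0 := by
    have hNe : N = !![A.1 0 0 - e, A.1 0 1; A.1 1 0, A.1 1 1 - e] := by
      ext i j
      fin_cases i <;> fin_cases j <;> simp [hN]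
    rw [hNe, Matrix.mul_fin_two]
    ext i j
    fin_cases i <;> fin_cases j
    · simp
      linear_combination (A.1 0 0) * htr - hdet + he
    · simp
      linear_combination (A.1 0 1) * htr
    · simp
      linear_combination (A.1 1 0) * htr
    · simp
      linear_combination (A.1 1 1) * htr - hdet + he
  have hA : A.1 = N + e • (1 : Matrix (Fin 2) (Fin 2) K) := by rw [hN, sub_add_cancel]
  have hcomm : Commute N (e • (1 : Matrix (Fin 2) (Fin 2) K)) := by
    change N * (e • (1 : Matrix (Fin 2) (Fin 2) K)) = (e • (1 : Matrix (Fin 2) (Fin 2) K)) * N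
    rw [mul_smul_comm, smul_mul_assoc, one_mul, mul_one]
  have hAp : A.1 ^ p = e ^ p • (1 : Matrix (Fin 2) (Fin 2) K) := by
    rw [hA, add_pow_char_of_commute p hcomm, _root_.smul_pow, one_pow]
    have : N ^ p = 0 := by
      obtain ⟨j, hj⟩ : ∃ j, p = 2 + j := ⟨p - 2, by have := hp.two_le; omega⟩
      rw [hj, pow_add, pow_two, hN2, zero_mul]
    rw [this, zero_add]
  apply Subtype.ext
  have h3 : (A ^ (2 * p)).1 = A.1 ^ (2 * p) := Matrix.SpecialLinearGroup.coe_pow A _
  rw [h3, mul_comm 2 p, pow_mul, hAp, _root_.smul_pow, one_pow, ← pow_mul, mul_comm p 2, pow_mul, pow_two,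
    he, one_pow, one_smul]
  rfl

theorem pow_of_zero (A : SpecialLinearGroup (Fin 2) K) (hb : A.1 0 1 = 0) (j : ℕ) :
    (A ^ j).1 0 0 = (A.1 0 0) ^ j ∧ (A ^ j).1 0 1 = 0 := by
  induction j with
  | zero => simp
  | succ j ih =>
    have h : (A ^ (j + 1)).1 = (A ^ j).1 * A.1 := by rw [pow_succ]; rfl
    rw [h]
    constructor
    · rw [Matrix.mul_apply, Fin.sum_univ_two, ih.1, ih.2, pow_succ]; ring
    · rw [Matrix.mul_apply, Fin.sum_univ_two, ih.2, hb]; ring

/-- **Elements of odd prime order dividing `q + 1` in `SL₂(q)` are inverted in `SL₂(q)`.** -/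
theorem exists_inv [Finite K] {q r : ℕ} (hK : Nat.card K = q) (hq : Odd q) (hr : r.Prime)
    (hr2 : r ≠ 2) (hrq : r ∣ q + 1) (A : SpecialLinearGroup (Fin 2) K) (hA : orderOf A = r) :
    ∃ B : SpecialLinearGroup (Fin 2) K, B * A = A⁻¹ * B := by
  classical
  have := Fintype.ofFinite K
  obtain ⟨p, hp⟩ := CharP.exists K
  obtain ⟨n, hpp, hcard⟩ := FiniteField.card K p
  have := Fact.mk hpp
  rw [Nat.card_eq_fintype_card] at hK
  rw [hK] at hcard
  have hpq : p ∣ q := hcard ▸ dvd_pow_self p n.ne_zero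
  have hp2 : p ≠ 2 := by
    rintro rfl
    exact (Nat.not_even_iff_odd.mpr hq) (even_iff_two_dvd.mpr hpq)
  have h2 : (2 : K) ≠ 0 := by
    intro h
    have h3 : ((2 : ℕ) : K) = 0 := by exact_mod_cast h
    rw [CharP.cast_eq_zero_iff K p] at h3
    exact hp2 ((Nat.prime_dvd_prime_iff_eq hpp Nat.prime_two).mp h3)
  have hD : (A.1 0 0 + A.1 1 1) ^ 2 ≠ 4 := by
    intro h
    have h3 := orderOf_dvd_of_pow_eq_one (pow_eq_one_of_trace (p := p) A h)
    rw [hA] at h3
    rcases (Nat.Prime.dvd_mul hr).mp h3 with h4 | h4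
    · exact hr2 ((Nat.prime_dvd_prime_iff_eq hr Nat.prime_two).mp h4)
    · have h5 := (Nat.prime_dvd_prime_iff_eq hr hpp).mp h4
      rw [h5] at hrq
      exact hpp.one_lt.ne' (Nat.dvd_one.mp ((Nat.dvd_add_right hpq).mp hrq))
  have hb : A.1 0 1 ≠ 0 := by
    intro h
    apply hD
    have hdet := A.2
    rw [Matrix.det_fin_two, h, zero_mul, sub_zero] at hdet
    have ha : A.1 0 0 ≠ 0 := left_ne_zero_of_mul_eq_one hdet
    have h3 : (A.1 0 0) ^ r = 1 := by
      rw [← (pow_of_zero A h r).1, ← hA, pow_orderOf_eq_one]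
      simp
    have h4 : (A.1 0 0) ^ (q - 1) = 1 := by
      rw [← hK]; exact FiniteField.pow_card_sub_one_eq_one _ ha
    have h5 : orderOf (A.1 0 0) ∣ 1 := by
      have h6 : Nat.Coprime r (q - 1) := by
        rw [hr.coprime_iff_not_dvd]
        intro h7
        have hq1 : 1 ≤ q := by rw [← hK]; exact Fintype.card_pos
        have h8 : r ∣ 2 := by
          have h9 : q + 1 = (q - 1) + 2 := by omega
          rw [h9] at hrq
          exact (Nat.dvd_add_right h7).mp hrq
        exact hr2 ((Nat.prime_dvd_prime_iff_eq hr Nat.prime_two).mp h8)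
      have h7 := Nat.dvd_gcd (orderOf_dvd_of_pow_eq_one h3) (orderOf_dvd_of_pow_eq_one h4)
      rwa [Nat.Coprime.gcd_eq_one h6] at h7
    have h6 : A.1 0 0 = 1 := orderOf_eq_one_iff.mp (Nat.dvd_one.mp h5)
    rw [h6, one_mul] at hdet
    rw [h6, hdet]; norm_num
  exact exists_conj_inv h2 A hb hD

/-- The only involution of `SL₂` in odd characteristic is `-1`. -/
theorem eq_neg_one (h2 : (2 : K) ≠ 0) (A : SpecialLinearGroup (Fin 2) K) (h : A * A = 1)
    (h1 : A ≠ 1) : A = -1 := by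
  have hinv : A⁻¹ = A := inv_eq_of_mul_eq_one_right h
  have hdet := A.2
  rw [Matrix.det_fin_two] at hdet
  have hA : A.1 = !![A.1 0 0, A.1 0 1; A.1 1 0, A.1 1 1] := by
    ext i j
    fin_cases i <;> fin_cases j <;> rfl
  have hAi : (A⁻¹).1 = !![A.1 1 1, -A.1 0 1; -A.1 1 0, A.1 0 0] := by
    have h3 : (A⁻¹).1 = A.1.adjugate := rfl
    rw [h3]
    conv_lhs => rw [hA]
    rw [Matrix.adjugate_fin_two_of]
  rw [hinv] at hAi
  have e1 : A.1 0 0 = A.1 1 1 := by
    have := congrFun (congrFun hAi 0) 0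
    simpa using this
  have e2 : A.1 0 1 = -A.1 0 1 := by
    have := congrFun (congrFun hAi 0) 1
    simpa using this
  have e3 : A.1 1 0 = -A.1 1 0 := by
    have := congrFun (congrFun hAi 1) 0
    simpa using this
  have f2 : A.1 0 1 = 0 := by
    have : 2 * A.1 0 1 = 0 := by linear_combination e2
    exact (mul_eq_zero.mp this).resolve_left h2
  have f3 : A.1 1 0 = 0 := by
    have : 2 * A.1 1 0 = 0 := by linear_combination e3
    exact (mul_eq_zero.mp this).resolve_left h2
  rw [← e1, f2, zero_mul, sub_zero] at hdet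
  have h4 : (A.1 0 0 - 1) * (A.1 0 0 + 1) = 0 := by linear_combination hdet
  rcases mul_eq_zero.mp h4 with h5 | h5
  · exfalso
    apply h1
    apply Subtype.ext
    rw [hA, ← e1, f2, f3, sub_eq_zero.mp h5]
    ext i j
    fin_cases i <;> fin_cases j <;> simp
  · apply Subtype.ext
    rw [hA, ← e1, f2, f3, eq_neg_of_add_eq_zero_left h5]
    ext i j
    fin_cases i <;> fin_cases j <;> simp

end Cfsg.Agent.Classification.IdU.InvSL
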