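import Mathlib
import Cfsg.Agent.Classification.IdU.FixZ
import Cfsg.Agent.Classification.IdU.InvSL
import Cfsg.Agent.ClassicalGeometry.PSL2Basic
import Cfsg.Agent.UThreeOdd.Final

/-!
# `SL₂(q)` is regular on the points outside `{a} ∪ X • b`
-/

set_option autoImplicit false

namespace Cfsg.Agent.Classification.IdU.Reg

open scoped Pointwise
open Cfsg.Agent.Classification.IdU.Defs Cfsg.Agent.Classification.IdU.Gen
  Cfsg.Agent.Classification.IdU.GenSylow Cfsg.Agent.Classification.IdU.Basic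
  Cfsg.Agent.Classification.IdU.BigP Cfsg.Agent.Classification.IdU.Abel
  Cfsg.Agent.Classification.IdU.Prim Cfsg.Agent.Classification.IdU.Global
  Cfsg.Agent.Classification.IdU.FixZ Cfsg.Agent.Classification.IdU.InvSL
  Cfsg.Agent.UThreeOdd.Act

section Fix

variable {G : Type*} [Group G] {t w : G} {p n m : ℕ} {X H Z : Subgroup G} {P : Subgroup G}

theorem t_a (L : LocHyp t p n m X H Z w) [Finite G] :
    t • (QuotientGroup.mk 1 : G ⧸ Subgroup.normalizer (X : Set G)) = QuotientGroup.mk 1 :=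
  ((mem_H_iff L).mp (L.Z_H L.t_Z)).1

theorem t_b (L : LocHyp t p n m X H Z w) [Finite G] :
    t • (QuotientGroup.mk w : G ⧸ Subgroup.normalizer (X : Set G)) = QuotientGroup.mk w :=
  ((mem_H_iff L).mp (L.Z_H L.t_Z)).2

theorem w_a : w • (QuotientGroup.mk 1 : G ⧸ Subgroup.normalizer (X : Set G)) =
    QuotientGroup.mk w := by
  change (QuotientGroup.mk (w * 1) : G ⧸ Subgroup.normalizer (X : Set G)) = _
  rw [mul_one]

theorem w_b (L : LocHyp t p n m X H Z w) :
    w • (QuotientGroup.mk w : G ⧸ Subgroup.normalizer (X : Set G)) = QuotientGroup.mk 1 := by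
  change (QuotientGroup.mk (w * w) : G ⧸ Subgroup.normalizer (X : Set G)) = _
  rw [L.w_sq]

/-- The fixed points of `1 ≠ k ∈ Z`. -/
theorem fix_Z [Finite G] [IsSimpleGroup G] (L : LocHyp t p n m X H Z w)
    (D : PData t p X P) (hP : p ^ (3 * n) ∣ Nat.card P) {k : G} (hk : k ∈ Z) (hk1 : k ≠ 1)
    (c : G ⧸ Subgroup.normalizer (X : Set G)) :
    k • c = c ↔ c = QuotientGroup.mk 1 ∨ ∃ x ∈ X, c = x • QuotientGroup.mk w := by
  have hkH := L.Z_H hk
  constructor
  · intro h
    by_cases hca : c = QuotientGroup.mk 1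
    · left; exact hca
    · right
      obtain ⟨x, hx, rfl⟩ := P_trans L D hP hca
      exact ⟨x, mem_X_of_comm L D hP hk hk1 hx ((fix_iff L D hkH hx).mp h), rfl⟩
  · rintro (rfl | ⟨x, hx, rfl⟩)
    · exact ((mem_H_iff L).mp hkH).1
    · rw [fix_iff L D hkH (PData.X_le L D hx)]
      exact (LH.Z_cent L hk hx).symm

/-- An element preserving the set of fixed points of `t` commutes with `t`. -/
theorem comm_of_fix [Finite G] [IsSimpleGroup G] (L : LocHyp t p n m X H Z w)
    (D : PData t p X P) (hP : p ^ (3 * n) ∣ Nat.card P) {y : G}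
    (hy : ∀ c : G ⧸ Subgroup.normalizer (X : Set G), t • c = c → t • y • c = y • c) :
    y * t = t * y := by
  have hwi : w⁻¹ = w := inv_eq_of_mul_eq_one_right L.w_sq
  have ha := hy _ (t_a L)
  have hb := hy _ (t_b L)
  -- an element of `C(t)` with the same action on `a` and `b`
  obtain ⟨c, hc, hca, hcb⟩ : ∃ c : G, c * t = t * c ∧
      c • (QuotientGroup.mk 1 : G ⧸ Subgroup.normalizer (X : Set G)) = y • QuotientGroup.mk 1 ∧
      c • (QuotientGroup.mk w : G ⧸ Subgroup.normalizer (X : Set G)) = y • QuotientGroup.mk w := by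
    -- first `a`
    obtain ⟨c, hc, hca⟩ : ∃ c : G, c * t = t * c ∧
        c • (QuotientGroup.mk 1 : G ⧸ Subgroup.normalizer (X : Set G)) = y • QuotientGroup.mk 1 := by
      rcases (fix_Z L D hP L.t_Z L.t_ne _).mp ha with h | ⟨x, hx, h⟩
      · exact ⟨1, by simp, by rw [one_smul, h]⟩
      · refine ⟨x * w, ?_, ?_⟩
        · rw [mul_assoc, L.w_t, ← mul_assoc, L.X_t x hx, mul_assoc]
        · rw [mul_smul, w_a, h]
    have h1 : t • (c⁻¹ * y) • (QuotientGroup.mk w : G ⧸ Subgroup.normalizer (X : Set G)) =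
        (c⁻¹ * y) • QuotientGroup.mk w := by
      rw [mul_smul]
      have h2 : t * c⁻¹ = c⁻¹ * t := by
        rw [eq_inv_mul_iff_mul_eq, ← mul_assoc, hc, mul_assoc, mul_inv_cancel, mul_one]
      rw [← mul_smul t c⁻¹, h2, mul_smul, hb]
    have h2 : (c⁻¹ * y) • (QuotientGroup.mk w : G ⧸ Subgroup.normalizer (X : Set G)) ≠
        QuotientGroup.mk 1 := by
      intro h
      have h3 : (c⁻¹ * y) • (QuotientGroup.mk 1 : G ⧸ Subgroup.normalizer (X : Set G)) =
          QuotientGroup.mk 1 := by rw [mul_smul, ← hca, inv_smul_smul]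
      exact b_ne_a L (MulAction.injective _ (h.trans h3.symm))
    rcases (fix_Z L D hP L.t_Z L.t_ne _).mp h1 with h | ⟨x, hx, h⟩
    · exact absurd h h2
    · refine ⟨c * x, ?_, ?_, ?_⟩
      · rw [mul_assoc, L.X_t x hx, ← mul_assoc, hc, mul_assoc]
      · rw [mul_smul, P_a D (PData.X_le L D hx), hca]
      · rw [mul_smul, ← h, mul_smul, smul_inv_smul]
  have h1 : c⁻¹ * y ∈ H := by
    rw [mem_H_iff L]
    constructor
    · rw [mul_smul, ← hca, inv_smul_smul]
    · rw [mul_smul, ← hcb, inv_smul_smul]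
  have h2 := L.H_t _ h1
  have h3 : y = c * (c⁻¹ * y) := by group
  rw [h3, mul_assoc, h2, ← mul_assoc, hc, mul_assoc]

end Fix

section SL

variable {G K : Type*} [Group G] [Field K] {t w : G} {p n m : ℕ} {X H Z : Subgroup G}
  {P : Subgroup G} {φ : Matrix.SpecialLinearGroup (Fin 2) K →* G}

theorem two_ne [Finite K] (S : SLHyp t p n m X H Z w φ) : (2 : K) ≠ 0 := by
  classical
  have := Fintype.ofFinite K
  intro h
  have h1 := S.card_K
  rw [Nat.card_eq_fintype_card] at h1
  obtain ⟨l, hl⟩ := CharP.exists K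
  have h3 : ((2 : ℕ) : K) = 0 := by exact_mod_cast h
  have h4 : ((Fintype.card K : ℕ) : K) = 0 := Nat.cast_card_eq_zero K
  rw [CharP.cast_eq_zero_iff K l] at h3 h4
  rw [h1] at h4
  have h5 : Odd (p ^ n) := S.odd_p.pow
  have h6 : Nat.Coprime 2 (p ^ n) := Nat.coprime_two_left.mpr h5
  have h7 := Nat.dvd_gcd h3 h4
  rw [Nat.Coprime.gcd_eq_one h6] at h7
  rw [Nat.dvd_one.mp h7] at hl
  exact CharP.char_ne_one K 1 rfl

theorem phi_t (S : SLHyp t p n m X H Z w φ) (A : Matrix.SpecialLinearGroup (Fin 2) K) :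
    φ A * t = t * φ A := by
  rw [← S.phi_neg, ← map_mul, ← map_mul]
  congr 1
  rw [mul_neg_one, neg_one_mul]

theorem phi_t_smul (S : SLHyp t p n m X H Z w φ) (A : Matrix.SpecialLinearGroup (Fin 2) K)
    (c : G ⧸ Subgroup.normalizer (X : Set G)) : t • φ A • c = φ A • t • c := by
  rw [← mul_smul, ← phi_t S, mul_smul]

/-- points moved by `t` -/
theorem t_move [Finite G] (L : LocHyp t p n m X H Z w) (D : PData t p X P) {x : G} (hx : x ∈ P)
    (hxX : x ∉ X) : t • x • (QuotientGroup.mk w : G ⧸ Subgroup.normalizer (X : Set G)) ≠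
      x • QuotientGroup.mk w := by
  intro h
  exact hxX (PData.fixed L D hx ((fix_iff L D (L.Z_H L.t_Z) hx).mp h).symm)

/-- no nontrivial element of `φ(SL₂)` fixes a point moved by `t`, for elements of prime order -/
theorem free_prime [Finite G] [IsSimpleGroup G] [Finite K] (S : SLHyp t p n m X H Z w φ)
    (D : PData t p X P) (hP : p ^ (3 * n) ∣ Nat.card P)
    {c : G ⧸ Subgroup.normalizer (X : Set G)} (hc : t • c ≠ c) {r : ℕ} (hr : r.Prime)
    {A : Matrix.SpecialLinearGroup (Fin 2) K} (hA : orderOf A = r) : φ A • c ≠ c := by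
  intro hfix
  have L := S.toLocHyp
  have hwi : w⁻¹ = w := inv_eq_of_mul_eq_one_right L.w_sq
  obtain ⟨g, hga, hgb⟩ := exists_pair L (Ne.symm hc)
  have htd : t • t • c = c := by rw [← mul_smul, L.t_sq, one_smul]
  have hfixd : φ A • t • c = t • c := by rw [← phi_t_smul S, hfix]
  -- `t' = g⁻¹ t g` swaps `a` and `b`
  set t' := g⁻¹ * t * g with ht'
  set k := g⁻¹ * φ A * g with hk
  have ht'a : t' • (QuotientGroup.mk 1 : G ⧸ Subgroup.normalizer (X : Set G)) =
      QuotientGroup.mk w := by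
    rw [ht', mul_smul, mul_smul, hga, ← hgb, inv_smul_smul]
  have ht'b : t' • (QuotientGroup.mk w : G ⧸ Subgroup.normalizer (X : Set G)) =
      QuotientGroup.mk 1 := by
    rw [ht', mul_smul, mul_smul, hgb, htd, ← hga, inv_smul_smul]
  have hkH : k ∈ H := by
    rw [mem_H_iff L]
    constructor
    · rw [hk, mul_smul, mul_smul, hga, hfix, ← hga, inv_smul_smul]
    · rw [hk, mul_smul, mul_smul, hgb, hfixd, ← hgb, inv_smul_smul]
  have hwt : w * t' ∈ H := by
    rw [mem_H_iff L]
    constructor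
    · rw [mul_smul, ht'a, w_b L]
    · rw [mul_smul, ht'b, w_a]
  have htk : t' * k = k * t' := by
    have h1 : g⁻¹ * t * g * (g⁻¹ * φ A * g) = g⁻¹ * (t * φ A) * g := by group
    have h2 : g⁻¹ * φ A * g * (g⁻¹ * t * g) = g⁻¹ * (φ A * t) * g := by group
    rw [ht', hk, h1, h2, phi_t S]
  have hwk : w * k * w = k := by
    have h1 : w * t' * k = k * (w * t') := H_comm L hwt hkH
    have h2 : w * k * t' = k * w * t' :=
      calc w * k * t' = w * (k * t') := mul_assoc _ _ _
        _ = w * (t' * k) := congrArg (w * ·) htk.symm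
        _ = w * t' * k := (mul_assoc _ _ _).symm
        _ = k * (w * t') := h1
        _ = k * w * t' := (mul_assoc _ _ _).symm
    have h3 : w * k = k * w := mul_right_cancel h2
    rw [h3, mul_assoc, L.w_sq, mul_one]
  have hkZ : k ∈ Z := L.w_fix k hkH hwk
  have hko : orderOf k = r := by
    have h1 : k = g⁻¹ * φ A * g⁻¹⁻¹ := by rw [hk, inv_inv]
    rw [h1, orderOf_conj_eq, orderOf_injective φ S.inj, hA]
  have hk1 : k ≠ 1 := by
    intro h
    rw [h, orderOf_one] at hko
    exact hr.one_lt.ne hko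
  have hrm : r ∣ p ^ n + 1 := by
    have h1 : r ∣ m := by rw [← hko, ← L.card_Z]; exact Subgroup.orderOf_dvd_natCard Z hkZ
    obtain ⟨z₀, -, h2⟩ := L.m_spec
    rw [← h2]; exact h1.mul_left _
  have hφA : φ A = g * k * g⁻¹ := by rw [hk]; group
  by_cases hr2 : r = 2
  · -- `A = -1`
    apply hc
    -- `φ A` is an involution of `φ (SL₂)`, so `t`
    have h3 : A * A = 1 := by
      have := pow_orderOf_eq_one A
      rw [hA, hr2, pow_two] at this
      exact this
    have hA1 : A ≠ 1 := by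
      rintro rfl
      rw [orderOf_one] at hA
      exact hr.one_lt.ne hA
    have h4 : A = -1 := eq_neg_one (two_ne S) A h3 hA1
    rw [h4, S.phi_neg] at hfix
    exact hfix
  · obtain ⟨B, hB⟩ := exists_inv S.card_K L.odd_p.pow hr hr2 hrm A hA
    set y := φ B with hy
    have hyl : y * φ A = (φ A)⁻¹ * y := by rw [hy, ← map_mul, hB, map_mul, map_inv]
    -- `g⁻¹ y g` preserves the fixed points of `t`
    have h1 : (g⁻¹ * y * g) * t = t * (g⁻¹ * y * g) := by
      apply comm_of_fix L D hP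
      intro c hc
      have h2 : k • c = c := (fix_Z L D hP hkZ hk1 c).mpr ((fix_Z L D hP L.t_Z L.t_ne c).mp hc)
      apply (fix_Z L D hP L.t_Z L.t_ne _).mpr
      apply (fix_Z L D hP hkZ hk1 _).mp
      have h3 : k * (g⁻¹ * y * g) = (g⁻¹ * y * g) * k⁻¹ := by
        have h4 : k * (g⁻¹ * y * g) = g⁻¹ * (φ A * y) * g := by rw [hk]; group
        have h5 : (g⁻¹ * y * g) * k⁻¹ = g⁻¹ * (y * (φ A)⁻¹) * g := by rw [hk]; group
        have h6 : φ A * y = y * (φ A)⁻¹ := by
          rw [eq_mul_inv_iff_mul_eq, mul_assoc, hyl, ← mul_assoc, mul_inv_cancel, one_mul]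
        rw [h4, h5, h6]
      rw [← mul_smul, h3, mul_smul]
      congr 1
      rw [inv_smul_eq_iff, h2]
    have h2 := L.Z_central k hkZ _ h1
    have h3 : y * φ A = φ A * y := by
      rw [hφA]
      have h4 : y * (g * k * g⁻¹) = g * ((g⁻¹ * y * g) * k) * g⁻¹ := by group
      have h5 : g * k * g⁻¹ * y = g * (k * (g⁻¹ * y * g)) * g⁻¹ := by group
      rw [h4, h5, h2]
    rw [hyl] at h3
    have h4 : (φ A)⁻¹ = φ A := mul_right_cancel h3
    have h5 : A * A = 1 := by
      apply S.inj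
      rw [map_mul, map_one]
      nth_rewrite 1 [← h4]
      rw [inv_mul_cancel]
    have h6 : r ∣ 2 := by
      rw [← hA]; exact orderOf_dvd_of_pow_eq_one (by rw [pow_two]; exact h5)
    exact hr2 ((Nat.prime_dvd_prime_iff_eq hr Nat.prime_two).mp h6)

/-- `φ(SL₂)` acts freely on the points moved by `t`. -/
theorem free [Finite G] [IsSimpleGroup G] [Finite K] (S : SLHyp t p n m X H Z w φ)
    (D : PData t p X P) (hP : p ^ (3 * n) ∣ Nat.card P)
    {c : G ⧸ Subgroup.normalizer (X : Set G)} (hc : t • c ≠ c)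
    {A : Matrix.SpecialLinearGroup (Fin 2) K} (hA : φ A • c = c) : A = 1 := by
  by_contra hA1
  have hfin : Finite (Matrix.SpecialLinearGroup (Fin 2) K) := inferInstance
  have h1 : orderOf A ≠ 1 := fun h => hA1 (orderOf_eq_one_iff.mp h)
  set r := (orderOf A).minFac with hr
  have hrp : r.Prime := Nat.minFac_prime h1
  obtain ⟨s, hs⟩ : r ∣ orderOf A := Nat.minFac_dvd _
  have hs0 : s ≠ 0 := by
    rintro rfl
    rw [mul_zero] at hs
    exact (orderOf_pos A).ne' hs
  have h2 : orderOf (A ^ s) = r := by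
    rw [orderOf_pow_of_dvd hs0 ⟨r, by rw [hs, mul_comm]⟩, hs, Nat.mul_div_cancel _ (Nat.pos_of_ne_zero hs0)]
  apply free_prime S D hP hc hrp h2
  rw [map_pow]
  have h3 : φ A ∈ MulAction.stabilizer G c := hA
  exact Subgroup.pow_mem _ h3 s

/-- the number of points moved by `t` -/
theorem card_move [Finite G] (L : LocHyp t p n m X H Z w)
    (D : PData t p X P) (hP : p ^ (3 * n) ∣ Nat.card P) :
    Nat.card {c : G ⧸ Subgroup.normalizer (X : Set G) // t • c ≠ c} = (p ^ n) ^ 3 - p ^ n := by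
  classical
  have := Fintype.ofFinite (G ⧸ Subgroup.normalizer (X : Set G))
  have h1 := card_fix L D hP (L.Z_H L.t_Z)
  have h2 : (P ⊓ Subgroup.centralizer {t} : Subgroup G) = X := by
    apply le_antisymm
    · rintro x ⟨hx1, hx2⟩
      exact PData.fixed L D hx1 (Subgroup.mem_centralizer_singleton_iff.mp hx2)
    · intro x hx
      exact ⟨PData.X_le L D hx, Subgroup.mem_centralizer_singleton_iff.mpr (L.X_t x hx)⟩
  rw [h2, L.card_X] at h1
  have h3 : Nat.card (G ⧸ Subgroup.normalizer (X : Set G)) = (p ^ n) ^ 3 + 1 := index_NX L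
  have h4 := Fintype.card_subtype_compl (fun c : G ⧸ Subgroup.normalizer (X : Set G) => t • c = c)
  rw [Nat.card_eq_fintype_card] at h1 h3 ⊢
  rw [h1, h3] at h4
  have h5 : Fintype.card {c : G ⧸ Subgroup.normalizer (X : Set G) // t • c ≠ c} =
    Fintype.card {c : G ⧸ Subgroup.normalizer (X : Set G) // ¬ t • c = c} := rfl
  rw [h5, h4]
  omega

/-- `φ(SL₂)` acts transitively on the points moved by `t`. -/
theorem trans [Finite G] [IsSimpleGroup G] [Finite K] (S : SLHyp t p n m X H Z w φ)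
    (D : PData t p X P) (hP : p ^ (3 * n) ∣ Nat.card P)
    {c d : G ⧸ Subgroup.normalizer (X : Set G)} (hc : t • c ≠ c) (hd : t • d ≠ d) :
    ∃ A : Matrix.SpecialLinearGroup (Fin 2) K, φ A • c = d := by
  classical
  have := Fintype.ofFinite K
  have L := S.toLocHyp
  have h3q := LH.three_le_q L
  let f : Matrix.SpecialLinearGroup (Fin 2) K →
      {c : G ⧸ Subgroup.normalizer (X : Set G) // t • c ≠ c} := fun A => ⟨φ A • c, by
    rw [phi_t_smul S]
    exact fun h => hc (MulAction.injective _ h)⟩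
  have hf : Function.Injective f := by
    intro A B hAB
    have h1 : φ A • c = φ B • c := congrArg Subtype.val hAB
    have h2 : φ (B⁻¹ * A) • c = c := by
      rw [map_mul, mul_smul, h1, map_inv, inv_smul_smul]
    have h3 := free S D hP hc h2
    exact (inv_mul_eq_one.mp h3).symm
  have hcard : Nat.card (Matrix.SpecialLinearGroup (Fin 2) K) =
      Nat.card {c : G ⧸ Subgroup.normalizer (X : Set G) // t • c ≠ c} := by
    rw [card_move L D hP, ClassicalGeometry.PSL2Basic.card_SL2, ← Nat.card_eq_fintype_card, S.card_K]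
    rw [Nat.mul_sub, mul_one]
    congr 1
    ring
  have hb : Function.Bijective f := (Nat.bijective_iff_injective_and_card f).mpr ⟨hf, hcard⟩
  obtain ⟨A, hA⟩ := hb.2 ⟨d, hd⟩
  exact ⟨A, congrArg Subtype.val hA⟩

/-- The action of `G` on `G ⧸ N(X)` satisfies the hypotheses of the recognition theorem. -/
theorem regAct [Finite G] [IsSimpleGroup G] [Finite K] (S : SLHyp t p n m X H Z w φ)
    (D : PData t p X P) (hP : p ^ (3 * n) ∣ Nat.card P) :
    RegAct (QuotientGroup.mk 1 : G ⧸ Subgroup.normalizer (X : Set G)) (QuotientGroup.mk w) P φ := by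
  have L := S.toLocHyp
  have hti : t⁻¹ = t := inv_eq_of_mul_eq_one_right L.t_sq
  have hX : ∀ x : G, (∀ z, x ≠ φ (UU z)) → x ∉ X := by
    intro x hx h
    obtain ⟨z, hz⟩ := S.exists_U x h
    exact hx z hz
  obtain ⟨h, hh, hN⟩ := S.phi_N
  have hh' := (mem_H_iff L).mp hh
  refine
    { two := two_ne S
      ne := b_ne_a L
      Q_a := fun x hx => P_a D hx
      Q_trans := fun c hc => P_trans L D hP hc
      Q_free := fun x hx h => P_free L D hx h
      Q_norm := fun g hg x hx => P_normal L D g (smul_a_iff.mp hg) x hx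
      U_mem := fun z => PData.X_le L D (S.phi_U z)
      U_comm := fun z x hx => PData.X_central D (S.phi_U z) hx
      inv := ?_
      N_a := ?_
      N_b := ?_
      D_a := fun l => ((mem_H_iff L).mp (S.phi_D l)).1
      D_b := fun l => ((mem_H_iff L).mp (S.phi_D l)).2
      stab := ?_
      trans := ?_
      free := ?_
      exists_not := ?_ }
  · intro x hx
    obtain ⟨z, hz⟩ := S.exists_U _ (PData.mul_conj_mem L D hx)
    refine ⟨z, ?_⟩
    rw [S.phi_neg, hti, ← hz]
    have h1 := PData.X_central D (PData.mul_conj_mem L D hx) (P.inv_mem hx)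
    rw [h1, ← mul_assoc, inv_mul_cancel, one_mul]
  · rw [hN, mul_smul, hh'.1, w_a]
  · rw [hN, mul_smul, hh'.2, w_b L]
  · intro g hg1 hg2 z
    obtain ⟨z', hz'⟩ := S.exists_U _ (L.H_norm g ((mem_H_iff L).mpr ⟨hg1, hg2⟩) _ (S.phi_U z))
    exact ⟨z', hz'⟩
  · intro x hx y hy hx1 hy1
    exact trans S D hP (t_move L D hx (hX x hx1)) (t_move L D hy (hX y hy1))
  · intro x hx hx1 A hA
    exact free S D hP (t_move L D hx (hX x hx1)) hA
  · obtain ⟨x, hx, hx1⟩ := P_ne_X L D hP
    refine ⟨x, hx, ?_⟩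
    rintro z rfl
    exact hx1 (S.phi_U z)

/-- **[ID-U], the local part.** A finite simple group satisfying `SLHyp` is `PSU₃(q)`. -/
theorem nonempty_mulEquiv_PSU [Finite G] [IsSimpleGroup G] [Finite K]
    (S : SLHyp t p n m X H Z w φ) {F : Type*} [Field F] [Fintype F]
    (hF : Fintype.card F = (p ^ n) ^ 2) : Nonempty (G ≃* Cfsg.PSU 3 F (p ^ n)) := by
  have := Fintype.ofFinite K
  obtain ⟨P, D, hP⟩ := exists_PData_full S.toLocHyp
  exact Cfsg.Agent.UThreeOdd.Final.nonempty_mulEquiv_PSU (regAct S D hP)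
    (by rw [← Nat.card_eq_fintype_card, S.card_K]) hF

end SL

end Cfsg.Agent.Classification.IdU.Reg
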