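import Mathlib
import Cfsg.Agent.Classification.IdU.Inst
import Cfsg.Agent.Classification.IdU.Reg
import Cfsg.Agent.Classification.InvCent.Fusion

/-!
# `PSU₃(q)` from the centralizer `GU₂(q)/Z₀` of an involution and its index

`G` finite simple, `C_G(t) ≃* GU₂(q)/Z₀`, `|G : C_G(t)| = q² (q² - q + 1)`. Then `G ≃* PSU₃(q)`.
-/

set_option autoImplicit false

namespace Cfsg.Agent.Classification.IdU.Main

open Cfsg.Agent.Classification.InvCent

variable {F : Type*} [Field F] [Fintype F] {q : ℕ} {G : Type*} [Group G] [Finite G]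
  [IsSimpleGroup G] {t : G}

/-- One class of involutions. -/
theorem one_class (hq : Odd q) (hF : Fintype.card F = q ^ 2)
    (Z₀ : Subgroup (Cfsg.GU 2 F q)) [Z₀.Normal] (hZc : Z₀ ≤ Subgroup.center (Cfsg.GU 2 F q))
    (hZo : Odd (Nat.card Z₀)) (ht : orderOf t = 2)
    (hC : Nonempty (Subgroup.centralizer ({t} : Set G) ≃* (Cfsg.GU 2 F q ⧸ Z₀)))
    (s : G) (hs : s * s = 1) (hs1 : s ≠ 1) : ∃ g, g * t * g⁻¹ = s := by
  obtain ⟨t', Z, T, T', U, s₁, s₂, u, r, b, htt, h, -, -⟩ :=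
    InstGU.exists_of_centralizer hq hF Z₀ hZc hZo ht hC
  have h2 : orderOf s = 2 := by
    rw [orderOf_eq_iff (by norm_num)]
    refine ⟨by rw [sq, hs], ?_⟩
    intro m hm hm0
    have : m = 1 := by omega
    rw [this, pow_one]
    exact hs1
  exact isConj_iff.mp (Fusion.isConj htt h s h2)

/-- **Identification of `PSU₃(q)`**: one centralizer and the order of `G`. -/
theorem nonempty_of_card (hq : Odd q) (hF : Fintype.card F = q ^ 2)
    (Z₀ : Subgroup (Cfsg.GU 2 F q)) [Z₀.Normal] (hZc : Z₀ ≤ Subgroup.center (Cfsg.GU 2 F q))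
    (hZo : Odd (Nat.card Z₀)) (ht : orderOf t = 2)
    (hC : Nonempty (Subgroup.centralizer ({t} : Set G) ≃* (Cfsg.GU 2 F q ⧸ Z₀)))
    (hG : Nat.card G = q ^ 2 * (q ^ 2 - q + 1) * Nat.card (Subgroup.centralizer ({t} : Set G))) :
    Nonempty (G ≃* Cfsg.PSU 3 F q) := by
  obtain ⟨σ, p, n, m, X, H, Z, w, φ, hqp, hK, S⟩ := Inst.exists_SLHyp hq hF Z₀ hZc hZo ht hC
    (one_class hq hF Z₀ hZc hZo ht hC) hG
  have hF' : Fintype.card F = (p ^ n) ^ 2 := by rw [hF, hqp]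
  have h := Reg.nonempty_mulEquiv_PSU S hF'
  rwa [← hqp] at h

/-- **Identification of `PSU₃(q)`**: one centralizer and its index. -/
theorem nonempty_of_index (hq : Odd q) (hF : Fintype.card F = q ^ 2)
    (Z₀ : Subgroup (Cfsg.GU 2 F q)) [Z₀.Normal] (hZc : Z₀ ≤ Subgroup.center (Cfsg.GU 2 F q))
    (hZo : Odd (Nat.card Z₀)) (ht : orderOf t = 2)
    (hC : Nonempty (Subgroup.centralizer ({t} : Set G) ≃* (Cfsg.GU 2 F q ⧸ Z₀)))
    (hi : (Subgroup.centralizer ({t} : Set G)).index = q ^ 2 * (q ^ 2 - q + 1)) :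
    Nonempty (G ≃* Cfsg.PSU 3 F q) := by
  apply nonempty_of_card hq hF Z₀ hZc hZo ht hC
  rw [← hi, Subgroup.index_mul_card]

end Cfsg.Agent.Classification.IdU.Main
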